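import Groth.Agent.L11.Bdd.Proper
import Groth.Agent.L22.Nef.Surjective
import Groth.Agent.S4278

/-!
# τ-equivalence on proper schemes
-/

set_option autoImplicit false
set_option backward.isDefEq.respectTransparency false
set_option backward.isDefEq.respectTransparency.types false
set_option linter.style.haveILetI false
set_option linter.unusedSectionVars false

universe u

open CategoryTheory CategoryTheory.Limits AlgebraicGeometry TopologicalSpace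

noncomputable section

namespace Groth.L11.Bdd

open Groth.L11.NumOrth (NT)
open Groth.L00.Tensor (tensorIso tensorComm tensorAssoc tensorUnitLeft tensorUnitRight)

variable (k : Type u) [Field k] [IsAlgClosed k] {X : Scheme.{u}} [X.Over (Spec (CommRingCat.of k))]
  [IsProper (X ↘ Spec (CommRingCat.of k))]

theorem isBounded_NT : Pic13.IsBounded k X (fun L : X.Modules => NT k L) := (bd_NT k X).isBounded

theorem isTauEquivZero_of_NT {L : X.Modules} (hL : NT k L) : Pic13.IsTauEquivZero k X L := by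
  obtain ⟨m, Φ, hΦ⟩ := Groth.L11.PicFam.exists_fams (fun (L : X.Modules) (h : NT k L) => h.1) (isBounded_NT k)
  exact Groth.L11.PicFam.isTauEquivZero_of_powers hL.1 Φ fun a => hΦ _ (hL.pow a)

theorem NT_of_tau {L : X.Modules} (hL : PicF.IsInvertible L) (h : Pic13.IsTauEquivZero k X L) : NT k L :=
  ⟨hL, Groth.Agent.S4278.result k X L hL h⟩

/-- Numerical triviality descends along surjective maps. -/
theorem NT_of_pullback {Y : Scheme.{u}} [Y.Over (Spec (CommRingCat.of k))] [IsProper (Y ↘ Spec (CommRingCat.of k))]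
    (f : Y ⟶ X) (hf : f ≫ (X ↘ Spec (CommRingCat.of k)) = Y ↘ Spec (CommRingCat.of k)) [Surjective f]
    {L : X.Modules} (hL : PicF.IsInvertible L) (h : NT k ((Scheme.Modules.pullback f).obj L)) : NT k L := by
  obtain ⟨Q, hQ, ⟨e⟩⟩ := Groth.L08.Cube.exists_inverse hL
  obtain ⟨h1, h2⟩ := (Groth.L11.NumOrth.numZero_iff_isNef k h.1 (Groth.L18.Ample.isInvertible_pullback f hQ)
    (Groth.L29.DC.PullTensor.pullTensor f L Q ≪≫ (Scheme.Modules.pullback f).mapIso e ≪≫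
      Groth.L29.LocFree.pullbackUnitIso f)).1 h.2
  exact ⟨hL, (Groth.L11.NumOrth.numZero_iff_isNef k hL hQ e).2
    ⟨Groth.L22.Nef.IsNef.of_pullback f hf hL h1, Groth.L22.Nef.IsNef.of_pullback f hf hQ h2⟩⟩

variable {k}

/-- Two members of a connected family differ by a module algebraically equivalent to zero. -/
theorem algEquivZero_of_mem {Φ : Groth.L11.PicFam.Fam k X} {L L₀ Q : X.Modules} (h : Φ.Mem L) (h₀ : Φ.Mem L₀)
    (hQ : PicF.IsInvertible Q) (e : CohB1.tensorMod L₀ Q ≅ Coh.structureModule X) :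
    Pic13.IsAlgEquivZero k X (CohB1.tensorMod L Q) := by
  obtain ⟨t, ht, ⟨et⟩⟩ := h
  obtain ⟨t₀, ht₀, ⟨e₀⟩⟩ := h₀
  let pr := pullback.fst (X ↘ Spec (CommRingCat.of k)) Φ.q
  let M' := CohB1.tensorMod Φ.M ((Scheme.Modules.pullback pr).obj Q)
  have hval : ∀ (t : Spec (CommRingCat.of k) ⟶ Φ.T) (ht : t ≫ Φ.q = 𝟙 _) (N : X.Modules),
      (Pic13.fibreMod k X Φ.q t ht Φ.M ≅ N) → Nonempty (Pic13.fibreMod k X Φ.q t ht M' ≅ CohB1.tensorMod N Q) :=
    fun t ht N e => ⟨(Groth.L29.DC.PullTensor.pullTensor (Pic13.sliceAt k X Φ.q t ht) Φ.M _).symm ≪≫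
      tensorIso e ((Scheme.Modules.pullbackComp _ pr).app Q ≪≫
        (Scheme.Modules.pullbackCongr (pullback.lift_fst _ _ _)).app Q ≪≫ (Scheme.Modules.pullbackId X).app Q)⟩
  obtain ⟨v₀⟩ := hval t₀ ht₀ _ e₀
  obtain ⟨v⟩ := hval t ht _ et
  exact ⟨Φ.T, Φ.q, Φ.conn, Φ.lft, Φ.qc, M',
    Groth.L18.GenLoc.isInvertible_tensor Φ.inv (Groth.L18.Ample.isInvertible_pullback pr hQ),
    t, t₀, ht, ht₀, ⟨v⟩, ⟨v₀ ≪≫ e⟩⟩

theorem tau_of_algEquivZero {L : X.Modules} (h : Pic13.IsAlgEquivZero k X L) : Pic13.IsTauEquivZero k X L := by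
  refine ⟨1, one_pos, ?_⟩
  obtain ⟨T, q, h1, h2, h3, M, hM, t, t₀, ht, ht₀, ⟨e⟩, h4⟩ := h
  exact ⟨T, q, h1, h2, h3, M, hM, t, t₀, ht, ht₀, ⟨e ≪≫ (tensorUnitLeft L).symm⟩, h4⟩

/-- Preimages of bounded families under multiplicative maps detecting numerical triviality are bounded. -/
theorem isBounded_preimage {Y : Scheme.{u}} [Y.Over (Spec (CommRingCat.of k))] [IsProper (Y ↘ Spec (CommRingCat.of k))]
    (F : X.Modules → Y.Modules) (hiso : ∀ {A B : X.Modules}, (A ≅ B) → Nonempty (F A ≅ F B))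
    (hunit : Nonempty (F (Coh.structureModule X) ≅ Coh.structureModule Y))
    (hmul : ∀ A B : X.Modules, Nonempty (F (CohB1.tensorMod A B) ≅ CohB1.tensorMod (F A) (F B)))
    (hinv : ∀ A, PicF.IsInvertible A → PicF.IsInvertible (F A))
    (hNT : ∀ A, PicF.IsInvertible A → NT k (F A) → NT k A)
    (P : Y.Modules → Prop) (hP : Pic13.IsBounded k Y P) :
    Pic13.IsBounded k X (fun M : X.Modules => PicF.IsInvertible M ∧ ∃ L : Y.Modules, P L ∧ Nonempty (F M ≅ L)) := by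
  classical
  haveI := Groth.L21.RR.isNoetherian_of_proper (X := X) k
  let P' : Y.Modules → Prop := fun L => P L ∧ ∃ M, PicF.IsInvertible M ∧ Nonempty (F M ≅ L)
  have hP'i : ∀ L, P' L → PicF.IsInvertible L := fun L ⟨_, M, hM, ⟨e⟩⟩ =>
    Groth.L18.Ample.isInvertible_of_iso e (hinv M hM)
  have hP'b : Pic13.IsBounded k Y P' := by
    obtain ⟨T, q, h1, h2, G, hG, h⟩ := hP
    exact ⟨T, q, h1, h2, G, hG, fun L hL => h L hL.1⟩
  obtain ⟨m, Φ, hΦ⟩ := Groth.L11.PicFam.exists_fams hP'i hP'b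
  let good := {j : Fin m // ∃ M L, PicF.IsInvertible M ∧ Nonempty (F M ≅ L) ∧ (Φ j).Mem L}
  have hg : ∀ j : good, ∃ M L, PicF.IsInvertible M ∧ Nonempty (F M ≅ L) ∧ (Φ j.1).Mem L := fun j => j.2
  choose M₀ L₀ hM₀ hF₀ hmem₀ using hg
  refine (Bd.iUnion (P := fun (j : good) (M : X.Modules) => ∃ N, NT k N ∧ Nonempty (CohB1.tensorMod (M₀ j) N ≅ M))
    (fun j => (bd_NT k X).tensor (Groth.L16.ProperFinite.isCoh_of_isInvertible (hM₀ j))) fun M hM => ?_).isBounded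
  obtain ⟨hMi, L, hL, ⟨eM⟩⟩ := hM
  obtain ⟨j, hj⟩ := hΦ L ⟨hL, M, hMi, ⟨eM⟩⟩
  let g : good := ⟨j, M, L, hMi, ⟨eM⟩, hj⟩
  obtain ⟨Q, hQ, ⟨eQ⟩⟩ := Groth.L08.Cube.exists_inverse (hM₀ g)
  obtain ⟨e₀⟩ := hF₀ g
  obtain ⟨u⟩ := hunit
  obtain ⟨m₀⟩ := hmul (M₀ g) Q
  obtain ⟨q₀⟩ := hiso eQ
  obtain ⟨m₁⟩ := hmul M Q
  have halg := algEquivZero_of_mem hj (hmem₀ g) (hinv Q hQ)
    (tensorIso e₀.symm (Iso.refl _) ≪≫ m₀.symm ≪≫ q₀ ≪≫ u)
  have hN : NT k (F (CohB1.tensorMod M Q)) := by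
    have hi := hinv _ (Groth.L18.GenLoc.isInvertible_tensor hMi hQ)
    refine NT_of_tau k hi ?_
    obtain ⟨n, hn, T, q, h1, h2, h3, G, hG, t, t₀, ht, ht₀, ⟨e⟩, h4⟩ := tau_of_algEquivZero halg
    exact ⟨n, hn, T, q, h1, h2, h3, G, hG, t, t₀, ht, ht₀,
      ⟨e ≪≫ Groth.L00.Tensor.tensorPowIso (tensorIso eM.symm (Iso.refl _) ≪≫ m₁.symm) n⟩, h4⟩
  exact ⟨g, CohB1.tensorMod M Q, hNT _ (Groth.L18.GenLoc.isInvertible_tensor hMi hQ) hN,
    ⟨(tensorAssoc (M₀ g) M Q).symm ≪≫ tensorIso (tensorComm (M₀ g) M) (Iso.refl Q) ≪≫ tensorAssoc M (M₀ g) Q ≪≫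
      tensorIso (Iso.refl M) eQ ≪≫ tensorUnitRight M⟩⟩

end Groth.L11.Bdd
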