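import Groth.Agent.L11.Bdd.Twists
import Groth.Agent.L11.Bdd.Tau
import Groth.Agent.L11.NumOrth.RestrictZero
import Groth.Agent.L03.SurfAdj.Embed
import Groth.Agent.L18.AmpleOps
import Groth.Agent.L18.AmpleGG
import Groth.Agent.L26.Pic0.Support
import Groth.Agent.L07.SyntOverField

/-!
# Boundedness and ample twists
-/

set_option autoImplicit false
set_option backward.isDefEq.respectTransparency false
set_option linter.style.haveILetI false
set_option linter.unusedSectionVars false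

universe u

open CategoryTheory CategoryTheory.Limits AlgebraicGeometry TopologicalSpace

noncomputable section

namespace Groth.L11.Bdd

open Groth.L16 Groth.L22.Nef Groth.L22.Inter Groth.L03.Euler Groth.L22.Big Groth.L11.NumOrth
open Groth.L00.Tensor (tensorMap tensorIso tensorAssoc tensorComm tensorUnitRight tensorUnitLeft tensorPowMul
  tensorPowAdd tensorPowIso)
open Groth.L18.Ample (isInvertible_tensorPow isAmple_of_iso isInvertible_pullback)
open Groth.L18.GenLoc (isInvertible_tensor)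

section Generic

variable {X : Scheme.{u}}

theorem isAmple_pow_tensor_of_le {H L : X.Modules} (hH : CohB1.IsAmple H) {N M : ℕ} (hNM : N ≤ M)
    (h : CohB1.IsAmple (CohB1.tensorMod (CohB1.tensorPow H N) L)) :
    CohB1.IsAmple (CohB1.tensorMod (CohB1.tensorPow H M) L) := by
  induction M, hNM using Nat.le_induction with
  | base => exact h
  | succ M _ ih =>
    refine isAmple_of_iso ?_ (Groth.L18.Ample.isAmple_tensor ih hH)
    exact tensorAssoc _ _ _ ≪≫ tensorIso (Iso.refl _) (tensorComm L H) ≪≫ (tensorAssoc _ H L).symm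

theorem pullback_pow {Y : Scheme.{u}} (f : Y ⟶ X) (H : X.Modules) : ∀ N : ℕ,
    Nonempty ((Scheme.Modules.pullback f).obj (CohB1.tensorPow H N) ≅
      CohB1.tensorPow ((Scheme.Modules.pullback f).obj H) N)
  | 0 => ⟨Groth.L29.LocFree.pullbackUnitIso f⟩
  | N + 1 => by
    obtain ⟨e⟩ := pullback_pow f H N
    exact ⟨(Groth.L29.DC.PullTensor.pullTensor f _ _).symm ≪≫ tensorIso e (Iso.refl _)⟩

/-- Both `L` and its inverse become ample after the twist by `H^N`. -/
def Good (H : X.Modules) (N : ℕ) (L : X.Modules) : Prop :=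
  PicF.IsInvertible L ∧ ∃ L', Nonempty (CohB1.tensorMod L L' ≅ Coh.structureModule X) ∧
    CohB1.IsAmple (CohB1.tensorMod (CohB1.tensorPow H N) L) ∧ CohB1.IsAmple (CohB1.tensorMod (CohB1.tensorPow H N) L')

theorem Good.pullback {Y : Scheme.{u}} (f : Y ⟶ X) [IsAffineHom f] {H : X.Modules} {N : ℕ} {L : X.Modules}
    (h : Good H N L) : Good ((Scheme.Modules.pullback f).obj H) N ((Scheme.Modules.pullback f).obj L) := by
  obtain ⟨hL, L', ⟨e⟩, hA, hA'⟩ := h
  obtain ⟨eH⟩ := pullback_pow f H N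
  refine ⟨isInvertible_pullback f hL, (Scheme.Modules.pullback f).obj L',
    ⟨Groth.L29.DC.PullTensor.pullTensor f L L' ≪≫ (Scheme.Modules.pullback f).mapIso e ≪≫
      Groth.L29.LocFree.pullbackUnitIso f⟩, ?_, ?_⟩
  · exact isAmple_of_iso ((Groth.L29.DC.PullTensor.pullTensor f _ L).symm ≪≫ tensorIso eH (Iso.refl _))
      (Groth.L18.Ample.isAmple_pullback_of_isAffineHom f hA)
  · exact isAmple_of_iso ((Groth.L29.DC.PullTensor.pullTensor f _ L').symm ≪≫ tensorIso eH (Iso.refl _))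
      (Groth.L18.Ample.isAmple_pullback_of_isAffineHom f hA')

theorem Good.mono {H : X.Modules} (hH : CohB1.IsAmple H) {N M : ℕ} (hNM : N ≤ M) {L : X.Modules}
    (h : Good H N L) : Good H M L := by
  obtain ⟨hL, L', e, hA, hA'⟩ := h
  exact ⟨hL, L', e, isAmple_pow_tensor_of_le hH hNM hA, isAmple_pow_tensor_of_le hH hNM hA'⟩

theorem Good.change {H H₁ : X.Modules} (hH : CohB1.IsAmple H) {e : ℕ} (he : 0 < e)
    (i : H₁ ≅ CohB1.tensorPow H e) {N : ℕ} {L : X.Modules} (h : Good H N L) : Good H₁ N L := by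
  obtain ⟨hL, L', eL, hA, hA'⟩ := h.mono hH (Nat.le_mul_of_pos_left N he)
  have j : CohB1.tensorPow H (e * N) ≅ CohB1.tensorPow H₁ N :=
    (tensorPowMul H e N).symm ≪≫ (tensorPowIso i N).symm
  exact ⟨hL, L', eL, isAmple_of_iso (tensorIso j (Iso.refl L)) hA, isAmple_of_iso (tensorIso j (Iso.refl L')) hA'⟩

end Generic

section Small

variable (k : Type u) [Field k] [IsAlgClosed k] {n : ℕ} {X : Scheme.{u}} [X.Over (Spec (CommRingCat.of k))]
  [IsProper (X ↘ Spec (CommRingCat.of k))] (i : X ⟶ CohB1.ProjSpace n k) [IsClosedImmersion i]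
  (hi : i ≫ CohB1.ProjSpace.toSpec n k = X ↘ Spec (CommRingCat.of k))

include hi in
/-- Boundedness in dimension at most two. -/
theorem isBounded_of_small (hdim : topologicalKrullDim X ≤ ((2 : ℕ) : WithBot ℕ∞)) (P : X.Modules → Prop)
    (hP : ∀ L, P L → PicF.IsInvertible L) (hneg : SecLE k i P)
    (hsym : ∀ L, P L → ∃ L', P L' ∧ Nonempty (CohB1.tensorMod L L' ≅ Coh.structureModule X))
    (hq : ∀ F : X.Modules, Coh.IsCoh F → topologicalKrullDim (CohB1.support F) ≤ ((2 : ℕ) : WithBot ℕ∞) →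
      ∃ c : ℚ, ∀ L L', P L → P L' → Nonempty (CohB1.tensorMod L L' ≅ Coh.structureModule X) → |q2 k L L' F| ≤ c) :
    Pic13.IsBounded k X P := by
  classical
  haveI := Groth.L21.RR.isNoetherian_of_proper (X := X) k
  let O := Coh.structureModule X
  have hO : Coh.IsCoh O := CohClosedPush.isCoh_structure
  have hsd : ∀ F : X.Modules, topologicalKrullDim (CohB1.support F) ≤ ((2 : ℕ) : WithBot ℕ∞) := fun F =>
    (topologicalKrullDim_subspace_le X _).trans hdim
  obtain ⟨m, hm⟩ := (chi_regP k i P hP hneg hsym hq hi 3 le_rfl O hO (dim_succ_iff.2 (hsd O))).2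
  have hC : ∀ j : ℤ, ∃ C : ℤ, ∀ L, P L → |Curv2.euler k X (Pic13.twistOn k i L j)| ≤ C := fun j => by
    obtain ⟨C, hC⟩ := (chi_regP k i P hP hneg hsym hq hi 3 le_rfl _ (Groth.L22.Reg.isCoh_twistOn i hO j)
      (dim_succ_iff.2 (hsd _))).1
    refine ⟨C, fun L hL => ?_⟩
    rw [← euler_iso (k := k) (show CohB1.tensorMod (Pic13.twistOn k i O j) L ≅ Pic13.twistOn k i L j from
      tensorIso (tensorUnitLeft _) (Iso.refl L) ≪≫ tensorComm _ _)]
    exact hC L hL
  choose C hC using hC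
  -- one polynomial for each triple of values
  let Val : (Fin 3 → ℤ) → Prop := fun v => ∃ φ : Polynomial ℚ, φ.natDegree ≤ 2 ∧ ∀ j : Fin 3, φ.eval (j : ℚ) = v j
  let ι := {v : Fin 3 → ℤ // v ∈ Fintype.piFinset (fun j : Fin 3 => Finset.Icc (-C (j : ℕ)) (C (j : ℕ))) ∧ Val v}
  haveI : Finite ι := Finite.of_injective
    (fun v : ι => (⟨v.1, v.2.1⟩ : ↥(Fintype.piFinset (fun j : Fin 3 => Finset.Icc (-C (j : ℕ)) (C (j : ℕ))))))
    fun a b h => Subtype.ext (congrArg (fun x => x.1) h)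
  choose φ hφd hφ using fun v : ι => v.2.2
  refine (Bd.iUnion (P := fun v : ι => fun L : X.Modules => Coh.IsCoh L ∧ Pic13.IsMRegular k i L m ∧
      ∀ d : ℤ, (FGA.eulerCharLE k X (Pic13.twistOn k i L d) n : ℚ) = (φ v).eval (d : ℚ))
    (fun v => Bd.of_isBounded (Groth.L11.Bounded.isBounded_mRegular i hi m (φ v))) fun L hL => ?_).isBounded
  have hLc : Coh.IsCoh L := Groth.L16.ProperFinite.isCoh_of_isInvertible (hP L hL)
  obtain ⟨ψ, hψ⟩ := exists_poly_twist k i hLc
  have hψd : ψ.natDegree ≤ 2 := by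
    obtain ⟨Q, hQd, hQ⟩ := exists_isHilbPoly (k := k) (isInvertible_OX i 1) hLc (hsd L)
    rw [show ψ = Q from Groth.L03.Euler.eq_of_eventually_eval_eq 0 fun j _ => ?_]
    · exact hQd
    obtain ⟨e⟩ := nonempty_pow_OX i j
    have h1 := hψ j
    rw [← euler_iso (k := k) (show CohB1.tensorMod L (CohB1.tensorPow (OX i 1) j) ≅ Pic13.twistOn k i L (j : ℤ) from
      tensorIso (Iso.refl L) e), Int.cast_natCast] at h1
    rw [← h1]
    exact hQ j
  let v : Fin 3 → ℤ := fun j => Curv2.euler k X (Pic13.twistOn k i L ((j : ℕ) : ℤ))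
  have hv : ∀ j : Fin 3, ψ.eval (j : ℚ) = v j := fun j => by
    have h1 := hψ ((j : ℕ) : ℤ)
    rw [Int.cast_natCast] at h1
    exact h1.symm
  let w : ι := ⟨v, Fintype.mem_piFinset.2 fun j => Finset.mem_Icc.2 (abs_le.1 (hC _ L hL)), ψ, hψd, hv⟩
  have hw : φ w = ψ := by
    refine Polynomial.eq_of_natDegree_lt_card_of_eval_eq _ _ (ι := Fin 3) (f := fun j => ((j : ℕ) : ℚ)) ?_
      (fun j => (hφ w j).trans (hv j).symm) ?_
    · exact fun a b h => Fin.ext (Nat.cast_injective h)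
    · rw [Fintype.card_fin]; have := hφd w; omega
  refine ⟨w, hLc, ?_, fun d => ?_⟩
  · exact fun p hp => (Groth.L22.Reg.subsingleton_congr_iso (tensorIso (tensorUnitLeft L) (Iso.refl _)) p).1
      (hm L hL p hp)
  · rw [Groth.L22.Inter.eulerCharLE_eq k (dim_le_ambient k i), hw]
    exact hψ d

include hi in
/-- Good modules in dimension at most two. -/
theorem isBounded_good_small (hdim : topologicalKrullDim X ≤ ((2 : ℕ) : WithBot ℕ∞)) (N : ℕ) :
    Pic13.IsBounded k X (fun L => Good (OX i 1) N L) := by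
  haveI := Groth.L21.RR.isNoetherian_of_proper (X := X) k
  refine isBounded_of_small k i hi hdim _ (fun L hL => hL.1)
    (secLE_of_degLE k i _ (j₀ := -(N : ℤ)) ?_ fun L hL => hL.1) ?_ ?_
  · rintro L ⟨hL, L', ⟨e⟩, -, hA'⟩ y hy
    obtain ⟨eN⟩ := nonempty_pow_OX i N
    obtain ⟨ea⟩ := nonempty_OX_add i (show -(N : ℤ) + N = (0 : ℤ) by omega)
    obtain ⟨e0⟩ := nonempty_OX_zero i
    let A := CohB1.tensorMod L (OX i (-(N : ℤ)))
    let A' := CohB1.tensorMod (CohB1.tensorPow (OX i 1) N) L'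
    have hAi : PicF.IsInvertible A := isInvertible_tensor hL (isInvertible_OX i _)
    have eAA : CohB1.tensorMod A A' ≅ Coh.structureModule X :=
      tensorAssoc L _ A' ≪≫ tensorIso (Iso.refl L) ((tensorAssoc _ _ L').symm ≪≫
        tensorIso (tensorIso (Iso.refl _) eN ≪≫ ea ≪≫ e0) (Iso.refl L') ≪≫ tensorUnitLeft L') ≪≫ e
    have h1 := Groth.L02.Num.deg_tensor (k := k) hAi hA'.1 y hy
    rw [altT_congr k (fun _ => ⟨eAA⟩), Groth.L02.Num.deg_unit] at h1
    have h2 := (IsNef.of_isAmple (k := k) hA').2 _ hy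
    linarith
  · rintro L ⟨hL, L', ⟨e⟩, hA, hA'⟩
    obtain ⟨Q, hQ, ⟨eQ⟩⟩ := Groth.L08.Cube.exists_inverse hL
    have j : L' ≅ Q := (tensorUnitLeft L').symm ≪≫ tensorIso (eQ.symm ≪≫ tensorComm L Q) (Iso.refl L') ≪≫
      tensorAssoc Q L L' ≪≫ tensorIso (Iso.refl Q) e ≪≫ tensorUnitRight Q
    exact ⟨L', ⟨Groth.L18.Ample.isInvertible_of_iso j.symm hQ, L, ⟨tensorComm L' L ≪≫ e⟩, hA', hA⟩, ⟨e⟩⟩
  · intro F hF hd
    refine ⟨3 * (N : ℚ) ^ 2 * q2 k (OX i 1) (OX i 1) F, ?_⟩
    rintro L L' ⟨hL, M, ⟨eM⟩, hA, hA'⟩ ⟨hL', -⟩ ⟨e⟩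
    have j : M ≅ L' := (tensorUnitLeft M).symm ≪≫ tensorIso (e.symm ≪≫ tensorComm L L') (Iso.refl M) ≪≫
      tensorAssoc L' L M ≪≫ tensorIso (Iso.refl L') eM ≪≫ tensorUnitRight L'
    exact abs_q2_le k hF hd hL hL' (isAmple_OX_one i) e (isAmple_of_iso (tensorComm _ L) hA)
      (isAmple_of_iso (tensorComm _ M ≪≫ tensorIso j (Iso.refl _)) hA')

end Small

variable (k : Type u) [Field k] [IsAlgClosed k]

section Cover

variable {X : Scheme.{u}} [X.Over (Spec (CommRingCat.of k))] [IsProper (X ↘ Spec (CommRingCat.of k))]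

/-- Modules with bounded restrictions to the pieces of a finite closed cover form a bounded family when they detect numerical triviality. -/
theorem isBounded_of_detect {ι : Type u} [Finite ι] (Z : ι → Scheme.{u}) (z : ∀ a, Z a ⟶ X)
    [∀ a, IsClosedImmersion (z a)] (hdet : ∀ L : X.Modules, PicF.IsInvertible L →
      (∀ (a : ι) (y : Z a), topologicalKrullDim (closure ({z a y} : Set X)) = (1 : ℕ) →
        altT k (fun _ : Fin 1 => L) (ClSub.quotMod (pt (z a y))) = 0) → NT k L)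
    (P : X.Modules → Prop) (hP : ∀ L, P L → PicF.IsInvertible L)
    (hb : ∀ a, @Pic13.IsBounded k _ (Z a) ⟨z a ≫ (X ↘ Spec (CommRingCat.of k))⟩
      (fun M => ∃ L, P L ∧ Nonempty ((Scheme.Modules.pullback (z a)).obj L ≅ M))) :
    Pic13.IsBounded k X P := by
  classical
  haveI := Groth.L21.RR.isNoetherian_of_proper (X := X) k
  letI iZ : ∀ a, (Z a).Over (Spec (CommRingCat.of k)) := fun a => ⟨z a ≫ (X ↘ Spec (CommRingCat.of k))⟩
  haveI : ∀ a, IsProper (Z a ↘ Spec (CommRingCat.of k)) := fun a =>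
    inferInstanceAs (IsProper (z a ≫ (X ↘ Spec (CommRingCat.of k))))
  have hfam : ∀ a, ∃ (m : ℕ) (Φ : Fin m → Groth.L11.PicFam.Fam k (Z a)),
      ∀ M, (∃ L, P L ∧ Nonempty ((Scheme.Modules.pullback (z a)).obj L ≅ M)) → ∃ j, (Φ j).Mem M := fun a =>
    Groth.L11.PicFam.exists_fams (fun M ⟨L, hL, ⟨e⟩⟩ =>
      Groth.L18.Ample.isInvertible_of_iso e (isInvertible_pullback (z a) (hP L hL))) (hb a)
  choose m Φ hΦ using hfam
  let good := {j : ∀ a, Fin (m a) // ∃ M, P M ∧ ∀ a, (Φ a (j a)).Mem ((Scheme.Modules.pullback (z a)).obj M)}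
  have hg : ∀ j : good, ∃ M, P M ∧ ∀ a, (Φ a (j.1 a)).Mem ((Scheme.Modules.pullback (z a)).obj M) := fun j => j.2
  choose M₀ hM₀ hmem₀ using hg
  refine (Bd.iUnion (P := fun (j : good) (M : X.Modules) => ∃ N, NT k N ∧ Nonempty (CohB1.tensorMod (M₀ j) N ≅ M))
    (fun j => (bd_NT k X).tensor (Groth.L16.ProperFinite.isCoh_of_isInvertible (hP _ (hM₀ j)))) fun M hM => ?_).isBounded
  choose j hj using fun a => hΦ a _ ⟨M, hM, ⟨Iso.refl _⟩⟩
  let g : good := ⟨j, M, hM, hj⟩
  obtain ⟨Q, hQ, ⟨eQ⟩⟩ := Groth.L08.Cube.exists_inverse (hP _ (hM₀ g))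
  have hi := isInvertible_tensor (hP M hM) hQ
  refine ⟨g, CohB1.tensorMod M Q, hdet _ hi (fun a y' hy => ?_),
    ⟨(tensorAssoc (M₀ g) M Q).symm ≪≫ tensorIso (tensorComm (M₀ g) M) (Iso.refl Q) ≪≫ tensorAssoc M (M₀ g) Q ≪≫
      tensorIso (Iso.refl M) eQ ≪≫ tensorUnitRight M⟩⟩
  have halg := algEquivZero_of_mem (hj a) (hmem₀ g a) (isInvertible_pullback (z a) hQ)
    (Groth.L29.DC.PullTensor.pullTensor (z a) (M₀ g) Q ≪≫ (Scheme.Modules.pullback (z a)).mapIso eQ ≪≫
      Groth.L29.LocFree.pullbackUnitIso (z a))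
  have hiZ := isInvertible_pullback (z a) hi
  have hN : NT k ((Scheme.Modules.pullback (z a)).obj (CohB1.tensorMod M Q)) := by
    refine NT_of_tau k hiZ ?_
    obtain ⟨n, hn, T, q, h1, h2, h3, G, hG, t, t₀, ht, ht₀, ⟨e⟩, h4⟩ := tau_of_algEquivZero halg
    exact ⟨n, hn, T, q, h1, h2, h3, G, hG, t, t₀, ht, ht₀,
      ⟨e ≪≫ Groth.L00.Tensor.tensorPowIso (Groth.L29.DC.PullTensor.pullTensor (z a) M Q) n⟩, h4⟩
  have hy' : topologicalKrullDim (closure ({y'} : Set (Z a))) = (1 : ℕ) := by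
    rw [← dim_closure_map (z a).isClosedEmbedding]; exact hy
  rw [← deg_pullback_closed k (z a) rfl hi y' hy']
  exact hN.deg hy'

/-- Modules with bounded restrictions to the pieces of a finite closed cover form a bounded family. -/
theorem isBounded_of_cover {ι : Type u} [Finite ι] (Z : ι → Scheme.{u}) (z : ∀ a, Z a ⟶ X)
    [∀ a, IsClosedImmersion (z a)] (hcov : ∀ x : X, ∃ a, x ∈ Set.range (z a))
    (P : X.Modules → Prop) (hP : ∀ L, P L → PicF.IsInvertible L)
    (hb : ∀ a, @Pic13.IsBounded k _ (Z a) ⟨z a ≫ (X ↘ Spec (CommRingCat.of k))⟩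
      (fun M => ∃ L, P L ∧ Nonempty ((Scheme.Modules.pullback (z a)).obj L ≅ M))) :
    Pic13.IsBounded k X P :=
  haveI := Groth.L21.RR.isNoetherian_of_proper (X := X) k
  isBounded_of_detect k Z z (fun L hL h => ⟨hL, (numZero_iff k hL).2 fun y hy => by
    obtain ⟨a, y', rfl⟩ := hcov y
    exact h a y' hy⟩) P hP hb

end Cover

/-- Good modules form a bounded family. -/
theorem isBounded_good : ∀ (e : ℕ) (X : Scheme.{u}) [X.Over (Spec (CommRingCat.of k))]
    [IsProper (X ↘ Spec (CommRingCat.of k))], topologicalKrullDim X ≤ ((e + 2 : ℕ) : WithBot ℕ∞) →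
    ∀ (H : X.Modules), CohB1.IsAmple H → ∀ N : ℕ, Pic13.IsBounded k X (fun L => Good H N L) := by
  intro e
  induction e with
  | zero =>
    intro X _ _ hd H hH N
    obtain ⟨m₀, hm⟩ := Groth.L03.SurfAdj.exists_embedding k hH
    obtain ⟨n, ι, hιc, hι, ⟨e⟩⟩ := hm (m₀ + 1) (Nat.le_succ _)
    haveI := hιc
    obtain ⟨T, q, h1, h2, G, hG, h⟩ := isBounded_good_small k ι hι hd N
    exact ⟨T, q, h1, h2, G, hG, fun L hL => h L (hL.change hH (Nat.succ_pos m₀) e)⟩
  | succ e ih =>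
    intro X _ _ hd H hH N
    classical
    haveI := Groth.L21.RR.isNoetherian_of_proper (X := X) k
    obtain ⟨S, hSf, hSc, hSi, hSu⟩ := NoetherianSpace.exists_finite_set_isClosed_irreducible (isClosed_univ (X := X))
    haveI : Finite ↥S := hSf.to_subtype
    let gp : ↥S → X := fun C => (hSi C.1 C.2).genericPoint
    refine isBounded_of_cover k (ι := ↥S) (fun C => (pt (gp C)).subscheme) (fun C => (pt (gp C)).subschemeι)
      (fun x => by
        obtain ⟨C, hC, hxC⟩ := Set.mem_sUnion.1 (hSu ▸ Set.mem_univ x)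
        exact ⟨⟨C, hC⟩, by rw [range_pt, (hSi C hC).closure_genericPoint (hSc C hC)]; exact hxC⟩)
      _ (fun L hL => hL.1) fun C => ?_
    let z := (pt (gp C)).subschemeι
    let Z := (pt (gp C)).subscheme
    haveI : IsIntegral Z := isIntegral_pt _
    letI : Z.Over (Spec (CommRingCat.of k)) := ⟨z ≫ (X ↘ Spec (CommRingCat.of k))⟩
    haveI : IsProper (Z ↘ Spec (CommRingCat.of k)) :=
      inferInstanceAs (IsProper (z ≫ (X ↘ Spec (CommRingCat.of k))))
    haveI := Groth.L21.RR.isNoetherian_of_proper (X := Z) k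
    let HZ := (Scheme.Modules.pullback z).obj H
    have hHZ : CohB1.IsAmple HZ := Groth.L18.Ample.isAmple_pullback_of_isAffineHom z hH
    have hdZ : topologicalKrullDim Z ≤ ((e + 1 + 2 : ℕ) : WithBot ℕ∞) :=
      z.isClosedEmbedding.isInducing.topologicalKrullDim_le.trans hd
    suffices h : Pic13.IsBounded k Z (fun M => Good HZ N M) by
      obtain ⟨T, q, h1, h2, G, hG, h⟩ := h
      refine ⟨T, q, h1, h2, G, hG, fun M hM => ?_⟩
      obtain ⟨L, hL, ⟨eL⟩⟩ := hM
      obtain ⟨hi, L', ⟨eLL⟩, hA, hA'⟩ := hL.pullback z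
      exact h M ⟨Groth.L18.Ample.isInvertible_of_iso eL hi, L', ⟨tensorIso eL.symm (Iso.refl _) ≪≫ eLL⟩,
        isAmple_of_iso (tensorIso (Iso.refl _) eL) hA, hA'⟩
    by_cases hlow : topologicalKrullDim Z ≤ ((e + 2 : ℕ) : WithBot ℕ∞)
    · exact ih Z hlow HZ hHZ N
    have hdeq : topologicalKrullDim Z = ((e + 1 + 2 : ℕ) : WithBot ℕ∞) := by
      refine le_antisymm hdZ (le_of_not_gt fun hlt => hlow ?_)
      have h1 := Groth.L22.Inter.add_one_le_of_lt hlt
      generalize topologicalKrullDim Z = t at h1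
      induction t using WithBot.recBotCoe with
      | bot => exact bot_le
      | coe t =>
        change ((t + 1 : ℕ∞) : WithBot ℕ∞) ≤ (((e + 1 + 2 : ℕ) : ℕ∞) : WithBot ℕ∞) at h1
        change (t : WithBot ℕ∞) ≤ (((e + 2 : ℕ) : ℕ∞) : WithBot ℕ∞)
        rw [WithBot.coe_le_coe] at h1 ⊢
        rw [show e + 1 + 2 = (e + 2) + 1 by omega, Nat.cast_succ] at h1
        exact (ENat.add_le_add_iff_right (by simp)).1 h1
    obtain ⟨m₀, hm⟩ := Groth.L03.SurfAdj.exists_embedding k hHZ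
    obtain ⟨n, ι, hιc, hι, ⟨eι⟩⟩ := hm (m₀ + 1) (Nat.le_succ _)
    haveI := hιc
    let O1 := OX ι 1
    have hO1 : CohB1.IsAmple O1 := isAmple_OX_one ι
    obtain ⟨φ, hφ⟩ := exists_section_avoiding ι (S := {genericPoint Z}) (Set.finite_singleton _)
    have hη : genericPoint Z ∈ CohB1.genLocus O1 φ := hφ rfl
    let W := (PicF2.zeroScheme O1 φ).subscheme
    let w := (PicF2.zeroScheme O1 φ).subschemeι
    have hrange : Set.range w = (CohB1.genLocus O1 φ : Set Z)ᶜ := by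
      rw [← Groth.L22.ZeroScheme.support_zeroScheme hO1.1 φ]
      exact Scheme.IdealSheafData.range_subschemeι _
    letI : W.Over (Spec (CommRingCat.of k)) := ⟨w ≫ (Z ↘ Spec (CommRingCat.of k))⟩
    haveI : IsProper (W ↘ Spec (CommRingCat.of k)) :=
      inferInstanceAs (IsProper (w ≫ (Z ↘ Spec (CommRingCat.of k))))
    have hdW : topologicalKrullDim W ≤ ((e + 2 : ℕ) : WithBot ℕ∞) := by
      refine le_trans (le_of_eq ?_) (dim_le_of_generic_notMem (S := Set.range w) w.isClosedEmbedding.isClosed_range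
        (fun h => by rw [hrange] at h; exact h hη) hdZ)
      exact IsHomeomorph.topologicalKrullDim_eq _ w.isEmbedding.toHomeomorph.isHomeomorph
    have hcomp : ∀ Z₁ ∈ irreducibleComponents (Z : Type u),
        ∀ C₁ ∈ irreducibleComponents ↥(Z₁ ∩ Set.range w.base), 2 ≤ topologicalKrullDim ↥C₁ := by
      intro Z₁ hZ₁ C₁ hC₁
      obtain rfl : Z₁ = Set.univ := Set.eq_univ_of_univ_subset
        (hZ₁.2 (IrreducibleSpace.isIrreducible_univ _) (Set.subset_univ _))
      have hS : IsClosed (Set.univ ∩ Set.range w.base) := isClosed_univ.inter w.isClosedEmbedding.isClosed_range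
      have hCi : IsIrreducible (Subtype.val '' C₁) := hC₁.1.image _ continuous_subtype_val.continuousOn
      have hCc : IsClosed (Subtype.val '' C₁) :=
        hS.isClosedMap_subtype_val _ (isClosed_of_mem_irreducibleComponents C₁ hC₁)
      obtain ⟨c, hc⟩ := QuasiSober.sober hCi hCc
      obtain ⟨c₁, hc₁C, hc₁⟩ : c ∈ Subtype.val '' C₁ := hc.def ▸ subset_closure rfl
      have hcgen : c ∉ CohB1.genLocus O1 φ := by
        have h : c ∈ Set.range w := hc₁ ▸ c₁.2.2
        rw [hrange] at h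
        exact h
      obtain ⟨r, hr, hr'⟩ := dim_closure_eq_add_one k hO1.1 φ hη
        (z := c) (by rw [(genericPoint_spec Z).def]; trivial) hcgen fun b _ hb hbc => by
          have hbS : b ∈ Set.univ ∩ Set.range w.base := ⟨trivial, show b ∈ Set.range w from hrange ▸ hb⟩
          have hD : IsIrreducible ((Subtype.val : ↥(Set.univ ∩ Set.range w.base) → Z) ⁻¹' closure ({b} : Set Z)) := by
            have : ((Subtype.val : ↥(Set.univ ∩ Set.range w.base) → Z) ⁻¹' closure ({b} : Set Z)) = closure {⟨b, hbS⟩} := by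
              rw [(Topology.IsInducing.subtypeVal (t := Set.univ ∩ Set.range w.base)).closure_eq_preimage_closure_image {⟨b, hbS⟩}, Set.image_singleton]
            rw [this]
            exact isIrreducible_singleton.closure
          have hle : C₁ ⊆ (Subtype.val : ↥(Set.univ ∩ Set.range w.base) → Z) ⁻¹' closure ({b} : Set Z) := fun x hx =>
            closure_minimal (Set.singleton_subset_iff.2 (specializes_iff_mem_closure.1 hbc)) isClosed_closure
              (show x.1 ∈ closure {c} from hc.def ▸ ⟨x, hx, rfl⟩)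
          have h2 := hC₁.2 hD hle
          have h3 : b ∈ closure ({c} : Set Z) :=
            hc.def ▸ (show b ∈ Subtype.val '' C₁ from ⟨⟨b, hbS⟩, h2 (subset_closure rfl), rfl⟩)
          exact (hbc.antisymm (specializes_iff_mem_closure.2 h3)).eq
      rw [(genericPoint_spec Z).def, IsHomeomorph.topologicalKrullDim_eq _ (Homeomorph.Set.univ Z).isHomeomorph,
        hdeq] at hr'
      have hre : r = e + 2 := by have : e + 1 + 2 = r + 1 := (by exact_mod_cast hr'); omega
      rw [IsHomeomorph.topologicalKrullDim_eq _ (Topology.IsEmbedding.subtypeVal.homeomorphImage C₁).isHomeomorph,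
        show Subtype.val '' C₁ = closure {c} from hc.def.symm, hr, hre]
      exact_mod_cast (show 2 ≤ e + 2 by omega)
    let HW := (Scheme.Modules.pullback w).obj O1
    have hHW : CohB1.IsAmple HW := Groth.L18.Ample.isAmple_pullback_of_isAffineHom w hO1
    have hbW := ih W hdW HW hHW N
    obtain ⟨T, q, h1, h2, G, hG, h⟩ := isBounded_preimage (k := k)
      (fun M : Z.Modules => (Scheme.Modules.pullback w).obj M)
      (fun e => ⟨(Scheme.Modules.pullback _).mapIso e⟩) ⟨Groth.L29.LocFree.pullbackUnitIso _⟩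
      (fun A B => ⟨(Groth.L29.DC.PullTensor.pullTensor _ A B).symm⟩)
      (fun A hA => isInvertible_pullback _ hA)
      (fun A hA hN => NT_of_zeroScheme k hO1 φ hcomp hA hN.2) _ hbW
    refine ⟨T, q, h1, h2, G, hG, fun M hM => h M ⟨hM.1, _, ?_, ⟨Iso.refl _⟩⟩⟩
    exact (hM.change hHZ (Nat.succ_pos m₀) eι).pullback w

/-! ### The converse -/

variable {X : Scheme.{u}} [X.Over (Spec (CommRingCat.of k))] [IsProper (X ↘ Spec (CommRingCat.of k))]

theorem isAmple_gg_tensor {A G : X.Modules} (hA : CohB1.IsAmple A) (hG : PicF.IsInvertible G)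
    (hgg : Curv2.IsGloballyGenerated G) : CohB1.IsAmple (CohB1.tensorMod A G) :=
  Groth.L18.Ample.isAmple_tensor_of_gen hA hG fun x => by
    obtain ⟨s, hs⟩ := Groth.L18.Ample.exists_genLocus_mem_of_gg hG hgg x
    exact ⟨0, s ≫ (Groth.L00.Tensor.tensorPowOne _).symm.hom, by rwa [Groth.L16.genLocus_comp_iso]⟩

/-- In one invertible family both twists are ample after one power. -/
theorem exists_twist_fam {H : X.Modules} (hH : CohB1.IsAmple H) (Φ : Groth.L11.PicFam.Fam k X) :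
    ∃ N : ℕ, ∀ L, Φ.Mem L → CohB1.IsAmple (CohB1.tensorMod (CohB1.tensorPow H N) L) := by
  haveI := Φ.lft; haveI := Φ.qc
  haveI := Groth.L21.RR.isNoetherian_of_proper (X := X) k
  haveI := isLocallyNoetherian_prod (k := k) (X := X) Φ.q
  obtain ⟨m₀, hm⟩ := Groth.L03.SurfAdj.exists_embedding k hH
  obtain ⟨n, ι, hιc, hι, ⟨eι⟩⟩ := hm (m₀ + 1) (Nat.le_succ _)
  haveI := hιc
  haveI : Flat (X ↘ Spec (CommRingCat.of k)) := Groth.L07.SyntOverField.flat_over_field _
  haveI : Flat (pullback.snd (X ↘ Spec (CommRingCat.of k)) Φ.q) := MorphismProperty.pullback_snd _ _ inferInstance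
  have hc := Groth.L16.ProperFinite.isCoh_of_isInvertible Φ.inv
  obtain ⟨m, hm⟩ := exists_regular_flat k ι Φ.q Φ.M hc
    (Groth.Agent.Pic0.isFlatOver_of_isInvertible _ Φ.inv) hι
  let t := m.toNat
  refine ⟨(m₀ + 1) * t + (m₀ + 1), fun L hL => ?_⟩
  obtain ⟨p, hp, ⟨e⟩⟩ := hL
  have hLi : PicF.IsInvertible L := Groth.L18.Ample.isInvertible_of_iso e (isInvertible_pullback _ Φ.inv)
  have hr : Pic13.IsMRegular k ι L m := fun q hq =>
    (Groth.L22.Reg.subsingleton_congr_iso (tensorIso e (Iso.refl _)) q).1 (hm p hp q hq)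
  obtain ⟨et⟩ := nonempty_pow_OX ι t
  have hgg := (Groth.Agent.S12111.result k n ι L (Groth.L16.ProperFinite.isCoh_of_isInvertible hLi) m hr (t : ℤ)
    (Int.self_le_toNat m)).2
  have j : Pic13.twistOn k ι L (t : ℤ) ≅ CohB1.tensorMod (CohB1.tensorPow H ((m₀ + 1) * t)) L :=
    tensorIso (Iso.refl L) (et.symm ≪≫ tensorPowIso eι t ≪≫ tensorPowMul H (m₀ + 1) t) ≪≫ tensorComm _ _
  refine isAmple_of_iso (tensorComm _ _ ≪≫ tensorAssoc _ L _ ≪≫ tensorIso (Iso.refl _) (tensorComm L _) ≪≫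
    (tensorAssoc _ _ L).symm ≪≫ tensorIso (tensorPowAdd H ((m₀ + 1) * t) (m₀ + 1)) (Iso.refl L))
    (isAmple_gg_tensor ((Groth.L18.Ample.isAmple_pow_iff hH.1 (Nat.succ_pos m₀)).1 hH)
      (Groth.L18.GenLoc.isInvertible_tensor (isInvertible_tensorPow hH.1 _) hLi)
      (Groth.L18.Ample.isGloballyGenerated_of_iso j hgg))

/-- The inverse family. -/
theorem exists_inverse_fam (Φ : Groth.L11.PicFam.Fam k X) : ∃ Ψ : Groth.L11.PicFam.Fam k X,
    ∀ L L', Φ.Mem L → Nonempty (CohB1.tensorMod L L' ≅ Coh.structureModule X) → Ψ.Mem L' := by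
  obtain ⟨Q, hQ, ⟨eQ⟩⟩ := Groth.L08.Cube.exists_inverse Φ.inv
  refine ⟨{ T := Φ.T, q := Φ.q, M := Q, conn := Φ.conn, lft := Φ.lft, qc := Φ.qc, inv := hQ }, ?_⟩
  rintro L L' ⟨t, ht, ⟨e⟩⟩ ⟨eL⟩
  let σ := Scheme.Modules.pullback (Pic13.sliceAt k X Φ.q t ht)
  refine ⟨t, ht, ⟨?_⟩⟩
  have a : CohB1.tensorMod L (σ.obj Q) ≅ Coh.structureModule X :=
    tensorIso e.symm (Iso.refl _) ≪≫ Groth.L29.DC.PullTensor.pullTensor _ Φ.M Q ≪≫ σ.mapIso eQ ≪≫
      Groth.L29.LocFree.pullbackUnitIso _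
  exact (tensorUnitLeft _).symm ≪≫ tensorIso (eL.symm ≪≫ tensorComm L L') (Iso.refl _) ≪≫
    tensorAssoc L' L _ ≪≫ tensorIso (Iso.refl L') a ≪≫ tensorUnitRight L'

/-- Bounded families of invertible modules are good. -/
theorem exists_good_of_bounded {H : X.Modules} (hH : CohB1.IsAmple H) {P : X.Modules → Prop}
    (hP : ∀ L, P L → PicF.IsInvertible L) (hb : Pic13.IsBounded k X P) :
    ∃ N : ℕ, ∀ L L', P L → Nonempty (CohB1.tensorMod L L' ≅ Coh.structureModule X) →
      CohB1.IsAmple (CohB1.tensorMod (CohB1.tensorPow H N) L) ∧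
        CohB1.IsAmple (CohB1.tensorMod (CohB1.tensorPow H N) L') := by
  classical
  obtain ⟨m, Φ, hΦ⟩ := Groth.L11.PicFam.exists_fams hP hb
  choose Ψ hΨ using fun j => exists_inverse_fam k (Φ j)
  choose a ha using fun j => exists_twist_fam k hH (Φ j)
  choose b hb using fun j => exists_twist_fam k hH (Ψ j)
  refine ⟨Finset.univ.sup fun j => max (a j) (b j), fun L L' hL e => ?_⟩
  obtain ⟨j, hj⟩ := hΦ L hL
  have h := Finset.le_sup (f := fun j => max (a j) (b j)) (Finset.mem_univ j)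
  exact ⟨isAmple_pow_tensor_of_le hH ((le_max_left _ _).trans h) (ha j L hj),
    isAmple_pow_tensor_of_le hH ((le_max_right _ _).trans h) (hb j L' (hΨ j L L' hj e))⟩

end Groth.L11.Bdd
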