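import Groth.Agent.L17.BC.FlatHom

/-!
# Flat images in a complex with flat homology below a degree
-/

set_option autoImplicit false
set_option linter.style.haveILetI false

universe u

open scoped TensorProduct

noncomputable section

namespace Groth.L11.Bdd.FlatBC0

section Ranges


variable {A : Type u} [CommRing A] (R : Type u) [CommRing R] [Algebra R A] {C : ℤ → Type u} [∀ i, AddCommGroup (C i)]
  [∀ i, Module A (C i)] [∀ i, Module R (C i)] [∀ i, IsScalarTower R A (C i)] (d : ∀ i j, C i →ₗ[A] C j)

/-- Images and cokernels in a bounded above complex with flat terms and homology are flat. -/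
theorem flat_ranges_below (hflat : ∀ i, Module.Flat R (C i)) (N : ℤ)
    (hN : ∀ i, N ≤ i → Module.Flat R (C (i + 1) ⧸ LinearMap.range (d i (i + 1))))
    (hdd : ∀ i, d (i + 1) (i + 1 + 1) ∘ₗ d i (i + 1) = 0)
    (hH : ∀ i, i < N → Module.Flat R (LinearMap.ker (d (i + 1) (i + 1 + 1)) ⧸
      (LinearMap.range (d i (i + 1))).comap (LinearMap.ker (d (i + 1) (i + 1 + 1))).subtype)) (i : ℤ) :
    Module.Flat R (LinearMap.range (d i (i + 1))) ∧ Module.Flat R (C (i + 1) ⧸ LinearMap.range (d i (i + 1))) := by
  suffices ∀ (k : ℕ) (i : ℤ), N ≤ i + k →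
      Module.Flat R (LinearMap.range (d i (i + 1))) ∧ Module.Flat R (C (i + 1) ⧸ LinearMap.range (d i (i + 1))) from
    this (N - i).toNat i (by omega)
  intro k
  induction k with
  | zero =>
    intro i hi
    haveI := hflat (i + 1)
    haveI := hN i (by omega)
    exact ⟨Groth.L01.FlatCx.flat_left (f := (LinearMap.range (d i (i + 1))).subtype.restrictScalars R)
      (g := (LinearMap.range (d i (i + 1))).mkQ.restrictScalars R)
      (Submodule.injective_subtype _) (Submodule.mkQ_surjective _) (LinearMap.exact_subtype_mkQ _), hN i (by omega)⟩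
  | succ k ih =>
    intro i hi
    by_cases hNi : N ≤ i
    · haveI := hflat (i + 1)
      haveI := hN i hNi
      exact ⟨Groth.L01.FlatCx.flat_left (f := (LinearMap.range (d i (i + 1))).subtype.restrictScalars R)
        (g := (LinearMap.range (d i (i + 1))).mkQ.restrictScalars R)
        (Submodule.injective_subtype _) (Submodule.mkQ_surjective _) (LinearMap.exact_subtype_mkQ _), inferInstance⟩
    haveI := hflat (i + 1)
    haveI := (ih (i + 1) (by push_cast at hi ⊢; omega)).1
    haveI := hH i (not_le.1 hNi)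
    let Z := LinearMap.ker (d (i + 1) (i + 1 + 1))
    let W := LinearMap.range (d i (i + 1))
    have hWZ : W ≤ Z := by
      rintro _ ⟨v, rfl⟩
      exact LinearMap.congr_fun (hdd i) v
    let ι : (Z ⧸ W.comap Z.subtype) →ₗ[A] C (i + 1) ⧸ W := (W.comap Z.subtype).mapQ W Z.subtype le_rfl
    let π : (C (i + 1) ⧸ W) →ₗ[A] LinearMap.range (d (i + 1) (i + 1 + 1)) :=
      W.liftQ (d (i + 1) (i + 1 + 1)).rangeRestrict (by rw [LinearMap.ker_rangeRestrict]; exact hWZ)
    have hι : Function.Injective ι := by
      rw [← LinearMap.ker_eq_bot, Submodule.eq_bot_iff]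
      intro z hz
      obtain ⟨z, rfl⟩ := Submodule.mkQ_surjective _ z
      exact (Submodule.Quotient.mk_eq_zero _).2
        ((Submodule.Quotient.mk_eq_zero W).1 (show (Submodule.Quotient.mk z.1 : C (i + 1) ⧸ W) = 0 from hz))
    have hπ : Function.Surjective π := fun y => by
      obtain ⟨x, rfl⟩ := (d (i + 1) (i + 1 + 1)).surjective_rangeRestrict y
      exact ⟨W.mkQ x, rfl⟩
    have hex : Function.Exact ι π := by
      intro q
      obtain ⟨x, rfl⟩ := W.mkQ_surjective q
      constructor
      · intro hx
        exact ⟨(W.comap Z.subtype).mkQ ⟨x, congrArg Subtype.val hx⟩, rfl⟩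
      · rintro ⟨z, hz⟩
        obtain ⟨z, rfl⟩ := Submodule.mkQ_surjective _ z
        rw [← hz]
        exact Subtype.ext z.2
    haveI hQ : Module.Flat R (C (i + 1) ⧸ W) := Groth.L01.FlatCx.flat_middle (f := ι.restrictScalars R)
      (g := π.restrictScalars R) hι hπ hex
    exact ⟨Groth.L01.FlatCx.flat_left (f := W.subtype.restrictScalars R) (g := W.mkQ.restrictScalars R)
      W.injective_subtype W.mkQ_surjective (LinearMap.exact_subtype_mkQ W), hQ⟩

end Ranges

end Groth.L11.Bdd.FlatBC0
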