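import Groth.Agent.L17.BC.FlatBC
import Groth.Agent.L11.Bdd.FlatRanges
import Groth.Agent.L02.Canon.FlatBc0
import Groth.Agent.L17.BC.Bc0Apply

/-!
# Base change in degree zero over an open of the base with flat higher direct images
-/

set_option autoImplicit false
set_option linter.style.haveILetI false
set_option linter.unusedSectionVars false
set_option backward.isDefEq.respectTransparency false

universe u

open CategoryTheory CategoryTheory.Limits AlgebraicGeometry TopologicalSpace Opposite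
open scoped TensorProduct

noncomputable section

namespace Groth.L11.Bdd.FlatBC0

open Groth.L17 Groth.L17.BC Groth.L17.BC.Classes Groth.L17.BC.FlatBC
open Effaced (Cov)

/-- Flatness over the base, on sections over affine pieces. -/
theorem flat_appLE_of_at {X Y : Scheme.{u}} (f : X ⟶ Y) {V : Y.Opens} (F : X.Modules) [Coh.IsQCoh F] {W : X.Opens} (hW : IsAffineOpen W)
    (hWV : W ≤ f ⁻¹ᵁ V) (hV' : IsAffineOpen V)
    (hfl : ∀ x ∈ W, FlatMod.IsFlatOverAt f F x) :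
    letI : Module Γ(Y, V) Γ(F, W) := Module.compHom Γ(F, W) (f.appLE V W hWV).hom
    Module.Flat Γ(Y, V) Γ(F, W) := by
  letI : Algebra Γ(Y, V) Γ(X, W) := (f.appLE V W hWV).hom.toAlgebra
  letI : Module Γ(Y, V) Γ(F, W) := Module.compHom Γ(F, W) (f.appLE V W hWV).hom
  haveI : IsScalarTower Γ(Y, V) Γ(X, W) Γ(F, W) := IsScalarTower.of_algebraMap_smul fun _ _ => rfl
  refine Module.flat_of_isLocalized_maximal (R := Γ(Y, V)) Γ(X, W) Γ(F, W)
    (fun P _ => LocalizedModule P.primeCompl Γ(F, W))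
    (fun P _ => LocalizedModule.mkLinearMap P.primeCompl Γ(F, W)) fun P hP => ?_
  obtain ⟨x, hx, e⟩ : ∃ (x : X) (hx : x ∈ W), (hW.primeIdealOf ⟨x, hx⟩).asIdeal = P := by
    have hm : hW.fromSpec ⟨P, hP.isPrime⟩ ∈ W := by
      have : hW.fromSpec ⟨P, hP.isPrime⟩ ∈ Set.range hW.fromSpec := ⟨_, rfl⟩
      rwa [hW.range_fromSpec] at this
    exact ⟨_, hm, congrArg (fun p : Spec Γ(X, W) => p.asIdeal)
      (hW.fromSpec.isOpenEmbedding.injective (a₁ := hW.primeIdealOf _) (hW.fromSpec_primeIdealOf _))⟩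
  subst e
  exact (Groth.L20.ModStalk.isFlatOverAt_iff f F hV' hW hWV hx).1 (hfl _ hx)

section Flat

variable {X Y S : Scheme.{u}} (f : X ⟶ Y) [IsSeparated f] [QuasiCompact f] (b : Y ⟶ S)
  {V : Y.Opens} (hV : IsAffineOpen V) {W : S.Opens} (hW : IsAffineOpen W) (e : V ≤ b ⁻¹ᵁ W)
  (c : Cov f (V := V)) (F : X.Modules) [Coh.IsQCoh F]

variable [HasInjectiveResolutions X.Modules] (Δ : RDer.DerivedLES (Scheme.Modules.pushforward f))

include hW Δ in
/-- Images and cokernels of the differentials are flat over the base. -/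
theorem flat_dF_below (hfl : FlatMod.IsFlatOver (f ≫ b) F)
    (hR : ∀ n : ℕ, n ≤ Nat.card c.ι → ∀ y ∈ V, FlatMod.IsFlatOverAt b ((Coh.Rpush f n).obj F) y) (i : ℤ) :
    letI := modCF f b hV e c F (i + 1)
    letI : Algebra Γ(S, W) Γ(Y, V) := (b.appLE W V e).hom.toAlgebra
    haveI : IsScalarTower Γ(S, W) Γ(Y, V) (CF f hV c F (i + 1)) := IsScalarTower.of_algebraMap_smul fun _ _ => rfl
    Module.Flat Γ(S, W) (LinearMap.range (dF f hV c F i (i + 1))) ∧
      Module.Flat Γ(S, W) (CF f hV c F (i + 1) ⧸ LinearMap.range (dF f hV c F i (i + 1))) := by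
  letI : Algebra Γ(S, W) Γ(Y, V) := (b.appLE W V e).hom.toAlgebra
  letI hm : ∀ j : ℤ, Module Γ(S, W) (CF f hV c F j) := fun j => modCF f b hV e c F j
  haveI : ∀ j : ℤ, IsScalarTower Γ(S, W) Γ(Y, V) (CF f hV c F j) :=
    fun j => IsScalarTower.of_algebraMap_smul fun _ _ => rfl
  refine flat_ranges_below (A := Γ(Y, V)) Γ(S, W) (fun i j => dF f hV c F i j)
    (fun j => flat_CF f b hV hW e c F hfl j) (Nat.card c.ι : ℤ)
    (fun j hj => flat_coker_high f b hV hW e c F hfl j (by omega))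
    (fun j => LinearMap.ext fun x => Transfer.dd_zero (KF f hV c F) _ _ _ x) (fun j hjN => ?_) i
  by_cases hj : j + 1 < 0
  · haveI := subsingleton_C (ρV f hV) (FV f (V := V) F) c.U (i := j + 1) hj
    haveI : Subsingleton (LinearMap.ker (dF f hV c F (j + 1) (j + 1 + 1)) ⧸
        (LinearMap.range (dF f hV c F j (j + 1))).comap (LinearMap.ker (dF f hV c F (j + 1) (j + 1 + 1))).subtype) :=
      (Submodule.mkQ_surjective _).subsingleton
    infer_instance
  · obtain ⟨n, hn⟩ : ∃ n : ℕ, j + 1 = n := ⟨(j + 1).toNat, (Int.toNat_of_nonneg (by omega)).symm⟩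
    haveI : Coh.IsQCoh (F.restrict (f ⁻¹ᵁ V).ι) := Scheme.Modules.isQuasicoherent_restrictFunctor _ F
    have key : ∀ (i k : ℤ), i = (n : ℤ) - 1 → k = n → Module.Flat Γ(S, W) (LinearMap.ker (dF f hV c F k (k + 1)) ⧸
        (LinearMap.range (dF f hV c F i k)).comap (LinearMap.ker (dF f hV c F k (k + 1))).subtype) := by
      rintro i k rfl rfl
      obtain ⟨θ, hθ⟩ := exists_isCls f hV c Δ n F
      haveI := PushQCoh.isQCoh_Rpush f F n
      letI : Module Γ(S, W) Γ((Coh.Rpush f n).obj F, V) := Module.compHom _ (b.appLE W V e).hom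
      haveI : IsScalarTower Γ(S, W) Γ(Y, V) Γ((Coh.Rpush f n).obj F, V) :=
        IsScalarTower.of_algebraMap_smul fun _ _ => rfl
      haveI : Module.Flat Γ(S, W) Γ((Coh.Rpush f n).obj F, V) := flat_appLE_of_at b _ hV e hW (hR n (by omega))
      have hker : (LinearMap.range (dF f hV c F ((n : ℤ) - 1) n)).comap
          (LinearMap.ker (dF f hV c F (n : ℤ) ((n : ℤ) + 1))).subtype = LinearMap.ker θ :=
        Submodule.ext fun z => (hθ.ker z).symm
      exact Module.Flat.of_linearEquiv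
        (((Submodule.quotEquivOfEq _ _ hker).trans (θ.quotKerEquivOfSurjective hθ.surj)).restrictScalars Γ(S, W))
    exact key j (j + 1) (by omega) hn

end Flat

/-- The cover induced by a finite affine cover of the source. -/
theorem exists_cov {X Y : Scheme.{u}} (f : X ⟶ Y) [X.IsSeparated] [Y.IsSeparated] {ι : Type u} [Fintype ι]
    (U : ι → X.Opens) (hU : ∀ i, IsAffineOpen (U i)) (hcov : ⨆ i, U i = ⊤) {V : Y.Opens} (hV : IsAffineOpen V) :
    ∃ c : Cov f (V := V), Nat.card c.ι = Nat.card ι := by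
  refine ⟨⟨ι, inferInstance, fun i => (f ⁻¹ᵁ V).ι ⁻¹ᵁ U i, ?_, fun n a => ?_⟩, rfl⟩
  · rw [← Scheme.Hom.preimage_iSup, hcov]; rfl
  · have h1 : IsAffineOpen (⨅ k, U (a k)) := IsAffineOpen.iInf fun k => hU (a k)
    haveI : IsAffine (↑(⨅ k, U (a k)) : Scheme.{u}) := h1
    let G : X.Opens := ⨅ k, U (a k)
    have h2 : IsAffineOpen (G ⊓ f ⁻¹ᵁ V) := by
      haveI : IsAffineHom (G.ι ≫ f) := by
        haveI : IsAffine (G : Scheme.{u}) := h1
        haveI : IsAffineHom ((G.ι ≫ f) ≫ terminal.from Y) := isAffineHom_of_isAffine _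
        exact MorphismProperty.of_postcomp @IsAffineHom (W' := @IsSeparated) (G.ι ≫ f) (terminal.from Y) inferInstance inferInstance
      have h3 : IsAffineOpen ((G.ι ≫ f) ⁻¹ᵁ V) := hV.preimage _
      have h4 := h3.image_of_isOpenImmersion G.ι
      rwa [Scheme.Hom.comp_preimage, Scheme.Hom.image_preimage_eq_opensRange_inf, Scheme.Opens.opensRange_ι] at h4
    have h5 : (f ⁻¹ᵁ V).ι ''ᵁ (⨅ k, (f ⁻¹ᵁ V).ι ⁻¹ᵁ U (a k)) = G ⊓ f ⁻¹ᵁ V := by
      refine le_antisymm (le_inf (le_iInf fun k => ?_) ?_) ?_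
      · refine ((f ⁻¹ᵁ V).ι.image_mono (iInf_le (fun k => (f ⁻¹ᵁ V).ι ⁻¹ᵁ U (a k)) k)).trans ?_
        rw [Scheme.Hom.image_preimage_eq_opensRange_inf]
        exact inf_le_right
      · rintro _ ⟨y, -, rfl⟩; exact y.2
      · calc G ⊓ f ⁻¹ᵁ V = (f ⁻¹ᵁ V).ι ''ᵁ ((f ⁻¹ᵁ V).ι ⁻¹ᵁ G) := by
              rw [Scheme.Hom.image_preimage_eq_opensRange_inf, Scheme.Opens.opensRange_ι, inf_comm]
          _ ≤ _ := (f ⁻¹ᵁ V).ι.image_mono (le_iInf fun k x hx => iInf_le (fun k => U (a k)) k hx)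
    exact (Scheme.Hom.isAffineOpen_iff_of_isOpenImmersion (f ⁻¹ᵁ V).ι).1 (h5 ▸ h2)

section BC

variable {X Y S X' Y' S' : Scheme.{u}} {b : Y ⟶ S} {f : X ⟶ Y} [IsSeparated f] [QuasiCompact f]
  [X.IsSeparated] [Y.IsSeparated]
  {g : S' ⟶ S} {gY : Y' ⟶ Y} {b' : Y' ⟶ S'} {gX : X' ⟶ X} {f' : X' ⟶ Y'}

/-- The base change map is an isomorphism when the module and its direct images are flat over the base. -/
theorem isIso_bc0_of_flat (hY : IsPullback gY b' b g) (hX : IsPullback gX f' f gY)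
    (F : X.Modules) [Coh.IsQCoh F] [HasInjectiveResolutions X.Modules]
    (hfl : FlatMod.IsFlatOver (f ≫ b) F) (U₀ : S.Opens) (hg : ∀ s, g s ∈ U₀)
    {ι : Type u} [Fintype ι] (Uc : ι → X.Opens) (hUc : ∀ i, IsAffineOpen (Uc i)) (hUcov : ⨆ i, Uc i = ⊤)
    (hR : ∀ n : ℕ, n ≤ Nat.card ι → ∀ y, b y ∈ U₀ → FlatMod.IsFlatOverAt b ((Coh.Rpush f n).obj F) y) :
    IsIso (CohBC.bc0 f gY f' gX hX.w F) := by
  refine isIso_of_affine _ fun z => ?_
  obtain ⟨_, ⟨W, hW, rfl⟩, hzW, hWU₀⟩ :=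
    S.isBasis_affineOpens.exists_subset_of_mem_open (a := b (gY z)) (show b (gY z) ∈ (U₀ : Set S) from by
      rw [← Scheme.Hom.comp_apply, hY.w, Scheme.Hom.comp_apply]; exact hg _) U₀.2
  obtain ⟨_, ⟨V, hV, rfl⟩, hzV, hVW⟩ :=
    Y.isBasis_affineOpens.exists_subset_of_mem_open (a := gY z) (show gY z ∈ b ⁻¹ᵁ W from hzW) (b ⁻¹ᵁ W).2
  have hzW' : g (b' z) ∈ W := by
    rw [← Scheme.Hom.comp_apply, ← hY.w, Scheme.Hom.comp_apply]
    exact hzW
  obtain ⟨_, ⟨W', hW', rfl⟩, hzW'', hW'W⟩ :=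
    S'.isBasis_affineOpens.exists_subset_of_mem_open (a := b' z) (show b' z ∈ g ⁻¹ᵁ W from hzW') (g ⁻¹ᵁ W).2
  change W' ≤ g ⁻¹ᵁ W at hW'W
  change V ≤ b ⁻¹ᵁ W at hVW
  let U : Y'.Opens := gY ⁻¹ᵁ V ⊓ b' ⁻¹ᵁ W'
  refine ⟨U, ⟨hzV, hzW''⟩, fun V' hV'U hV' => ?_⟩
  have q : Sq f gY f' gX V V' := ⟨hV, hV', fun x hx => (hV'U hx).1, hX⟩
  obtain ⟨c, hc⟩ := exists_cov f Uc hUc hUcov hV
  haveI := PushQCoh.hasInjectiveResolutions X'
  haveI : Coh.IsQCoh (F.restrict (f ⁻¹ᵁ V).ι) := Scheme.Modules.isQuasicoherent_restrictFunctor _ F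
  haveI : IsSeparated f' := MorphismProperty.of_isPullback hX inferInstance
  haveI : QuasiCompact f' := MorphismProperty.of_isPullback hX inferInstance
  letI : Algebra Γ(Y, V) Γ(Y', V') := q.φ.hom.toAlgebra
  letI : Module Γ(Y, V) Γ((Scheme.Modules.pushforward f').obj ((Scheme.Modules.pullback gX).obj F), V') :=
    Module.compHom _ (algebraMap Γ(Y, V) Γ(Y', V'))
  haveI : IsScalarTower Γ(Y, V) Γ(Y', V')
      Γ((Scheme.Modules.pushforward f').obj ((Scheme.Modules.pullback gX).obj F), V') :=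
    IsScalarTower.of_algebraMap_smul fun _ _ => rfl
  obtain ⟨ψl, hψ, ⟨D⟩⟩ := q.exists_bcData0 rfl c F
  letI : Algebra Γ(S, W) Γ(S', W') := (g.appLE W W' hW'W).hom.toAlgebra
  letI : Algebra Γ(S, W) Γ(Y, V) := (b.appLE W V hVW).hom.toAlgebra
  letI : Algebra Γ(S', W') Γ(Y', U) := (b'.appLE W' U inf_le_right).hom.toAlgebra
  letI : Algebra Γ(Y, V) Γ(Y', U) := (gY.appLE V U inf_le_left).hom.toAlgebra
  letI : Algebra Γ(S, W) Γ(Y', U) :=
    (g.appLE W W' hW'W ≫ b'.appLE W' U inf_le_right).hom.toAlgebra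
  haveI : IsScalarTower Γ(S, W) Γ(S', W') Γ(Y', U) := IsScalarTower.of_algebraMap_eq fun _ => rfl
  haveI hiso := isIso_pushoutSection_of_isAffineOpen hY hW'W hVW (rfl : U = _) hW hW' hV
  have hpo := (isIso_pushoutSection_iff hY hW'W hVW (rfl : U = _)).1 hiso
  haveI : IsScalarTower Γ(S, W) Γ(Y, V) Γ(Y', U) := IsScalarTower.of_algebraMap_eq fun a =>
    (ConcreteCategory.congr_hom hpo.w a).symm
  haveI : Algebra.IsPushout Γ(S, W) Γ(S', W') Γ(Y, V) Γ(Y', U) := CommRingCat.isPushout_iff_isPushout.1 hpo.flip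
  letI : Algebra Γ(Y', U) Γ(Y', V') := (Y'.presheaf.map (homOfLE hV'U).op).hom.toAlgebra
  haveI : IsScalarTower Γ(Y, V) Γ(Y', U) Γ(Y', V') := IsScalarTower.of_algebraMap_eq fun a => by
    show q.φ a = (gY.appLE V U inf_le_left ≫ Y'.presheaf.map (homOfLE hV'U).op) a
    rw [Scheme.Hom.appLE_map]
    rfl
  haveI : Module.Flat Γ(Y', U) Γ(Y', V') := by
    haveI : IsAffine _ := hW
    haveI : IsAffine _ := hW'
    haveI : IsAffine _ := hV
    have hU : IsAffineOpen U :=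
      .of_isIso (Scheme.Hom.isPullback_resLE hY hW'W hVW (rfl : U = _)).isoPullback.hom
    have h := HasRingHomProperty.appLE @Flat (𝟙 Y') inferInstance ⟨U, hU⟩ ⟨V', hV'⟩ hV'U
    rw [Scheme.Hom.appLE, Scheme.Hom.id_app] at h
    exact h
  letI : Module Γ(S, W) (CF f hV c F ((0 : ℕ) : ℤ)) := modCF f b hV hVW c F _
  haveI : IsScalarTower Γ(S, W) Γ(Y, V) (CF f hV c F ((0 : ℕ) : ℤ)) := IsScalarTower.of_algebraMap_smul fun _ _ => rfl
  letI : Module Γ(S, W) (CF f hV c F (((0 : ℕ) : ℤ) + 1)) := modCF f b hV hVW c F _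
  haveI : IsScalarTower Γ(S, W) Γ(Y, V) (CF f hV c F (((0 : ℕ) : ℤ) + 1)) :=
    IsScalarTower.of_algebraMap_smul fun _ _ => rfl
  obtain ⟨Δ⟩ := Groth.L17.BC.Classes.nonempty_derivedLES f
  obtain ⟨h1, h2⟩ := flat_dF_below f b hV hW hVW c F Δ hfl
    (fun n hn y hy => hR n (hn.trans hc.le) y (hWU₀ (hVW hy))) ((0 : ℕ) : ℤ)
  haveI := h1
  haveI := h2
  have hbc : IsBaseChange Γ(Y', V') ψl := FlatHom.isBaseChange (R := Γ(S, W)) (R' := Γ(S', W')) (A' := Γ(Y', U)) Γ(Y', V') D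
    (LinearMap.ext fun x => by
      exact Transfer.dd_zero (KF f hV c F) (((0 : ℕ) : ℤ) - 1) ((0 : ℕ) : ℤ) (((0 : ℕ) : ℤ) + 1) x)
  obtain ⟨e₀⟩ := nonempty_Rpush_zero_iso f F
  haveI := PushQCoh.isQCoh_Rpush f F 0
  haveI : Coh.IsQCoh ((Scheme.Modules.pushforward f).obj F) := Groth.L29.DC.isQCoh_of_iso' e₀ inferInstance
  letI : Module Γ(Y, V) Γ((Scheme.Modules.pullback gY).obj ((Scheme.Modules.pushforward f).obj F), V') :=
    Module.compHom _ (gY.appLE V V' q.le).hom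
  haveI : IsScalarTower Γ(Y, V) Γ(Y', V')
      Γ((Scheme.Modules.pullback gY).obj ((Scheme.Modules.pushforward f).obj F), V') :=
    IsScalarTower.of_algebraMap_smul fun _ _ => rfl
  have hpr : IsBaseChange Γ(Y', V') (Groth.L16.AffineBC.pullRes gY ((Scheme.Modules.pushforward f).obj F) q.le) :=
    Groth.L16.AffineBC.isBaseChange_pull gY ((Scheme.Modules.pushforward f).obj F) q.hV q.hV' q.le
  have key : ∀ x, (CohBC.bc0 f gY f' gX hX.w F).app V' (hpr.equiv x) = hbc.equiv x := by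
    intro x
    induction x using TensorProduct.induction_on with
    | zero => rw [map_zero, map_zero, map_zero]
    | add a b ha hb => rw [map_add, map_add, map_add, ha, hb]
    | tmul b t =>
      rw [IsBaseChange.equiv_tmul, IsBaseChange.equiv_tmul, hψ, ← bc0_app_pullRes q F t]
      exact (CohBC.bc0 f gY f' gX hX.w F).app_smul b _
  have : Function.Bijective (fun x => (CohBC.bc0 f gY f' gX hX.w F).app V' (hpr.equiv x)) := by
    rw [funext key]; exact hbc.equiv.bijective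
  exact (Function.Bijective.of_comp_iff _ hpr.equiv.bijective).1 this

end BC

end Groth.L11.Bdd.FlatBC0
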