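import Groth.Agent.L11.Bdd.Basic
import Groth.Agent.L11.Bdd.FlatBC0
import Groth.Agent.S4698
import Groth.Agent.L17.ProperCoh
import Groth.Agent.L18.KerReduced

/-!
# Stratifications: flatness and base change of direct images at points
-/

set_option autoImplicit false
set_option backward.isDefEq.respectTransparency false
set_option backward.isDefEq.respectTransparency.types false
set_option linter.style.haveILetI false
set_option linter.unusedSectionVars false

universe u

open CategoryTheory CategoryTheory.Limits AlgebraicGeometry TopologicalSpace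

noncomputable section

namespace Groth.L11.Bdd

open Groth.L11.PicFam (res res_fst res_snd isPullback_res fibre_res isPullback_slice exists_flat)

variable {k : Type u} [Field k] {X W : Scheme.{u}} [X.Over (Spec (CommRingCat.of k))] [W.Over (Spec (CommRingCat.of k))]

/-- A morphism of `k`-schemes. -/
structure KMap (k : Type u) [Field k] (W X : Scheme.{u}) [X.Over (Spec (CommRingCat.of k))]
    [W.Over (Spec (CommRingCat.of k))] where
  /-- the morphism -/
  f : W ⟶ X
  w : f ≫ (X ↘ Spec (CommRingCat.of k)) = W ↘ Spec (CommRingCat.of k)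

variable (g : KMap k W X) {T : Scheme.{u}} (q : T ⟶ Spec (CommRingCat.of k))

/-- The product of a morphism with the base. -/
def mapK : Pic13.prodK k W q ⟶ Pic13.prodK k X q :=
  pullback.map _ _ _ _ g.f (𝟙 T) (𝟙 _) (by rw [Category.comp_id, g.w]) (by simp)

theorem mapK_fst : mapK g q ≫ pullback.fst _ _ = pullback.fst _ _ ≫ g.f := pullback.lift_fst _ _ _

theorem mapK_snd : mapK g q ≫ pullback.snd _ _ = pullback.snd _ _ :=
  (pullback.lift_snd _ _ _).trans (Category.comp_id _)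

theorem slice_mapK (t : Spec (CommRingCat.of k) ⟶ T) (ht : t ≫ q = 𝟙 _) :
    Pic13.sliceAt k W q t ht ≫ mapK g q = g.f ≫ Pic13.sliceAt k X q t ht := by
  refine pullback.hom_ext ?_ ?_
  · rw [Category.assoc, mapK_fst, Category.assoc, Pic13.sliceAt, Pic13.sliceAt, pullback.lift_fst,
      pullback.lift_fst_assoc, Category.id_comp, Category.comp_id]
  · rw [Category.assoc, mapK_snd, Category.assoc, Pic13.sliceAt, Pic13.sliceAt, pullback.lift_snd,
      pullback.lift_snd, ← Category.assoc, g.w]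

theorem isPullback_slice_mapK (t : Spec (CommRingCat.of k) ⟶ T) (ht : t ≫ q = 𝟙 _) :
    IsPullback (Pic13.sliceAt k W q t ht) g.f (mapK g q) (Pic13.sliceAt k X q t ht) := by
  refine IsPullback.of_bot (v₂₁ := X ↘ Spec (CommRingCat.of k))
    (v₂₂ := pullback.snd (X ↘ Spec (CommRingCat.of k)) q) (h₃₁ := t) ?_ (slice_mapK g q t ht)
    (isPullback_slice q t ht)
  rw [g.w, mapK_snd]
  exact isPullback_slice q t ht

theorem isPullback_mapK :
    IsPullback (pullback.fst (W ↘ Spec (CommRingCat.of k)) q) (mapK g q) g.f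
      (pullback.fst (X ↘ Spec (CommRingCat.of k)) q) := by
  refine IsPullback.of_bot (v₂₁ := pullback.snd (X ↘ Spec (CommRingCat.of k)) q)
    (v₂₂ := X ↘ Spec (CommRingCat.of k)) (h₃₁ := q) ?_ (mapK_fst g q).symm (IsPullback.of_hasPullback _ _)
  rw [g.w, mapK_snd]
  exact IsPullback.of_hasPullback _ _

theorem KMap.isProper [IsProper (W ↘ Spec (CommRingCat.of k))] [IsProper (X ↘ Spec (CommRingCat.of k))] :
    IsProper g.f := by
  haveI : IsProper (g.f ≫ (X ↘ Spec (CommRingCat.of k))) := by rw [g.w]; infer_instance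
  exact IsProper.of_comp g.f (X ↘ Spec (CommRingCat.of k))

theorem isProper_mapK [IsProper (W ↘ Spec (CommRingCat.of k))] [IsProper (X ↘ Spec (CommRingCat.of k))] :
    IsProper (mapK g q) :=
  haveI := g.isProper
  MorphismProperty.of_isPullback (P := @IsProper) (isPullback_mapK g q) inferInstance

/-- Every point lifts to one of finitely many affine pieces, with a property. -/
def Covers (P : ∀ (V : Scheme.{u}) (h : V ⟶ T) (t : Spec (CommRingCat.of k) ⟶ V), t ≫ h ≫ q = 𝟙 _ → Prop) : Prop :=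
  ∃ (m : ℕ) (V : Fin m → Scheme.{u}) (h : ∀ j, V j ⟶ T),
    (∀ j, IsAffine (V j) ∧ LocallyOfFiniteType (h j)) ∧
      ∀ (t : Spec (CommRingCat.of k) ⟶ T), t ≫ q = 𝟙 _ →
        ∃ (j : Fin m) (t' : Spec (CommRingCat.of k) ⟶ V j) (ht' : t' ≫ h j ≫ q = 𝟙 _),
          t' ≫ h j = t ∧ P (V j) (h j) t' ht'

/-- A cover from a finite index type. -/
theorem Covers.of_finite {P : ∀ (V : Scheme.{u}) (h : V ⟶ T) (t : Spec (CommRingCat.of k) ⟶ V), t ≫ h ≫ q = 𝟙 _ → Prop}
    {ι : Type*} [Finite ι] (V : ι → Scheme.{u}) (h : ∀ j, V j ⟶ T)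
    (hV : ∀ j, IsAffine (V j) ∧ LocallyOfFiniteType (h j))
    (hc : ∀ (t : Spec (CommRingCat.of k) ⟶ T), t ≫ q = 𝟙 _ →
        ∃ (j : ι) (t' : Spec (CommRingCat.of k) ⟶ V j) (ht' : t' ≫ h j ≫ q = 𝟙 _),
          t' ≫ h j = t ∧ P (V j) (h j) t' ht') : Covers q P := by
  let e := (Finite.equivFin ι).symm
  refine ⟨Nat.card ι, fun j => V (e j), fun j => h (e j), fun j => hV (e j), fun t ht => ?_⟩
  obtain ⟨j, hj⟩ := hc t ht
  obtain ⟨i, rfl⟩ := e.surjective j
  exact ⟨i, hj⟩

variable [IsProper (X ↘ Spec (CommRingCat.of k))] [IsProper (W ↘ Spec (CommRingCat.of k))]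

omit [IsProper (X ↘ Spec (CommRingCat.of k))] in
/-- Flattening by affine pieces. -/
theorem covers_flat [LocallyOfFiniteType q] [QuasiCompact q] (F : (Pic13.prodK k W q).Modules) (hF : Coh.IsCoh F) :
    Covers q (fun _ h _ _ => FlatMod.IsFlatOver (pullback.snd (W ↘ Spec (CommRingCat.of k)) (h ≫ q))
      ((Scheme.Modules.pullback (res q h)).obj F)) := by
  classical
  obtain ⟨m, V, h, hV, hlift⟩ := exists_flat q F hF
  have hcov : ∀ j, ∃ s : Finset (V j).affineOpens, ∀ x, ∃ U ∈ s, x ∈ U.1 := fun j => by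
    haveI := (hV j).2.1
    haveI : CompactSpace (V j) := QuasiCompact.compactSpace_of_compactSpace (h j ≫ q)
    obtain ⟨s, hs⟩ := isCompact_univ.elim_finite_subcover (fun U : (V j).affineOpens => (U.1 : Set (V j)))
      (fun U => U.1.2) (fun x _ => by
        obtain ⟨U, hU, hxU, -⟩ := exists_isAffineOpen_mem_and_subset (show x ∈ (⊤ : (V j).Opens) from trivial)
        exact Set.mem_iUnion.2 ⟨⟨U, hU⟩, hxU⟩)
    exact ⟨s, fun x => by simpa using hs (Set.mem_univ x)⟩
  choose s hs using hcov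
  refine Covers.of_finite q (ι := Σ j : Fin m, s j) (fun a => (a.2.1.1 : Scheme.{u})) (fun a => a.2.1.1.ι ≫ h a.1)
    (fun a => ⟨a.2.1.2, ?_⟩) fun t ht => ?_
  · haveI := (hV a.1).1
    haveI : LocallyOfFiniteType (h a.1) := locallyOfFiniteType_of_comp (h a.1) q
    infer_instance
  obtain ⟨j, t₁, ht₁⟩ := hlift t ht
  obtain ⟨U, hU, hxU⟩ := hs j (t₁ (IsLocalRing.closedPoint k))
  obtain ⟨t₂, ht₂⟩ := exists_lift_affine t₁ hxU
  refine ⟨⟨j, U, hU⟩, t₂, ?_, ?_, ?_⟩
  · show t₂ ≫ (U.1.ι ≫ h j) ≫ q = 𝟙 _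
    rw [Category.assoc, ← Category.assoc, ht₂, ← Category.assoc, ht₁, ht]
  · show t₂ ≫ U.1.ι ≫ h j = t
    rw [← Category.assoc, ht₂, ht₁]
  · show FlatMod.IsFlatOver (pullback.snd _ ((U.1.ι ≫ h j) ≫ q)) ((Scheme.Modules.pullback (res q (U.1.ι ≫ h j))).obj F)
    have e2 : res (X := W) q (U.1.ι ≫ h j) ≫ pullback.fst _ _ = pullback.fst _ _ := res_fst _ _
    let r : Pic13.prodK k W ((U.1.ι ≫ h j) ≫ q) ⟶ Pic13.prodK k W (h j ≫ q) :=
      pullback.map _ _ _ _ (𝟙 _) U.1.ι (𝟙 _) (by simp) (by simp)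
    have er : r ≫ res q (h j) = res q (U.1.ι ≫ h j) := by
      refine pullback.hom_ext ?_ ?_ <;> simp [r, res]
    have sq : IsPullback r (pullback.snd (W ↘ Spec (CommRingCat.of k)) ((U.1.ι ≫ h j) ≫ q))
        (pullback.snd (W ↘ Spec (CommRingCat.of k)) (h j ≫ q)) U.1.ι := by
      refine IsPullback.of_right (h₁₂ := pullback.fst _ _) (h₂₂ := h j ≫ q) (v₁₃ := W ↘ Spec (CommRingCat.of k)) ?_
        (by simp [r]) (IsPullback.of_hasPullback _ _)
      rw [show r ≫ pullback.fst _ _ = pullback.fst _ _ by simp [r], ← Category.assoc]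
      exact IsPullback.of_hasPullback _ _
    refine Groth.L29.DC.RelBC.isFlatOver_of_iso _ ?_ (Groth.L29.DC.RelBC.isFlatOver_pullback sq (hV j).2.2)
    exact (Scheme.Modules.pullbackComp _ _).app F ≪≫ (Scheme.Modules.pullbackCongr er).app F

/-- Base change of the direct image at a point of a piece. -/
def GoodAt (F : (Pic13.prodK k W q).Modules) (V : Scheme.{u}) (h : V ⟶ T) (t : Spec (CommRingCat.of k) ⟶ V)
    (ht : t ≫ h ≫ q = 𝟙 _) : Prop :=
  IsIso (CohBC.bc0 (mapK g (h ≫ q)) (Pic13.sliceAt k X (h ≫ q) t ht) g.f (Pic13.sliceAt k W (h ≫ q) t ht)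
    (slice_mapK g (h ≫ q) t ht) ((Scheme.Modules.pullback (res q h)).obj F))

/-- A nonempty reduced Noetherian scheme has an integral affine open. -/
theorem exists_integral_affine_open (Z : Scheme.{u}) [NoetherianSpace Z] [IsReduced Z] [Nonempty Z] :
    ∃ U : Z.Opens, IsAffineOpen U ∧ IsIntegral (U : Scheme.{u}) := by
  classical
  obtain ⟨C, hC⟩ : (irreducibleComponents Z).Nonempty :=
    ⟨_, irreducibleComponent_mem_irreducibleComponents (Classical.arbitrary Z)⟩
  obtain ⟨O, hO, hne, hsub⟩ := NoetherianSpace.exists_isOpen_nonempty_subset_irreducibleComponent C hC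
  obtain ⟨x, hx⟩ := hne
  obtain ⟨U, hU, hxU, hUO⟩ := exists_isAffineOpen_mem_and_subset (U := (⟨O, hO⟩ : Z.Opens)) hx
  refine ⟨U, hU, ?_⟩
  haveI : IrreducibleSpace (U : Scheme.{u}) := by
    have h1 : IsIrreducible (U : Set Z) :=
      ⟨⟨x, hxU⟩, hC.1.2.open_subset U.2 (fun y hy => hsub (hUO hy))⟩
    exact Subtype.irreducibleSpace h1
  exact isIntegral_of_irreducibleSpace_of_isReduced _

/-- On an integral affine base a dense open has base change. -/
theorem exists_generic_good {U : Scheme.{u}} [IsIntegral U] [IsAffine U] (r : U ⟶ Spec (CommRingCat.of k))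
    [LocallyOfFiniteType r] (G : (Pic13.prodK k W r).Modules) (hG : Coh.IsCoh G)
    (hfl : FlatMod.IsFlatOver (pullback.snd (W ↘ Spec (CommRingCat.of k)) r) G) :
    ∃ U₀ : U.Opens, (U₀ : Set U).Nonempty ∧ ∀ (t : Spec (CommRingCat.of k) ⟶ U) (ht : t ≫ r = 𝟙 _),
      (∀ p, t p ∈ U₀) → IsIso (CohBC.bc0 (mapK g r) (Pic13.sliceAt k X r t ht) g.f (Pic13.sliceAt k W r t ht)
        (slice_mapK g r t ht) G) := by
  classical
  haveI : IsLocallyNoetherian U := LocallyOfFiniteType.isLocallyNoetherian r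
  haveI := isLocallyNoetherian_prod (k := k) (X := X) r
  haveI := isLocallyNoetherian_prod (k := k) (X := W) r
  haveI := isProper_mapK g r
  let f := mapK g r
  let b := pullback.snd (X ↘ Spec (CommRingCat.of k)) r
  haveI : (Pic13.prodK k X r).IsSeparated := ⟨by rw [← terminal.comp_from b]; infer_instance⟩
  haveI : (Pic13.prodK k W r).IsSeparated := ⟨by rw [← terminal.comp_from (f ≫ b)]; infer_instance⟩
  haveI : CompactSpace (Pic13.prodK k W r) := QuasiCompact.compactSpace_of_compactSpace (f ≫ b)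
  haveI := Groth.L17.PushQCoh.hasInjectiveResolutions (Pic13.prodK k W r)
  haveI : Coh.IsQCoh G := hG.1
  obtain ⟨s, hs⟩ := isCompact_univ.elim_finite_subcover
    (fun O : (Pic13.prodK k W r).affineOpens => (O.1 : Set (Pic13.prodK k W r)))
    (fun O => O.1.2) (fun x _ => by
      obtain ⟨O, hO, hxO, -⟩ := exists_isAffineOpen_mem_and_subset (show x ∈ (⊤ : (Pic13.prodK k W r).Opens) from trivial)
      exact Set.mem_iUnion.2 ⟨⟨O, hO⟩, hxO⟩)
  let ι := ↥s
  let N := Nat.card ι
  have hgen : ∀ n : Fin (N + 1), ∃ O : U.Opens, (O : Set U).Nonempty ∧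
      ∀ x, b x ∈ O → FlatMod.IsFlatOverAt b ((Coh.Rpush f n.1).obj G) x := fun n =>
    Groth.Agent.S4698.result b _ (Groth.L17.ProperCoh.isCoh_Rpush f G hG n.1)
  choose O hO hflat using hgen
  refine ⟨Finset.univ.inf O, ?_, fun t ht htU => ?_⟩
  · have : ∀ s : Finset (Fin (N + 1)), ((s.inf O : U.Opens) : Set U).Nonempty := fun s => by
      induction s using Finset.induction_on with
      | empty => exact ⟨(genericPoint U), trivial⟩
      | insert a s _ ih =>
        rw [Finset.inf_insert]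
        exact nonempty_preirreducible_inter (O a).2 (s.inf O).2 (hO a) ih
    exact this _
  refine FlatBC0.isIso_bc0_of_flat (b := b) (f := f) (g := t) (b' := X ↘ Spec (CommRingCat.of k))
    (isPullback_slice r t ht) (isPullback_slice_mapK g r t ht) G ?_ (Finset.univ.inf O) htU
    (fun i : ι => i.1.1) (fun i => i.1.2) ?_ fun n hn y hy => ?_
  · rw [mapK_snd]; exact hfl
  · refine top_unique fun x _ => ?_
    obtain ⟨O', hO', hx⟩ := Set.mem_iUnion₂.1 (hs (Set.mem_univ x))
    exact Opens.mem_iSup.2 ⟨⟨O', hO'⟩, hx⟩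
  · exact hflat ⟨n, by omega⟩ y (SetLike.le_def.1 (Finset.inf_le (f := O) (Finset.mem_univ (⟨n, Nat.lt_succ_of_le hn⟩ : Fin (N + 1)))) hy)

/-- A flat family is covered by affine pieces with base change of the direct image at the points. -/
theorem covers_good [LocallyOfFiniteType q] [QuasiCompact q] (G : (Pic13.prodK k W q).Modules) (hG : Coh.IsCoh G)
    (hfl : FlatMod.IsFlatOver (pullback.snd (W ↘ Spec (CommRingCat.of k)) q) G) :
    Covers q (GoodAt g q G) := by
  classical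
  haveI := Groth.L11.PicFam.noeth q
  haveI := isLocallyNoetherian_prod (k := k) (X := W) q
  let P : Closeds T → Prop := fun Z => ∃ (m : ℕ) (V : Fin m → Scheme.{u}) (h : ∀ j, V j ⟶ T),
    (∀ j, IsAffine (V j) ∧ LocallyOfFiniteType (h j)) ∧
      ∀ (t : Spec (CommRingCat.of k) ⟶ T), t ≫ q = 𝟙 _ → (∀ p, t p ∈ Z) →
        ∃ (j : Fin m) (t' : Spec (CommRingCat.of k) ⟶ V j) (ht' : t' ≫ h j ≫ q = 𝟙 _),
          t' ≫ h j = t ∧ GoodAt g q G (V j) (h j) t' ht'
  suffices h : ∀ Z, P Z by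
    obtain ⟨m, V, h, hV, hc⟩ := h ⊤
    exact ⟨m, V, h, hV, fun t ht => hc t ht fun _ => trivial⟩
  intro Z
  induction Z using WellFoundedLT.induction with
  | _ Z ih =>
  by_cases hne : (Z : Set T).Nonempty
  swap
  · exact ⟨0, Fin.elim0, fun j => Fin.elim0 j, fun j => Fin.elim0 j,
      fun t _ ht => absurd ⟨_, ht (IsLocalRing.closedPoint k)⟩ hne⟩
  let I := Scheme.IdealSheafData.vanishingIdeal Z
  have hrange : Set.range I.subschemeι = (Z : Set T) := by
    rw [Scheme.IdealSheafData.range_subschemeι, Scheme.IdealSheafData.coe_support_vanishingIdeal]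
  haveI : NoetherianSpace I.subscheme := I.subschemeι.isClosedEmbedding.isInducing.noetherianSpace
  haveI : Nonempty I.subscheme := by
    obtain ⟨z, hz⟩ := hne
    obtain ⟨y, -⟩ := hrange.ge hz
    exact ⟨y⟩
  haveI : IsReduced I.subscheme := Groth.L18.isReduced_vanishingIdeal_subscheme Z
  obtain ⟨U, hUaff, hUint⟩ := exists_integral_affine_open I.subscheme
  haveI : IsAffine (U : Scheme.{u}) := hUaff
  haveI := hUint
  haveI : IsLocallyNoetherian I.subscheme := LocallyOfFiniteType.isLocallyNoetherian I.subschemeι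
  let h₀ : (U : Scheme.{u}) ⟶ T := U.ι ≫ I.subschemeι
  haveI : LocallyOfFiniteType h₀ := inferInstanceAs (LocallyOfFiniteType (U.ι ≫ I.subschemeι))
  haveI := isLocallyNoetherian_prod (k := k) (X := W) (h₀ ≫ q)
  obtain ⟨U₀, hU₀, hgood⟩ := exists_generic_good g (h₀ ≫ q) ((Scheme.Modules.pullback (res q h₀)).obj G)
    (Groth.L16.AffineBC.isCoh_pullback _ hG) (Groth.L29.DC.RelBC.isFlatOver_pullback (isPullback_res q h₀) hfl)
  let O : Set I.subscheme := U.ι '' (U₀ : Set U)
  have hO : IsOpen O := U.ι.isOpenEmbedding.isOpenMap _ U₀.2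
  let Z' : Closeds T := ⟨I.subschemeι '' Oᶜ, I.subschemeι.isClosedEmbedding.isClosedMap _ hO.isClosed_compl⟩
  have hlt : Z' < Z := by
    refine lt_of_le_of_ne ?_ fun e => ?_
    · rintro _ ⟨y, -, rfl⟩
      exact hrange.le ⟨y, rfl⟩
    · obtain ⟨y, hy⟩ := hU₀
      have h1 : I.subschemeι (U.ι y) ∈ Z' := e ▸ hrange.le ⟨_, rfl⟩
      obtain ⟨y', hy', he⟩ := h1
      exact hy' (I.subschemeι.isClosedEmbedding.injective he ▸ ⟨y, hy, rfl⟩)
  obtain ⟨m, V, h, hV, hc⟩ := ih Z' hlt
  refine ⟨m + 1, Fin.cons (U : Scheme.{u}) V, Fin.cons h₀ h, fun j => ?_, fun t ht htZ => ?_⟩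
  · induction j using Fin.cases with
    | zero => exact ⟨hUaff, inferInstanceAs (LocallyOfFiniteType h₀)⟩
    | succ j => exact hV j
  by_cases htO : ∀ p, t p ∈ Z'
  · obtain ⟨j, hj⟩ := hc t ht htO
    exact ⟨j.succ, hj⟩
  obtain ⟨t₁, ht₁⟩ := Groth.L16.exists_lift_subscheme_of_range_subset I t (by
    rintro _ ⟨p, rfl⟩
    rw [hrange]
    exact htZ p)
  have hin : t₁ (IsLocalRing.closedPoint k) ∈ O := by
    by_contra hc'
    refine htO fun p => ⟨_, hc', ?_⟩
    rw [← Scheme.Hom.comp_apply, ht₁, show p = IsLocalRing.closedPoint k from @Subsingleton.elim (PrimeSpectrum k) _ _ _]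
  obtain ⟨y, hy, hye⟩ := hin
  obtain ⟨t₂, ht₂⟩ := exists_lift_affine t₁ (U := U) (hye ▸ y.2)
  have ht₂' : t₂ ≫ h₀ = t := by
    show t₂ ≫ U.ι ≫ I.subschemeι = t
    rw [← Category.assoc, ht₂, ht₁]
  refine ⟨0, t₂, (Category.assoc _ _ _).symm.trans ((congrArg (· ≫ q) ht₂').trans ht), ht₂', ?_⟩
  refine hgood t₂ _ fun p => ?_
  have : t₂ p = y := U.ι.isOpenEmbedding.injective (by
    rw [hye, ← Scheme.Hom.comp_apply, ht₂,
      show p = IsLocalRing.closedPoint k from @Subsingleton.elim (PrimeSpectrum k) _ _ _])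
  rw [this]
  exact hy

end Groth.L11.Bdd
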