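import Groth.Agent.L11.NumOrth.TauProj
import Groth.Agent.L11.Bdd.Strata
import Groth.Agent.L26.Pic13.TauChi
import Groth.Agent.S1025
import Groth.Agent.S1026
import Groth.Agent.S12111
import Mathlib.AlgebraicGeometry.AlgClosed.Basic

/-!
# Bounded families: uniform regularity and finitely many Euler polynomials
-/

set_option autoImplicit false
set_option backward.isDefEq.respectTransparency false
set_option linter.style.haveILetI false
set_option linter.unusedSectionVars false

universe u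

open CategoryTheory CategoryTheory.Limits AlgebraicGeometry TopologicalSpace

noncomputable section

namespace Groth.L11.Bdd

open Groth.L16 Groth.L22.Inter Groth.L03.Euler Groth.L11.NumOrth Groth.L11.PicFam

variable (k : Type u) [Field k] {X : Scheme.{u}} [X.Over (Spec (CommRingCat.of k))]
  [IsProper (X ↘ Spec (CommRingCat.of k))]

section Slice

variable {T : Scheme.{u}} (q : T ⟶ Spec (CommRingCat.of k)) [LocallyOfFiniteType q]

/-- Betti numbers at a rational point are those of the fibre module. -/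
theorem betti_slice (t : Spec (CommRingCat.of k) ⟶ T) (ht : t ≫ q = 𝟙 _) (G : (Pic13.prodK k X q).Modules)
    (hG : Coh.IsCoh G) (i : ℕ) :
    PerfAux.betti (pullback.snd (X ↘ Spec (CommRingCat.of k)) q) G (t (IsLocalRing.closedPoint k)) i =
      Module.finrank k (Coh.HH X (Pic13.fibreMod k X q t ht G) i) := by
  let f := pullback.snd (X ↘ Spec (CommRingCat.of k)) q
  let y := t (IsLocalRing.closedPoint k)
  letI : (f.fiber y).Over (Spec (CommRingCat.of (T.residueField y))) := ⟨f.fiberToSpecResidueField y⟩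
  let φ := Scheme.descResidueField (Scheme.stalkClosedPointTo t)
  letI : Algebra (T.residueField y) k := φ.hom.toAlgebra
  have hte : Spec.map φ ≫ T.fromSpecResidueField y = t :=
    Scheme.descResidueField_stalkClosedPointTo_fromSpecResidueField k T t
  have hsl : IsPullback (Pic13.sliceAt k X q t ht) (X ↘ Spec (CommRingCat.of k)) f t := Groth.L11.PicFam.isPullback_slice q t ht
  let p : X ⟶ f.fiber y := pullback.lift (Pic13.sliceAt k X q t ht) ((X ↘ Spec (CommRingCat.of k)) ≫ Spec.map φ)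
    (by rw [Category.assoc, hte]; exact hsl.w)
  have hp : p ≫ f.fiberι y = Pic13.sliceAt k X q t ht := pullback.lift_fst _ _ _
  have sq : IsPullback p (X ↘ Spec (CommRingCat.of k)) (f.fiberToSpecResidueField y)
      (Spec.map (CommRingCat.ofHom (algebraMap (T.residueField y) k))) := by
    refine IsPullback.of_right (h₁₂ := f.fiberι y) (h₂₂ := T.fromSpecResidueField y) (v₁₃ := f) ?_ ?_
      (IsPullback.of_hasPullback f (T.fromSpecResidueField y))
    · rw [hp, show CommRingCat.ofHom (algebraMap (T.residueField y) k) = φ from rfl, hte]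
      exact hsl
    · exact pullback.lift_snd _ _ _
  haveI : IsProper (f.fiberToSpecResidueField y) := MorphismProperty.pullback_snd _ _ inferInstance
  haveI : IsProper (f.fiber y ↘ Spec (CommRingCat.of (T.residueField y))) :=
    inferInstanceAs (IsProper (f.fiberToSpecResidueField y))
  haveI : IsLocallyNoetherian (f.fiber y) :=
    LocallyOfFiniteType.isLocallyNoetherian (f.fiber y ↘ Spec (CommRingCat.of (T.residueField y)))
  haveI := isLocallyNoetherian_prod (k := k) (X := X) q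
  have h := Groth.L21.RR.h_pullback (k := T.residueField y) (K := k) p sq
    (Groth.L16.AffineBC.isCoh_pullback (f.fiberι y) hG) i
  refine Eq.trans h.symm ?_
  exact finrank_HH_of_iso ((Scheme.Modules.pullbackComp p (f.fiberι y)).app G ≪≫
    (Scheme.Modules.pullbackCongr hp).app G) i

/-- The fibre of a twist is the twist of the fibre. -/
theorem nonempty_fibre_twist {n : ℕ} (ι : X ⟶ CohB1.ProjSpace n k) (t : Spec (CommRingCat.of k) ⟶ T)
    (ht : t ≫ q = 𝟙 _) (G : (Pic13.prodK k X q).Modules) (d : ℤ) :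
    Nonempty (Pic13.fibreMod k X q t ht
        (CohB1.tensorMod G ((Scheme.Modules.pullback (pullback.fst (X ↘ Spec (CommRingCat.of k)) q)).obj (OX ι d))) ≅
      Pic13.twistOn k ι (Pic13.fibreMod k X q t ht G) d) :=
  ⟨(Groth.L29.DC.PullTensor.pullTensor (Pic13.sliceAt k X q t ht) G _).symm ≪≫
    Groth.L00.Tensor.tensorIso (Iso.refl _)
      ((Scheme.Modules.pullbackComp (Pic13.sliceAt k X q t ht) (pullback.fst (X ↘ Spec (CommRingCat.of k)) q)).app (OX ι d) ≪≫
        (Scheme.Modules.pullbackCongr (pullback.lift_fst _ _ _)).app (OX ι d) ≪≫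
        (Scheme.Modules.pullbackId X).app (OX ι d))⟩

end Slice

variable [IsAlgClosed k] {n : ℕ} (ι : X ⟶ CohB1.ProjSpace n k) [IsClosedImmersion ι]
  {T : Scheme.{u}} (q : T ⟶ Spec (CommRingCat.of k)) [LocallyOfFiniteType q] [QuasiCompact q]
  (G : (Pic13.prodK k X q).Modules) (hG : Coh.IsCoh G) (hfl : FlatMod.IsFlatOver (pullback.snd (X ↘ Spec (CommRingCat.of k)) q) G)

include hG hfl in
theorem facts_twist (d : ℤ) :
    Coh.IsCoh (CohB1.tensorMod G ((Scheme.Modules.pullback (pullback.fst (X ↘ Spec (CommRingCat.of k)) q)).obj (OX ι d))) ∧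
      CohB1.IsFP (CohB1.tensorMod G ((Scheme.Modules.pullback (pullback.fst (X ↘ Spec (CommRingCat.of k)) q)).obj (OX ι d))) ∧
      FlatMod.IsFlatOver (pullback.snd (X ↘ Spec (CommRingCat.of k)) q)
        (CohB1.tensorMod G ((Scheme.Modules.pullback (pullback.fst (X ↘ Spec (CommRingCat.of k)) q)).obj (OX ι d))) := by
  haveI := isLocallyNoetherian_prod (k := k) (X := X) q
  haveI := hG.1
  have hM := Groth.L18.Ample.isInvertible_pullback (pullback.fst (X ↘ Spec (CommRingCat.of k)) q) (isInvertible_OX ι d)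
  have h := Groth.L03.Euler.isCoh_tensor hM hG
  exact ⟨h, Groth.L15.Ref.isFP_of_isCoh h, Groth.L03.ShStab.TwistFlat.isFlatOver_tensor _ hM hfl⟩

include hG hfl in
/-- A flat family has finitely many Euler polynomials. -/
theorem exists_polys_flat : ∃ s : Finset (Polynomial ℚ), ∀ (t : Spec (CommRingCat.of k) ⟶ T) (ht : t ≫ q = 𝟙 _),
    ∃ φ ∈ s, ∀ d : ℤ, (Curv2.euler k X (Pic13.twistOn k ι (Pic13.fibreMod k X q t ht G) d) : ℚ) =
      φ.eval (d : ℚ) := by
  classical
  haveI := noeth q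
  haveI := isLocallyNoetherian_prod (k := k) (X := X) q
  haveI : LocallyOfFinitePresentation (pullback.snd (X ↘ Spec (CommRingCat.of k)) q) :=
    LocallyOfFinitePresentation.iff_locallyOfFiniteType.2 inferInstance
  have hopen : ∀ y : T, IsOpen (connectedComponent y) := fun y =>
    Groth.L04.SupportSh.isOpen_connectedComponent y
  obtain ⟨s, hs⟩ := isCompact_univ.elim_finite_subcover (fun c : T => connectedComponent c) hopen
    (fun y _ => Set.mem_iUnion.2 ⟨y, mem_connectedComponent⟩)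
  have hP : ∀ c : T, ∃ φ : Polynomial ℚ, ∀ (t : Spec (CommRingCat.of k) ⟶ T) (ht : t ≫ q = 𝟙 _),
      t (IsLocalRing.closedPoint k) ∈ connectedComponent c → ∀ d : ℤ,
      (Curv2.euler k X (Pic13.twistOn k ι (Pic13.fibreMod k X q t ht G) d) : ℚ) = φ.eval (d : ℚ) := by
    intro c
    by_cases hc : ∃ (t₀ : Spec (CommRingCat.of k) ⟶ T), ∃ _ : t₀ ≫ q = 𝟙 _,
        t₀ (IsLocalRing.closedPoint k) ∈ connectedComponent c
    swap
    · exact ⟨0, fun t ht hm => absurd ⟨t, ht, hm⟩ hc⟩
    obtain ⟨t₀, ht₀, hm₀⟩ := hc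
    have hcoh : Coh.IsCoh (Pic13.fibreMod k X q t₀ ht₀ G) := Groth.L16.AffineBC.isCoh_pullback _ hG
    obtain ⟨φ, hφ⟩ := exists_poly_twist k ι hcoh
    refine ⟨φ, fun t ht hm d => ?_⟩
    obtain ⟨h1, h2, h3⟩ := facts_twist k ι q G hG hfl d
    have hloc := Groth.Agent.S1026.result _ _ h2 h3
    have := hloc.apply_eq_of_isPreconnected isPreconnected_connectedComponent hm hm₀
    obtain ⟨e⟩ := nonempty_fibre_twist k q ι t ht G d
    obtain ⟨e₀⟩ := nonempty_fibre_twist k q ι t₀ ht₀ G d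
    rw [Groth.Agent.Pic13Tau.exists_fibre_slice k q t ht _ h1,
      Groth.Agent.Pic13Tau.exists_fibre_slice k q t₀ ht₀ _ h1, euler_iso (k := k) e, euler_iso (k := k) e₀] at this
    rw [this]
    exact hφ d
  choose φ hφ using hP
  refine ⟨s.image φ, fun t ht => ?_⟩
  obtain ⟨c, hc, hm⟩ := Set.mem_iUnion₂.1 (hs (Set.mem_univ (t (IsLocalRing.closedPoint k))))
  exact ⟨φ c, Finset.mem_image_of_mem φ hc, hφ c t ht hm⟩

include hG hfl in
/-- A flat family is uniformly regular. -/
theorem exists_regular_flat (_hι : ι ≫ CohB1.ProjSpace.toSpec n k = (X ↘ Spec (CommRingCat.of k))) :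
    ∃ m : ℤ, ∀ (t : Spec (CommRingCat.of k) ⟶ T) (ht : t ≫ q = 𝟙 _),
      Pic13.IsMRegular k ι (Pic13.fibreMod k X q t ht G) m := by
  classical
  haveI := noeth q
  haveI := isLocallyNoetherian_prod (k := k) (X := X) q
  haveI := Groth.L21.RR.isNoetherian_of_proper (X := X) k
  haveI : LocallyOfFinitePresentation (pullback.snd (X ↘ Spec (CommRingCat.of k)) q) :=
    LocallyOfFinitePresentation.iff_locallyOfFiniteType.2 inferInstance
  let Gd : ℤ → (Pic13.prodK k X q).Modules := fun d =>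
    CohB1.tensorMod G ((Scheme.Modules.pullback (pullback.fst (X ↘ Spec (CommRingCat.of k)) q)).obj (OX ι d))
  let U : ℕ → Set T := fun m => ⋂ p ∈ Finset.Icc 1 n,
    {y : T | PerfAux.betti (pullback.snd (X ↘ Spec (CommRingCat.of k)) q) (Gd ((m : ℤ) - p)) y p < 1}
  have hU : ∀ m, IsOpen (U m) := fun m => isOpen_biInter_finset fun p _ => by
    obtain ⟨-, h2, h3⟩ := facts_twist k ι q G hG hfl ((m : ℤ) - p)
    exact Groth.Agent.S1025.result _ _ h2 h3 p 1
  have hiff : ∀ (t : Spec (CommRingCat.of k) ⟶ T) (ht : t ≫ q = 𝟙 _) (m : ℕ),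
      t (IsLocalRing.closedPoint k) ∈ U m ↔ Pic13.IsMRegular k ι (Pic13.fibreMod k X q t ht G) m := by
    intro t ht m
    have hcoh : Coh.IsCoh (Pic13.fibreMod k X q t ht G) := Groth.L16.AffineBC.isCoh_pullback _ hG
    have hb : ∀ p : ℕ, PerfAux.betti (pullback.snd (X ↘ Spec (CommRingCat.of k)) q) (Gd ((m : ℤ) - p)) (t (IsLocalRing.closedPoint k)) p =
        Module.finrank k (Coh.HH X (Pic13.twistOn k ι (Pic13.fibreMod k X q t ht G) ((m : ℤ) - p)) p) := by
      intro p
      obtain ⟨e⟩ := nonempty_fibre_twist k q ι t ht G ((m : ℤ) - p)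
      rw [betti_slice k q t ht _ (facts_twist k ι q G hG hfl _).1 p]
      exact finrank_HH_of_iso e p
    constructor
    · intro h p hp
      by_cases hpn : p ≤ n
      · have h1 := Set.mem_iInter₂.1 h p (Finset.mem_Icc.2 ⟨hp, hpn⟩)
        rw [Set.mem_ofPred_eq, hb p, Nat.lt_one_iff] at h1
        haveI := Groth.L16.ProperFinite.finite_HH k
          (Groth.L22.Reg.isCoh_twistOn ι hcoh ((m : ℤ) - p)) p
        exact Module.finrank_zero_iff.1 h1
      · exact subsingleton_HH_of_dim (dim_le_ambient k ι) _ (not_le.1 hpn)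
    · intro h
      refine Set.mem_iInter₂.2 fun p hp => ?_
      haveI := h p (Finset.mem_Icc.1 hp).1
      rw [Set.mem_ofPred_eq, hb p, Module.finrank_zero_of_subsingleton]
      exact Nat.one_pos
  have hcl : ∀ y : T, IsClosed ({y} : Set T) → ∃ m, y ∈ U m := by
    intro y hy
    let t := pointOfClosedPoint q y hy
    have ht : t ≫ q = 𝟙 _ := pointOfClosedPoint_comp q y hy
    have hcoh : Coh.IsCoh (Pic13.fibreMod k X q t ht G) := Groth.L16.AffineBC.isCoh_pullback _ hG
    obtain ⟨z, hz⟩ := Rees.RelVanish.exists_vanishing (X ↘ Spec (CommRingCat.of k)) (isAmple_OX_one ι) hcoh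
    refine ⟨z + n, ?_⟩
    rw [← pointOfClosedPoint_apply q y hy (IsLocalRing.closedPoint k), hiff t ht]
    intro p hp
    by_cases hpn : p ≤ n
    · obtain ⟨e⟩ := nonempty_pow_OX ι (z + n - p)
      have h := hz (z + n - p) (by omega) p hp
      refine (Groth.L22.Reg.subsingleton_congr_iso ?_ p).1 h
      refine Groth.L00.Tensor.tensorIso (Iso.refl _) (e ≪≫ eqToIso ?_)
      congr 1
      omega
    · exact subsingleton_HH_of_dim (dim_le_ambient k ι) _ (not_le.1 hpn)
  obtain ⟨S, hS⟩ := isCompact_univ.elim_finite_subcover U hU (fun y _ => by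
    obtain ⟨c, hc, hyc⟩ := (isClosed_closure (s := ({y} : Set T))).exists_closed_singleton ⟨y, subset_closure rfl⟩
    obtain ⟨m, hm⟩ := hcl c hyc
    exact Set.mem_iUnion.2 ⟨m, (specializes_iff_mem_closure.2 hc).mem_open (hU m) hm⟩)
  refine ⟨(S.sup id : ℕ), fun t ht => ?_⟩
  obtain ⟨m, hm, hmem⟩ := Set.mem_iUnion₂.1 (hS (Set.mem_univ (t (IsLocalRing.closedPoint k))))
  exact (Groth.Agent.S12111.result k n ι _ (Groth.L16.AffineBC.isCoh_pullback _ hG) m ((hiff t ht m).1 hmem) _
    (by exact_mod_cast Finset.le_sup (f := id) hm)).1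

/-- A bounded family is uniformly regular and has finitely many Euler polynomials. -/
theorem regular_polys_of_bounded (hι : ι ≫ CohB1.ProjSpace.toSpec n k = (X ↘ Spec (CommRingCat.of k)))
    {P : X.Modules → Prop} (hb : Pic13.IsBounded k X P) :
    ∃ m : ℤ, ∃ s : Finset (Polynomial ℚ), ∀ F, P F → Pic13.IsMRegular k ι F m ∧
      ∃ φ ∈ s, ∀ d : ℤ, (Curv2.euler k X (Pic13.twistOn k ι F d) : ℚ) = φ.eval (d : ℚ) := by
  classical
  obtain ⟨T, q, hft, hqc, F₀, hF₀, hmem⟩ := hb
  haveI := hft; haveI := hqc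
  haveI := isLocallyNoetherian_prod (k := k) (X := X) q
  obtain ⟨r, V, h, hV, hlift⟩ := exists_flat q F₀ hF₀
  have hG : ∀ j, Coh.IsCoh ((Scheme.Modules.pullback (res (X := X) q (h j))).obj F₀) := fun j => by
    haveI := (hV j).1
    haveI := isLocallyNoetherian_prod (k := k) (X := X) (h j ≫ q)
    exact Groth.L16.AffineBC.isCoh_pullback _ hF₀
  have hs : ∀ j, ∃ m : ℤ, ∃ s : Finset (Polynomial ℚ), ∀ (t : Spec (CommRingCat.of k) ⟶ V j) (ht : t ≫ h j ≫ q = 𝟙 _),
      Pic13.IsMRegular k ι (Pic13.fibreMod k X (h j ≫ q) t ht ((Scheme.Modules.pullback (res q (h j))).obj F₀)) m ∧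
      ∃ φ ∈ s, ∀ d : ℤ, (Curv2.euler k X (Pic13.twistOn k ι
        (Pic13.fibreMod k X (h j ≫ q) t ht ((Scheme.Modules.pullback (res q (h j))).obj F₀)) d) : ℚ) =
          φ.eval (d : ℚ) := fun j => by
    haveI := (hV j).1; haveI := (hV j).2.1
    obtain ⟨m, hm⟩ := exists_regular_flat k ι (h j ≫ q) _ (hG j) (hV j).2.2 hι
    obtain ⟨s, hs⟩ := exists_polys_flat k ι (h j ≫ q) _ (hG j) (hV j).2.2
    exact ⟨m, s, fun t ht => ⟨hm t ht, hs t ht⟩⟩
  choose m s hs using hs
  refine ⟨((Finset.univ.sup fun j => (m j).toNat : ℕ) : ℤ), Finset.univ.biUnion s, fun F hF => ?_⟩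
  obtain ⟨t, ht, ⟨e⟩⟩ := hmem F hF
  obtain ⟨j, t', hj⟩ := hlift t ht
  subst hj
  obtain ⟨e'⟩ := fibre_res q (h j) F₀ ((Category.assoc _ _ _).symm.trans ht) ht rfl
  obtain ⟨hr, φ, hφ, hd⟩ := hs j t' ((Category.assoc _ _ _).symm.trans ht)
  refine ⟨?_, φ, Finset.mem_biUnion.2 ⟨j, Finset.mem_univ j, hφ⟩, fun d => ?_⟩
  · haveI := (hV j).1
    haveI := isLocallyNoetherian_prod (k := k) (X := X) (h j ≫ q)
    have hc : Coh.IsCoh (Pic13.fibreMod k X (h j ≫ q) t' ((Category.assoc _ _ _).symm.trans ht)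
        ((Scheme.Modules.pullback (res q (h j))).obj F₀)) := Groth.L16.AffineBC.isCoh_pullback _ (hG j)
    have h1 := (Groth.Agent.S12111.result k n ι _ hc (m j) hr ((Finset.univ.sup fun j => (m j).toNat : ℕ) : ℤ) (by
      have := Finset.le_sup (f := fun j => (m j).toNat) (Finset.mem_univ j)
      omega)).1
    exact fun p hp => (Groth.L22.Reg.subsingleton_congr_iso
      (Groth.L00.Tensor.tensorIso (e' ≪≫ e) (Iso.refl _)) p).1 (h1 p hp)
  · rw [← hd d, euler_iso (k := k) (show Pic13.twistOn k ι (Pic13.fibreMod k X (h j ≫ q) t'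
      ((Category.assoc _ _ _).symm.trans ht) ((Scheme.Modules.pullback (res q (h j))).obj F₀)) d ≅
      Pic13.twistOn k ι F d from Groth.L00.Tensor.tensorIso (e' ≪≫ e) (Iso.refl _))]

end Groth.L11.Bdd
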