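import Groth.Agent.L20.DescLocus.Main
import Groth.Agent.L18.Frame
import Groth.Agent.L17.BC.PullSec

/-!
# Composites of inverse images on pulled back sections
-/

set_option autoImplicit false
set_option backward.isDefEq.respectTransparency false
set_option backward.isDefEq.respectTransparency.types false
set_option linter.style.haveILetI false

universe u

open CategoryTheory AlgebraicGeometry Scheme.Modules Opposite

noncomputable section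

namespace Groth.L11.Bdd.Cohe

open Groth.L18.Frame (rs rs_rs rs_self pull pull_rs)
open Groth.L20.DescLocus (sqIso unit_comp)
open Groth.L17.BC.PullSec (app_rs map_pull)

variable {X Y Z : Scheme.{u}}

/-- A morphism out of an inverse image is determined on pulled back sections. -/
theorem hom_ext_pull (f : X ⟶ Y) {M : Y.Modules} {N : X.Modules} {a b : (pullback f).obj M ⟶ N}
    (h : ∀ (V : Y.Opens) (m : Γ(M, V)), a.app (f ⁻¹ᵁ V) (pull f M V m) = b.app (f ⁻¹ᵁ V) (pull f M V m)) : a = b := by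
  refine ((pullbackPushforwardAdjunction f).homEquiv M N).injective ?_
  rw [Adjunction.homEquiv_unit, Adjunction.homEquiv_unit]
  exact Scheme.Modules.hom_ext _ _ fun V => ConcreteCategory.hom_ext _ _ fun m => h V m

/-- Composition of inverse images on pulled back sections. -/
theorem pullbackComp_inv_pull (f : X ⟶ Y) (g : Y ⟶ Z) (M : Z.Modules) (V : Z.Opens) (m : Γ(M, V)) :
    ((pullbackComp f g).inv.app M).app ((f ≫ g) ⁻¹ᵁ V) (pull (f ≫ g) M V m) =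
      pull f ((pullback g).obj M) (g ⁻¹ᵁ V) (pull g M V m) :=
  (congr($(congrArg (fun k => Scheme.Modules.Hom.app k V) (unit_comp f g M)) m)).symm

theorem pullbackComp_hom_pull (f : X ⟶ Y) (g : Y ⟶ Z) (M : Z.Modules) (V : Z.Opens) (m : Γ(M, V)) :
    ((pullbackComp f g).hom.app M).app ((f ≫ g) ⁻¹ᵁ V) (pull f ((pullback g).obj M) (g ⁻¹ᵁ V) (pull g M V m)) =
      pull (f ≫ g) M V m := by
  rw [← pullbackComp_inv_pull]
  show ((pullbackComp f g).inv.app M ≫ (pullbackComp f g).hom.app M).app ((f ≫ g) ⁻¹ᵁ V) _ = _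
  rw [Iso.inv_hom_id_app]
  rfl

theorem pullbackCongr_hom_pull {f f' : X ⟶ Y} (e : f = f') (M : Y.Modules) (V : Y.Opens) (m : Γ(M, V)) :
    ((pullbackCongr e).hom.app M).app (f ⁻¹ᵁ V) (pull f M V m) =
      rs ((pullback f').obj M) (by rw [e]) (pull f' M V m) := by
  subst e
  rw [rs_self]
  rfl

/-- The square iso on pulled back sections. -/
theorem sqIso_hom_pull {X' S S' : Scheme.{u}} (f : X ⟶ S) (g : S' ⟶ S) (f' : X' ⟶ S') (g' : X' ⟶ X)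
    (w : g' ≫ f = f' ≫ g) (M : S.Modules) (V : S.Opens) (m : Γ(M, V)) :
    (sqIso f g f' g' w M).hom.app (g' ⁻¹ᵁ (f ⁻¹ᵁ V)) (pull g' ((pullback f).obj M) (f ⁻¹ᵁ V) (pull f M V m)) =
      rs ((pullback f').obj ((pullback g).obj M)) (le_of_eq (congrArg (fun φ : X' ⟶ S => φ ⁻¹ᵁ V) w))
        (pull f' ((pullback g).obj M) (g ⁻¹ᵁ V) (pull g M V m)) := by
  refine (congrArg (fun z => ((pullbackComp f' g).inv.app M).app ((g' ≫ f) ⁻¹ᵁ V)
    (((pullbackCongr w).hom.app M).app ((g' ≫ f) ⁻¹ᵁ V) z)) (pullbackComp_hom_pull g' f M V m)).trans ?_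
  refine (congrArg (((pullbackComp f' g).inv.app M).app ((g' ≫ f) ⁻¹ᵁ V)) (pullbackCongr_hom_pull w M V m)).trans ?_
  refine (app_rs ((pullbackComp f' g).inv.app M)
    (le_of_eq (congrArg (fun φ : X' ⟶ S => φ ⁻¹ᵁ V) w)) (pull (f' ≫ g) M V m)).trans ?_
  exact congrArg (rs ((pullback f').obj ((pullback g).obj M)) _) (pullbackComp_inv_pull f' g M V m)

theorem sqIso_inv_pull {X' S S' : Scheme.{u}} (f : X ⟶ S) (g : S' ⟶ S) (f' : X' ⟶ S') (g' : X' ⟶ X)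
    (w : g' ≫ f = f' ≫ g) (M : S.Modules) (V : S.Opens) (m : Γ(M, V)) :
    (sqIso f g f' g' w M).inv.app (f' ⁻¹ᵁ (g ⁻¹ᵁ V)) (pull f' ((pullback g).obj M) (g ⁻¹ᵁ V) (pull g M V m)) =
      rs ((pullback g').obj ((pullback f).obj M)) (le_of_eq (congrArg (fun φ : X' ⟶ S => φ ⁻¹ᵁ V) w.symm))
        (pull g' ((pullback f).obj M) (f ⁻¹ᵁ V) (pull f M V m)) := by
  have h := congrArg ((sqIso f g f' g' w M).inv.app (g' ⁻¹ᵁ (f ⁻¹ᵁ V))) (sqIso_hom_pull f g f' g' w M V m)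
  rw [app_rs] at h
  have h2 : ((sqIso f g f' g' w M).hom ≫ (sqIso f g f' g' w M).inv).app (g' ⁻¹ᵁ (f ⁻¹ᵁ V))
      (pull g' ((pullback f).obj M) (f ⁻¹ᵁ V) (pull f M V m)) = pull g' ((pullback f).obj M) (f ⁻¹ᵁ V) (pull f M V m) := by
    rw [Iso.hom_inv_id]
    rfl
  have h3 := congrArg (rs ((pullback g').obj ((pullback f).obj M))
    (le_of_eq (congrArg (fun φ : X' ⟶ S => φ ⁻¹ᵁ V) w.symm))) (h2.symm.trans h)
  rw [rs_rs, rs_self] at h3
  exact h3.symm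

variable {W WH WV XH XV : Scheme.{u}} (g : W ⟶ X) (σh : W ⟶ WH) (σv : W ⟶ WV) (τh : X ⟶ XH) (τv : X ⟶ XV)
  (rW : WH ⟶ WV) (rX : XH ⟶ XV) (mH : WH ⟶ XH) (mV : WV ⟶ XV)

/-- The compatibility of the square isos with a change of base. -/
theorem sqIso_compat (wh : σh ≫ mH = g ≫ τh) (wv : σv ≫ mV = g ≫ τv) (wr : rW ≫ mV = mH ≫ rX)
    (eW : σh ≫ rW = σv) (eX : τh ≫ rX = τv) (A : XV.Modules) :
    (sqIso mH τh g σh wh ((pullback rX).obj A)).inv ≫ (pullback σh).map (sqIso mV rX mH rW wr A).inv ≫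
        (pullbackComp σh rW ≪≫ pullbackCongr eW).hom.app ((pullback mV).obj A) =
      (pullback g).map ((pullbackComp τh rX ≪≫ pullbackCongr eX).hom.app A) ≫ (sqIso mV τv g σv wv A).inv := by
  refine ((pullbackPushforwardAdjunction g).homEquiv _ _).injective
    (((pullbackPushforwardAdjunction τh).homEquiv _ _).injective (hom_ext_pull rX fun V m => ?_))
  simp only [Adjunction.homEquiv_unit]
  subst eW eX
  let L := (pullback mV).obj A
  let RX := (pullback rX).obj A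
  let z := pull g ((pullback τh).obj RX) (τh ⁻¹ᵁ (rX ⁻¹ᵁ V)) (pull τh RX (rX ⁻¹ᵁ V) (pull rX A V m))
  let O := g ⁻¹ᵁ (τh ⁻¹ᵁ (rX ⁻¹ᵁ V))
  let O₁ := σh ⁻¹ᵁ (mH ⁻¹ᵁ (rX ⁻¹ᵁ V))
  let O₂ := σh ⁻¹ᵁ (rW ⁻¹ᵁ (mV ⁻¹ᵁ V))
  let α := (sqIso mH τh g σh wh RX).inv
  let β := (pullback σh).map (sqIso mV rX mH rW wr A).inv
  let γ := (pullbackComp σh rW).hom.app L
  let γX := (pullbackComp τh rX).hom.app A
  let δ := (sqIso mV (τh ≫ rX) g (σh ≫ rW) wv A).inv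
  simp only [pullbackCongr, eqToIso_refl, Iso.trans_refl]
  show (α ≫ β ≫ γ).app O z = ((pullback g).map γX ≫ δ).app O z
  show γ.app O (β.app O (α.app O z)) = δ.app O (((pullback g).map γX).app O z)
  have hO : O ≤ O₁ := le_of_eq (congrArg (fun φ : W ⟶ XH => φ ⁻¹ᵁ (rX ⁻¹ᵁ V)) wh.symm)
  have hO₁ : O₁ ≤ O₂ := σh.preimage_mono (le_of_eq (congrArg (fun φ : WH ⟶ XV => φ ⁻¹ᵁ V) wr.symm))
  have hO₂ : O ≤ O₂ := hO.trans hO₁
  have a1 : α.app O z = rs _ hO (pull σh ((pullback mH).obj RX) (mH ⁻¹ᵁ (rX ⁻¹ᵁ V)) (pull mH RX (rX ⁻¹ᵁ V) (pull rX A V m))) :=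
    sqIso_inv_pull mH τh g σh wh RX (rX ⁻¹ᵁ V) (pull rX A V m)
  have a2 : β.app O₁ (pull σh ((pullback mH).obj RX) (mH ⁻¹ᵁ (rX ⁻¹ᵁ V)) (pull mH RX (rX ⁻¹ᵁ V) (pull rX A V m))) =
      rs _ hO₁ (pull σh ((pullback rW).obj L) (rW ⁻¹ᵁ (mV ⁻¹ᵁ V)) (pull rW L (mV ⁻¹ᵁ V) (pull mV A V m))) :=
    (map_pull σh _ _ _).trans ((congrArg (pull σh ((pullback rW).obj L) (mH ⁻¹ᵁ (rX ⁻¹ᵁ V)))
      (sqIso_inv_pull mV rX mH rW wr A V m)).trans (pull_rs σh _ _ _).symm)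
  have a3 : γ.app O₂ (pull σh ((pullback rW).obj L) (rW ⁻¹ᵁ (mV ⁻¹ᵁ V)) (pull rW L (mV ⁻¹ᵁ V) (pull mV A V m))) =
      pull (σh ≫ rW) L (mV ⁻¹ᵁ V) (pull mV A V m) :=
    pullbackComp_hom_pull σh rW L (mV ⁻¹ᵁ V) (pull mV A V m)
  have b1 : ((pullback g).map γX).app O z = pull g ((pullback (τh ≫ rX)).obj A) ((τh ≫ rX) ⁻¹ᵁ V) (pull (τh ≫ rX) A V m) :=
    (map_pull g γX _ _).trans (congrArg (pull g ((pullback (τh ≫ rX)).obj A) ((τh ≫ rX) ⁻¹ᵁ V))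
      (pullbackComp_hom_pull τh rX A V m))
  have b2 : δ.app O (pull g ((pullback (τh ≫ rX)).obj A) ((τh ≫ rX) ⁻¹ᵁ V) (pull (τh ≫ rX) A V m)) =
      rs _ hO₂ (pull (σh ≫ rW) L (mV ⁻¹ᵁ V) (pull mV A V m)) :=
    sqIso_inv_pull mV (τh ≫ rX) g (σh ≫ rW) wv A V m
  rw [a1, app_rs β hO, a2, rs_rs]
  refine (app_rs γ (hO.trans hO₁) _).trans ?_
  refine (congrArg (rs _ _) a3).trans ?_
  exact ((congrArg (δ.app O) b1).trans b2).symm

end Groth.L11.Bdd.Cohe
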