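import Groth.Agent.L11.Bdd.Kernel
import Groth.Agent.L11.Bdd.Coh

/-!
# Adjoints of the fibres of a morphism out of an inverse image
-/

set_option autoImplicit false
set_option backward.isDefEq.respectTransparency false
set_option backward.isDefEq.respectTransparency.types false
set_option linter.style.haveILetI false
set_option linter.unusedSectionVars false

universe u

open CategoryTheory CategoryTheory.Limits AlgebraicGeometry TopologicalSpace

noncomputable section

namespace Groth.L11.Bdd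

open Groth.L11.PicFam (res res_fst res_snd isPullback_res fibre_res isPullback_slice slice_res)
open Groth.L20.DescLocus (sqIso)

variable {k : Type u} [Field k] {X W : Scheme.{u}} [X.Over (Spec (CommRingCat.of k))] [W.Over (Spec (CommRingCat.of k))]
  (g : KMap k W X) {T : Scheme.{u}} (q : T ⟶ Spec (CommRingCat.of k))

/-- The adjoint of the fibre at a point. -/
def adjAt (t : Spec (CommRingCat.of k) ⟶ T) (ht : t ≫ q = 𝟙 _) {A : (Pic13.prodK k X q).Modules}
    {M : (Pic13.prodK k W q).Modules} (ψ : (Scheme.Modules.pullback (mapK g q)).obj A ⟶ M) :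
    (Scheme.Modules.pullback (Pic13.sliceAt k X q t ht)).obj A ⟶
      (Scheme.Modules.pushforward g.f).obj ((Scheme.Modules.pullback (Pic13.sliceAt k W q t ht)).obj M) :=
  (Scheme.Modules.pullbackPushforwardAdjunction g.f).homEquiv _ _
    ((sqIso (mapK g q) (Pic13.sliceAt k X q t ht) g.f (Pic13.sliceAt k W q t ht) (slice_mapK g q t ht) A).inv ≫
      (Scheme.Modules.pullback (Pic13.sliceAt k W q t ht)).map ψ)

/-- The adjoint of the fibre is the fibre of the adjoint followed by base change. -/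
theorem adjAt_eq (t : Spec (CommRingCat.of k) ⟶ T) (ht : t ≫ q = 𝟙 _) {A : (Pic13.prodK k X q).Modules}
    {M : (Pic13.prodK k W q).Modules} (ψ : (Scheme.Modules.pullback (mapK g q)).obj A ⟶ M) :
    adjAt g q t ht ψ = (Scheme.Modules.pullback (Pic13.sliceAt k X q t ht)).map
        ((Scheme.Modules.pullbackPushforwardAdjunction (mapK g q)).homEquiv _ _ ψ) ≫
      CohBC.bc0 (mapK g q) (Pic13.sliceAt k X q t ht) g.f (Pic13.sliceAt k W q t ht) (slice_mapK g q t ht) M := by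
  have h := Groth.L20.DescLocus.unit_bc0 (mapK g q) (Pic13.sliceAt k X q t ht) g.f (Pic13.sliceAt k W q t ht)
    (slice_mapK g q t ht) A
  rw [adjAt, Adjunction.homEquiv_unit, Adjunction.homEquiv_unit, Functor.map_comp (Scheme.Modules.pullback _),
    Category.assoc, Groth.L20.DescLocus.bc0_natural, ← h, Category.assoc, Category.assoc, ← Functor.map_comp,
    Iso.hom_inv_id_assoc]

theorem res_mapK {V : Scheme.{u}} (h : V ⟶ T) :
    res q h ≫ mapK g q = mapK g (h ≫ q) ≫ res q h := by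
  refine pullback.hom_ext ?_ ?_
  · rw [Category.assoc, mapK_fst, ← Category.assoc, res_fst, Category.assoc, res_fst, mapK_fst]
  · rw [Category.assoc, mapK_snd, res_snd, Category.assoc, res_snd, ← Category.assoc, mapK_snd]

/-- The restriction of a morphism out of an inverse image. -/
def resHom {V : Scheme.{u}} (h : V ⟶ T) {A : (Pic13.prodK k X q).Modules}
    {M : (Pic13.prodK k W q).Modules} (ψ : (Scheme.Modules.pullback (mapK g q)).obj A ⟶ M) :
    (Scheme.Modules.pullback (mapK g (h ≫ q))).obj ((Scheme.Modules.pullback (res q h)).obj A) ⟶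
      (Scheme.Modules.pullback (res q h)).obj M :=
  (sqIso (mapK g q) (res q h) (mapK g (h ≫ q)) (res q h) (res_mapK g q h) A).inv ≫
    (Scheme.Modules.pullback (res q h)).map ψ

/-- Adjoints of the fibres of a morphism on a restricted family, in terms of the family. -/
theorem aiso_adjAt_res {V : Scheme.{u}} (h : V ⟶ T) {A : (Pic13.prodK k X q).Modules}
    {M₁ : (Pic13.prodK k W (h ≫ q)).Modules}
    (ψ₀ : (Scheme.Modules.pullback (res q h)).obj ((Scheme.Modules.pullback (mapK g q)).obj A) ⟶ M₁)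
    {t : Spec (CommRingCat.of k) ⟶ V} (ht : t ≫ h ≫ q = 𝟙 _) {s : Spec (CommRingCat.of k) ⟶ T}
    (hs : s ≫ q = 𝟙 _) (he : t ≫ h = s) :
    AIso (adjAt g (h ≫ q) t ht ((sqIso (mapK g q) (res q h) (mapK g (h ≫ q)) (res q h) (res_mapK g q h) A).inv ≫ ψ₀))
      ((Scheme.Modules.pullbackPushforwardAdjunction g.f).homEquiv _ _
        ((sqIso (mapK g q) (Pic13.sliceAt k X q s hs) g.f (Pic13.sliceAt k W q s hs) (slice_mapK g q s hs) A).inv ≫
          (Scheme.Modules.pullbackComp (Pic13.sliceAt k W (h ≫ q) t ht) (res q h) ≪≫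
            Scheme.Modules.pullbackCongr (show _ = Pic13.sliceAt k W q s hs by subst he; exact slice_res q h t ht)).inv.app _ ≫
          (Scheme.Modules.pullback (Pic13.sliceAt k W (h ≫ q) t ht)).map ψ₀)) := by
  subst he
  have eX : Pic13.sliceAt k X (h ≫ q) t ht ≫ res q h = Pic13.sliceAt k X q (t ≫ h) hs := slice_res q h t ht
  have eW : Pic13.sliceAt k W (h ≫ q) t ht ≫ res q h = Pic13.sliceAt k W q (t ≫ h) hs := slice_res q h t ht
  have hc := Cohe.sqIso_compat g.f (Pic13.sliceAt k W (h ≫ q) t ht) (Pic13.sliceAt k W q (t ≫ h) hs)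
    (Pic13.sliceAt k X (h ≫ q) t ht) (Pic13.sliceAt k X q (t ≫ h) hs) (res q h) (res q h) (mapK g (h ≫ q))
    (mapK g q) (slice_mapK g (h ≫ q) t ht) (slice_mapK g q (t ≫ h) hs) (res_mapK g q h) eW eX A
  let a := (Scheme.Modules.pullbackComp (Pic13.sliceAt k X (h ≫ q) t ht) (res q h) ≪≫ Scheme.Modules.pullbackCongr eX).app A
  let bL := (Scheme.Modules.pullbackComp (Pic13.sliceAt k W (h ≫ q) t ht) (res q h) ≪≫ Scheme.Modules.pullbackCongr eW).app
    ((Scheme.Modules.pullback (mapK g q)).obj A)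
  refine AIso.mk a (Iso.refl _) ?_
  rw [Iso.refl_hom, Category.comp_id, adjAt, ← Adjunction.homEquiv_naturality_left]
  refine congrArg _ ?_
  have hc' : (sqIso (mapK g (h ≫ q)) (Pic13.sliceAt k X (h ≫ q) t ht) g.f (Pic13.sliceAt k W (h ≫ q) t ht)
        (slice_mapK g (h ≫ q) t ht) ((Scheme.Modules.pullback (res q h)).obj A)).inv ≫
      (Scheme.Modules.pullback (Pic13.sliceAt k W (h ≫ q) t ht)).map
        (sqIso (mapK g q) (res q h) (mapK g (h ≫ q)) (res q h) (res_mapK g q h) A).inv ≫ bL.hom =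
      (Scheme.Modules.pullback g.f).map a.hom ≫ (sqIso (mapK g q) (Pic13.sliceAt k X q (t ≫ h) hs) g.f
        (Pic13.sliceAt k W q (t ≫ h) hs) (slice_mapK g q (t ≫ h) hs) A).inv := hc
  rw [Functor.map_comp]
  show (Scheme.Modules.pullback g.f).map a.hom ≫ _ ≫ bL.inv ≫ _ = _
  rw [← reassoc_of% hc', Iso.hom_inv_id_assoc]

/-- Adjoints of fibres are compatible with restriction. -/
theorem aiso_adjAt {V : Scheme.{u}} (h : V ⟶ T) {A : (Pic13.prodK k X q).Modules}
    {M : (Pic13.prodK k W q).Modules} (ψ : (Scheme.Modules.pullback (mapK g q)).obj A ⟶ M)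
    {t : Spec (CommRingCat.of k) ⟶ V} (ht : t ≫ h ≫ q = 𝟙 _) {s : Spec (CommRingCat.of k) ⟶ T}
    (hs : s ≫ q = 𝟙 _) (he : t ≫ h = s) :
    AIso (adjAt g (h ≫ q) t ht (resHom g q h ψ)) (adjAt g q s hs ψ) := by
  refine (aiso_adjAt_res g q h ((Scheme.Modules.pullback (res q h)).map ψ) ht hs he).trans ?_
  subst he
  let b := Scheme.Modules.pullbackComp (Pic13.sliceAt k W (h ≫ q) t ht) (res q h) ≪≫
    Scheme.Modules.pullbackCongr (show _ = Pic13.sliceAt k W q (t ≫ h) hs from slice_res q h t ht)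
  refine AIso.mk (Iso.refl _) ((Scheme.Modules.pushforward g.f).mapIso (b.app M)) ?_
  rw [Iso.refl_hom, Category.id_comp, adjAt, Functor.mapIso_hom, ← Adjunction.homEquiv_naturality_right]
  refine congrArg _ ?_
  simp only [Category.assoc]
  refine congrArg _ ?_
  have hn : (Scheme.Modules.pullback (Pic13.sliceAt k W (h ≫ q) t ht)).map ((Scheme.Modules.pullback (res q h)).map ψ) ≫
      b.hom.app M = b.hom.app _ ≫ (Scheme.Modules.pullback (Pic13.sliceAt k W q (t ≫ h) hs)).map ψ := b.hom.naturality ψ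
  show _ = b.inv.app _ ≫ _ ≫ b.hom.app M
  rw [hn, Iso.inv_hom_id_app_assoc]

variable [IsProper (X ↘ Spec (CommRingCat.of k))] [IsProper (W ↘ Spec (CommRingCat.of k))]

/-- The kernels of the adjoints of the fibres of one morphism form a bounded family. -/
theorem bd_adj_kernel [IsAffine T] [LocallyOfFiniteType q] {A : (Pic13.prodK k X q).Modules} (hA : Coh.IsCoh A)
    {M : (Pic13.prodK k W q).Modules} (hM : Coh.IsCoh M) (ψ : (Scheme.Modules.pullback (mapK g q)).obj A ⟶ M) :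
    Bd (k := k) (fun K : X.Modules => ∃ (t : Spec (CommRingCat.of k) ⟶ T) (ht : t ≫ q = 𝟙 _),
      Nonempty (kernel (adjAt g q t ht ψ) ≅ K)) := by
  haveI : QuasiCompact q := inferInstance
  refine (covers_flat (W := W) q M hM).bd fun V h _ hl => ?_
  haveI := hl
  haveI := isLocallyNoetherian_prod (k := k) (X := X) q
  haveI := isLocallyNoetherian_prod (k := k) (X := W) q
  haveI := isLocallyNoetherian_prod (k := k) (X := X) (h ≫ q)
  haveI := isLocallyNoetherian_prod (k := k) (X := W) (h ≫ q)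
  by_cases hfl : FlatMod.IsFlatOver (pullback.snd (W ↘ Spec (CommRingCat.of k)) (h ≫ q))
      ((Scheme.Modules.pullback (res q h)).obj M)
  swap
  · exact ⟨0, Fin.elim0, fun K ⟨_, _, hP, _⟩ => absurd hP hfl⟩
  have hA₁ : Coh.IsCoh ((Scheme.Modules.pullback (res (X := X) q h)).obj A) := Groth.L16.AffineBC.isCoh_pullback _ hA
  have hM₁ : Coh.IsCoh ((Scheme.Modules.pullback (res (X := W) q h)).obj M) := Groth.L16.AffineBC.isCoh_pullback _ hM
  let ψ₁ := resHom g q h ψ
  haveI : QuasiCompact (h ≫ q) := inferInstance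
  let S : (t : Spec (CommRingCat.of k) ⟶ V) → t ≫ h ≫ q = 𝟙 _ → X.Modules → Prop := fun t ht K =>
    Nonempty (kernel (adjAt g (h ≫ q) t ht ψ₁) ≅ K)
  refine Bd.mono (P := fun K => ∃ t ht, S t ht K) ?_ fun K ⟨t, ht, _, ⟨e⟩⟩ => ⟨K, ⟨t, ht, ?_⟩, ⟨Iso.refl _⟩⟩
  swap
  · exact ⟨(AIso.kernel_iso (aiso_adjAt g q h ψ ht ((Category.assoc _ _ _).trans ht) rfl)).some ≪≫ e⟩
  refine (covers_good g (h ≫ q) _ hM₁ hfl).bd fun V' h' hV' hl' => ?_
  haveI := hV'; haveI := hl'
  haveI := isLocallyNoetherian_prod (k := k) (X := X) (h' ≫ h ≫ q)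
  haveI := isLocallyNoetherian_prod (k := k) (X := W) (h' ≫ h ≫ q)
  haveI := isProper_mapK g (h' ≫ h ≫ q)
  let ψ₂ := resHom g (h ≫ q) h' ψ₁
  let u := (Scheme.Modules.pullbackPushforwardAdjunction (mapK g (h' ≫ h ≫ q))).homEquiv _ _ ψ₂
  refine (bd_kernel (h' ≫ h ≫ q) (Groth.L16.AffineBC.isCoh_pullback _ hA₁)
    (Groth.L16.Exist.isCoh_pushforward _ (Groth.L16.AffineBC.isCoh_pullback _ hM₁)) u).mono
    fun K hK => ⟨K, ?_, ⟨Iso.refl _⟩⟩
  obtain ⟨t, ht, hbc, ⟨e⟩⟩ := hK
  obtain ⟨e1⟩ := AIso.kernel_iso (aiso_adjAt g (h ≫ q) h' ψ₁ ht ((Category.assoc _ _ _).trans ht) rfl)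
  haveI : IsIso (CohBC.bc0 (mapK g (h' ≫ h ≫ q)) (Pic13.sliceAt k X (h' ≫ h ≫ q) t ht) g.f
    (Pic13.sliceAt k W (h' ≫ h ≫ q) t ht) (slice_mapK g (h' ≫ h ≫ q) t ht)
    ((Scheme.Modules.pullback (res (h ≫ q) h')).obj ((Scheme.Modules.pullback (res q h)).obj M))) := hbc
  obtain ⟨e2⟩ := AIso.kernel_iso (AIso.mk (f := (Scheme.Modules.pullback (Pic13.sliceAt k X (h' ≫ h ≫ q) t ht)).map u)
    (f' := adjAt g (h' ≫ h ≫ q) t ht ψ₂) (Iso.refl _)
    (asIso (CohBC.bc0 (mapK g (h' ≫ h ≫ q)) (Pic13.sliceAt k X (h' ≫ h ≫ q) t ht) g.f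
      (Pic13.sliceAt k W (h' ≫ h ≫ q) t ht) (slice_mapK g (h' ≫ h ≫ q) t ht) _))
    (by rw [Iso.refl_hom, Category.id_comp, adjAt_eq, asIso_hom]))
  exact ⟨t, ht, ⟨e2 ≪≫ e1 ≪≫ e⟩⟩

end Groth.L11.Bdd
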