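import Groth.Agent.L11.NumOrth.PicFam
import Groth.Agent.L16.Exist.PushPull
import Groth.Agent.L16.Devissage

/-!
# Bounded families through finitely many affine pieces
-/

set_option autoImplicit false
set_option backward.isDefEq.respectTransparency false
set_option backward.isDefEq.respectTransparency.types false
set_option linter.style.haveILetI false
set_option linter.unusedSectionVars false

universe u

open CategoryTheory CategoryTheory.Limits AlgebraicGeometry TopologicalSpace

noncomputable section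

namespace Groth.L11.Bdd

open Groth.L11.PicFam (res res_fst res_snd isPullback_res fibre_res isPullback_slice)

variable (k : Type u) [Field k] (X : Scheme.{u}) [X.Over (Spec (CommRingCat.of k))]

/-- An affine base with a coherent module on the product. -/
structure Pc where
  /-- base -/
  T : Scheme.{u}
  /-- structure morphism -/
  q : T ⟶ Spec (CommRingCat.of k)
  /-- the module -/
  F : (Pic13.prodK k X q).Modules
  aff : IsAffine T
  lft : LocallyOfFiniteType q
  coh : Coh.IsCoh F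

variable {k X}

/-- The fibre of a piece at a point. -/
def Pc.Mem (Φ : Pc k X) (L : X.Modules) : Prop :=
  ∃ (t : Spec (CommRingCat.of k) ⟶ Φ.T) (ht : t ≫ Φ.q = 𝟙 _), Nonempty (Pic13.fibreMod k X Φ.q t ht Φ.F ≅ L)

theorem Pc.Mem.of_iso {Φ : Pc k X} {L L' : X.Modules} (h : Φ.Mem L) (e : L ≅ L') : Φ.Mem L' := by
  obtain ⟨t, ht, ⟨e₀⟩⟩ := h
  exact ⟨t, ht, ⟨e₀ ≪≫ e⟩⟩

/-- Covered by finitely many affine pieces. -/
def Bd (P : X.Modules → Prop) : Prop :=
  ∃ (m : ℕ) (Φ : Fin m → Pc k X), ∀ L, P L → ∃ j, (Φ j).Mem L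

theorem Bd.of_finite {P : X.Modules → Prop} {ι : Type*} [Finite ι] (Φ : ι → Pc k X)
    (h : ∀ L, P L → ∃ j, (Φ j).Mem L) : Bd (k := k) P := by
  refine ⟨Nat.card ι, fun j => Φ ((Finite.equivFin ι).symm j), fun L hL => ?_⟩
  obtain ⟨j, hj⟩ := h L hL
  refine ⟨Finite.equivFin ι j, ?_⟩
  show (Φ ((Finite.equivFin ι).symm (Finite.equivFin ι j))).Mem L
  rw [Equiv.symm_apply_apply]
  exact hj

theorem Bd.mono {P Q : X.Modules → Prop} (h : Bd (k := k) P) (hPQ : ∀ L, Q L → ∃ L', P L' ∧ Nonempty (L' ≅ L)) :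
    Bd (k := k) Q := by
  obtain ⟨m, Φ, hΦ⟩ := h
  refine ⟨m, Φ, fun L hL => ?_⟩
  obtain ⟨L', hL', ⟨e⟩⟩ := hPQ L hL
  obtain ⟨j, hj⟩ := hΦ L' hL'
  exact ⟨j, hj.of_iso e⟩

theorem Bd.single (Φ : Pc k X) : Bd (k := k) Φ.Mem := ⟨1, fun _ => Φ, fun _ hL => ⟨0, hL⟩⟩

/-- A union of finitely many bounded families is bounded. -/
theorem Bd.iUnion {ι : Type*} [Finite ι] {P : ι → X.Modules → Prop} (h : ∀ i, Bd (k := k) (P i))
    {Q : X.Modules → Prop} (hQ : ∀ L, Q L → ∃ i, P i L) : Bd (k := k) Q := by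
  choose m Φ hΦ using h
  refine Bd.of_finite (ι := Σ i, Fin (m i)) (fun a => Φ a.1 a.2) fun L hL => ?_
  obtain ⟨i, hi⟩ := hQ L hL
  obtain ⟨j, hj⟩ := hΦ i L hi
  exact ⟨⟨i, j⟩, hj⟩

variable {Y : Scheme.{u}} [Y.Over (Spec (CommRingCat.of k))]

/-- Composition of a bounded family with a piecewise bounded relation. -/
theorem Bd.bind {P : X.Modules → Prop} (hP : Bd (k := k) P) (R : X.Modules → Y.Modules → Prop)
    (h : ∀ Φ : Pc k X, Bd (k := k) (fun M : Y.Modules => ∃ L, P L ∧ Φ.Mem L ∧ R L M)) :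
    Bd (k := k) (fun M : Y.Modules => ∃ L, P L ∧ R L M) := by
  obtain ⟨m, Φ, hΦ⟩ := hP
  refine Bd.iUnion (fun j => h (Φ j)) fun M hM => ?_
  obtain ⟨L, hL, hR⟩ := hM
  obtain ⟨j, hj⟩ := hΦ L hL
  exact ⟨j, L, hL, hj, hR⟩

variable [IsProper (X ↘ Spec (CommRingCat.of k))]

theorem isLocallyNoetherian_prod {T : Scheme.{u}} (q : T ⟶ Spec (CommRingCat.of k)) [LocallyOfFiniteType q] :
    IsLocallyNoetherian (Pic13.prodK k X q) :=
  haveI := LocallyOfFiniteType.isLocallyNoetherian q
  LocallyOfFiniteType.isLocallyNoetherian (pullback.snd (X ↘ Spec (CommRingCat.of k)) q)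

variable (k X) in
/-- A piece restricted to an affine scheme over its base. -/
def Pc.res {T : Scheme.{u}} (q : T ⟶ Spec (CommRingCat.of k)) [LocallyOfFiniteType q]
    (F : (Pic13.prodK k X q).Modules) (hF : Coh.IsCoh F) {V : Scheme.{u}} [IsAffine V] (h : V ⟶ T)
    [LocallyOfFiniteType h] : Pc k X where
  T := V
  q := h ≫ q
  F := (Scheme.Modules.pullback (Groth.L11.PicFam.res q h)).obj F
  aff := inferInstance
  lft := inferInstance
  coh := by
    haveI := isLocallyNoetherian_prod (k := k) (X := X) q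
    haveI := isLocallyNoetherian_prod (k := k) (X := X) (h ≫ q)
    exact Groth.L16.AffineBC.isCoh_pullback _ hF

theorem Pc.res_mem {T : Scheme.{u}} (q : T ⟶ Spec (CommRingCat.of k)) [LocallyOfFiniteType q]
    (F : (Pic13.prodK k X q).Modules) (hF : Coh.IsCoh F) {V : Scheme.{u}} [IsAffine V] (h : V ⟶ T)
    [LocallyOfFiniteType h] {t : Spec (CommRingCat.of k) ⟶ T} (ht : t ≫ q = 𝟙 _)
    (t' : Spec (CommRingCat.of k) ⟶ V) (he : t' ≫ h = t) {L : X.Modules} (e : Pic13.fibreMod k X q t ht F ≅ L) :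
    (Pc.res k X q F hF h).Mem L := by
  subst he
  obtain ⟨e'⟩ := fibre_res q h F (t := t') (by rw [← Category.assoc]; exact ht) ht rfl
  exact ⟨t', (Category.assoc _ _ _).symm.trans ht, ⟨e' ≪≫ e⟩⟩

/-- An affine open containing a point of a scheme. -/
theorem exists_lift_affine {T : Scheme.{u}} (t : Spec (CommRingCat.of k) ⟶ T) {U : T.Opens}
    (h : t (IsLocalRing.closedPoint k) ∈ U) : ∃ t' : Spec (CommRingCat.of k) ⟶ U, t' ≫ U.ι = t := by
  refine ⟨IsOpenImmersion.lift U.ι t ?_, IsOpenImmersion.lift_fac _ _ _⟩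
  rintro _ ⟨p, rfl⟩
  rw [Scheme.Opens.range_ι, show p = IsLocalRing.closedPoint k from @Subsingleton.elim (PrimeSpectrum k) _ _ _]
  exact h

/-- Bounded families in the sense of the definition are covered by finitely many affine pieces. -/
theorem Bd.of_isBounded {P : X.Modules → Prop} (h : Pic13.IsBounded k X P) : Bd (k := k) P := by
  obtain ⟨T, q, hft, hqc, F, hF, hmem⟩ := h
  haveI : CompactSpace T := QuasiCompact.compactSpace_of_compactSpace q
  obtain ⟨s, hs, hcov⟩ := (isCompact_iff_finite_and_eq_biUnion_affineOpens (U := (⊤ : T.Opens))).mp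
    CompactSpace.isCompact_univ
  haveI : Finite s := hs.to_subtype
  haveI : ∀ U : s, IsAffine (U.1.1 : Scheme.{u}) := fun U => U.1.2
  refine Bd.of_finite (fun U : s => Pc.res k X q F hF U.1.1.ι) fun L hL => ?_
  obtain ⟨t, ht, ⟨e⟩⟩ := hmem L hL
  have h1 : t (IsLocalRing.closedPoint k) ∈ (⊤ : T.Opens) := trivial
  rw [hcov] at h1
  obtain ⟨U, h2⟩ := Opens.mem_iSup.mp h1
  obtain ⟨hU, hxU⟩ := Opens.mem_iSup.mp h2
  obtain ⟨t', ht'⟩ := exists_lift_affine t hxU
  exact ⟨⟨U, hU⟩, Pc.res_mem q F hF _ ht t' ht' e⟩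

omit [IsProper (X ↘ Spec (CommRingCat.of k))] in
theorem isZero_pullback_pushforward {P Q R : Scheme.{u}} (i : P ⟶ Q) [IsClosedImmersion i] (σ : R ⟶ Q)
    (M : P.Modules) (h : ∀ x, σ x ∉ Set.range i) :
    IsZero ((Scheme.Modules.pullback σ).obj ((Scheme.Modules.pushforward i).obj M)) := by
  refine (Groth.L00.Stk.isZero_iff _).2 fun x => ?_
  refine IsZero.of_iso ((ModuleCat.extendScalars _).map_isZero ?_)
    ((Groth.L00.PullStalk.stalkIso σ x).app _)
  exact @ModuleCat.isZero_of_subsingleton _ _ _ (Groth.L17.ClosedPush.subsingleton_stalk_push i M (h x))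

/-- Extension by zero of a family along an open and closed piece of the base. -/
theorem exists_extend {T V : Scheme.{u}} (q : T ⟶ Spec (CommRingCat.of k)) [LocallyOfFiniteType q] (h : V ⟶ T)
    [IsClosedImmersion h] (q' : V ⟶ Spec (CommRingCat.of k)) (hq : h ≫ q = q')
    (G : (Pic13.prodK k X q').Modules) (hG : Coh.IsCoh G) :
    ∃ G' : (Pic13.prodK k X q).Modules, Coh.IsCoh G' ∧
      (∀ (t : Spec (CommRingCat.of k) ⟶ V) (ht : t ≫ q' = 𝟙 _) (ht' : (t ≫ h) ≫ q = 𝟙 _),
        Nonempty (Pic13.fibreMod k X q (t ≫ h) ht' G' ≅ Pic13.fibreMod k X q' t ht G)) ∧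
      ∀ (t : Spec (CommRingCat.of k) ⟶ T) (ht : t ≫ q = 𝟙 _), (∀ p, t p ∉ Set.range h) →
        IsZero (Pic13.fibreMod k X q t ht G') := by
  subst hq
  haveI := isLocallyNoetherian_prod (k := k) (X := X) q
  let r := res (X := X) q h
  haveI : IsClosedImmersion r := MorphismProperty.of_isPullback (isPullback_res q h).flip inferInstance
  refine ⟨(Scheme.Modules.pushforward r).obj G, Groth.L16.Exist.isCoh_pushforward r hG, fun t ht ht' => ?_,
    fun t ht hr => ?_⟩
  · haveI := Groth.L17.ClosedPush.isIso_counit r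
    obtain ⟨e⟩ := fibre_res (X := X) q h ((Scheme.Modules.pushforward r).obj G) ht ht' rfl
    exact ⟨e.symm ≪≫ (Scheme.Modules.pullback _).mapIso
      ((asIso (Scheme.Modules.pullbackPushforwardAdjunction r).counit).app G)⟩
  · refine isZero_pullback_pushforward r _ G fun x hx => ?_
    obtain ⟨y, hy⟩ := hx
    refine hr ((X ↘ Spec (CommRingCat.of k)) x) ⟨pullback.snd (X ↘ Spec (CommRingCat.of k)) (h ≫ q) y, ?_⟩
    rw [← Scheme.Hom.comp_apply, ← res_snd (X := X) q h, Scheme.Hom.comp_apply]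
    erw [hy]
    rw [← Scheme.Hom.comp_apply, Pic13.sliceAt, pullback.lift_snd, Scheme.Hom.comp_apply]

/-- A finite sum of coherent modules is coherent. -/
theorem isCoh_biproduct {Z : Scheme.{u}} [IsNoetherian Z] :
    ∀ {m : ℕ} (G : Fin m → Z.Modules), (∀ j, Coh.IsCoh (G j)) → Coh.IsCoh (⨁ G)
  | 0, G, _ => by
    exact Groth.L16.Devissage.isCoh_of_isZero ((IsZero.iff_id_eq_zero _).2 (biproduct.hom_ext _ _ fun j => Fin.elim0 j))
  | m + 1, G, h => by
    have ih := isCoh_biproduct (fun j : Fin m => G j.succ) fun j => h j.succ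
    let e : G 0 ⊞ (⨁ fun j : Fin m => G j.succ) ≅ ⨁ G :=
      { hom := biprod.desc (biproduct.ι G 0) (biproduct.desc fun j => biproduct.ι G j.succ)
        inv := biprod.lift (biproduct.π G 0) (biproduct.lift fun j => biproduct.π G j.succ)
        hom_inv_id := by
          refine biprod.hom_ext' _ _ ?_ (biproduct.hom_ext' _ _ fun a => ?_)
          · refine biprod.hom_ext _ _ ?_ (biproduct.hom_ext _ _ fun b => ?_)
            · simp
            · simp [biproduct.ι_π_ne _ (Fin.succ_ne_zero b).symm]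
          · refine biprod.hom_ext _ _ ?_ (biproduct.hom_ext _ _ fun b => ?_)
            · simp [biproduct.ι_π_ne _ (Fin.succ_ne_zero a)]
            · by_cases hab : a = b
              · subst hab; simp
              · simp [biproduct.ι_π_ne _ hab, biproduct.ι_π_ne _ (fun he => hab (Fin.succ_injective _ he))]
        inv_hom_id := by
          refine biproduct.hom_ext' _ _ fun a => ?_
          refine Fin.cases ?_ (fun b => ?_) a
          · have : biproduct.ι G 0 ≫ biproduct.lift (fun j : Fin m => biproduct.π G j.succ) = 0 :=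
              biproduct.hom_ext _ _ fun b => by simp [biproduct.ι_π_ne _ (Fin.succ_ne_zero b).symm]
            simp [biprod.lift_desc, reassoc_of% this]
          · have : biproduct.ι G b.succ ≫ biproduct.lift (fun j : Fin m => biproduct.π G j.succ) =
                biproduct.ι (fun j : Fin m => G j.succ) b := biproduct.hom_ext _ _ fun c => by
              by_cases hbc : b = c
              · subst hbc; simp
              · simp [biproduct.ι_π_ne _ hbc, biproduct.ι_π_ne _ (fun he => hbc (Fin.succ_injective _ he))]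
            simp [biprod.lift_desc, biproduct.ι_π_ne_assoc _ (Fin.succ_ne_zero b), reassoc_of% this] }
    exact Groth.L16.CohSupport.isCoh_of_iso e (Groth.L16.Devissage.isCoh_biprod (h 0) ih)

/-- Finitely many affine pieces make a bounded family. -/
theorem Bd.isBounded {P : X.Modules → Prop} (h : Bd (k := k) P) : Pic13.IsBounded k X P := by
  classical
  obtain ⟨m, Φ, hΦ⟩ := h
  let T : Scheme.{u} := ∐ fun j => (Φ j).T
  let ι : ∀ j, (Φ j).T ⟶ T := Sigma.ι fun j => (Φ j).T
  let q : T ⟶ Spec (CommRingCat.of k) := Sigma.desc fun j => (Φ j).q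
  haveI : ∀ j, IsAffine (Φ j).T := fun j => (Φ j).aff
  haveI : ∀ j, LocallyOfFiniteType (Φ j).q := fun j => (Φ j).lft
  haveI : LocallyOfFiniteType q :=
    (IsZariskiLocalAtSource.iff_of_openCover (P := @LocallyOfFiniteType) (sigmaOpenCover fun j => (Φ j).T)).2
      fun j => by
        show LocallyOfFiniteType (Sigma.ι (fun j => (Φ j).T) j ≫ q)
        rw [Sigma.ι_desc]; infer_instance
  haveI : QuasiCompact q := by
    haveI : IsAffine T := inferInstance
    exact inferInstance
  have hne : ∀ (a b : Fin m), a ≠ b → ∀ x y, ι a x ≠ ι b y := fun a b hab x y hxy =>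
    Set.disjoint_left.mp (TopologicalSpace.Opens.coe_disjoint.mpr
      (disjoint_opensRange_sigmaι (fun j => (Φ j).T) a b hab)) ⟨x, rfl⟩ ⟨y, hxy.symm⟩
  haveI : ∀ j, IsClosedImmersion (ι j) := fun j => by
    haveI : IsOpenImmersion (ι j) := inferInstanceAs (IsOpenImmersion (Sigma.ι (fun j => (Φ j).T) j))
    refine IsClosedImmersion.of_isPreimmersion (ι j) ?_
    have : (Set.range (ι j))ᶜ = ⋃ a ∈ {a | a ≠ j}, Set.range (ι a) := by
      ext z
      simp only [Set.mem_compl_iff, Set.mem_iUnion, Set.mem_ofPred_eq, exists_prop]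
      constructor
      · intro hz
        obtain ⟨a, x, hx⟩ := (sigmaOpenCover fun j => (Φ j).T).exists_eq z
        exact ⟨a, fun he => hz (by subst he; exact ⟨x, hx⟩), x, hx⟩
      · rintro ⟨a, ha, x, rfl⟩ ⟨y, hy⟩
        exact hne a j ha x y hy.symm
    rw [← isOpen_compl_iff, this]
    exact isOpen_biUnion fun a _ => (show IsOpen (Set.range (ι a)) from (Sigma.ι (fun j => (Φ j).T) a).isOpenEmbedding.isOpen_range)
  choose G' hG' hfib hzero using fun j =>
    exists_extend (X := X) q (ι j) (Φ j).q (Sigma.ι_desc _ j) (Φ j).F (Φ j).coh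
  haveI := isLocallyNoetherian_prod (k := k) (X := X) q
  haveI : CompactSpace T := QuasiCompact.compactSpace_of_compactSpace q
  haveI : CompactSpace (Pic13.prodK k X q) :=
    QuasiCompact.compactSpace_of_compactSpace (pullback.snd (X ↘ Spec (CommRingCat.of k)) q)
  haveI : IsNoetherian (Pic13.prodK k X q) := {}
  let F : (Pic13.prodK k X q).Modules := ⨁ G'
  refine ⟨T, q, inferInstance, inferInstance, F, ?_, fun L hL => ?_⟩
  · exact isCoh_biproduct G' hG'
  obtain ⟨j, t, ht, ⟨e⟩⟩ := hΦ L hL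
  have ht' : (t ≫ ι j) ≫ q = 𝟙 _ := by rw [Category.assoc, Sigma.ι_desc, ht]
  refine ⟨t ≫ ι j, ht', ⟨?_⟩⟩
  let σ := Scheme.Modules.pullback (Pic13.sliceAt k X q (t ≫ ι j) ht')
  haveI : σ.Additive := (Scheme.Modules.pullbackPushforwardAdjunction _).left_adjoint_additive
  let e₁ : σ.obj F ≅ ⨁ fun a => σ.obj (G' a) := σ.mapBiproduct G'
  have hz : ∀ a, a ≠ j → IsZero (σ.obj (G' a)) := fun a ha => hzero a _ ht' fun p ⟨x, hx⟩ =>
    hne a j ha x (t p) hx
  have hid : biproduct.π (fun a => σ.obj (G' a)) j ≫ biproduct.ι (fun a => σ.obj (G' a)) j = 𝟙 _ := by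
    refine biproduct.hom_ext _ _ fun a => ?_
    by_cases ha : a = j
    · subst ha; rw [Category.id_comp, Category.assoc, biproduct.ι_π_self, Category.comp_id]
    · exact (hz a ha).eq_of_tgt _ _
  let e₂ : (⨁ fun a => σ.obj (G' a)) ≅ σ.obj (G' j) :=
    { hom := biproduct.π (fun a => σ.obj (G' a)) j, inv := biproduct.ι (fun a => σ.obj (G' a)) j, hom_inv_id := hid, inv_hom_id := biproduct.ι_π_self _ j }
  exact e₁ ≪≫ e₂ ≪≫ (hfib j t ht ht').some ≪≫ e

end Groth.L11.Bdd
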