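import Groth.Agent.L11.Bdd.TopThree

/-!
# Hilbert coefficients and boundedness
-/

set_option autoImplicit false
set_option backward.isDefEq.respectTransparency false
set_option linter.style.haveILetI false
set_option linter.unusedSectionVars false

universe u

open CategoryTheory CategoryTheory.Limits AlgebraicGeometry TopologicalSpace

noncomputable section

namespace Groth.L11.Bdd.Gen

open Groth.L22.Inter Groth.L22.Nef Groth.L22.Big Groth.L03.Euler Groth.L16 Groth.L11.NumOrth
open Groth.L00.Tensor (tensorIso tensorAssoc tensorComm tensorUnitRight tensorUnitLeft)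
open Groth.L18.Ample (isInvertible_pullback isInvertible_tensorPow)
open Groth.L18.GenLoc (isInvertible_tensor)

attribute [local irreducible] Curv2.euler

/-- The differences of a binomial expansion. -/
theorem iterate_D1 {N : ℕ} (a : Fin N → ℤ) (f : ℤ → ℤ)
    (hf : ∀ m : ℕ, f m = ∑ j : Fin N, a j * ((m + j).choose j : ℤ)) : ∀ t m : ℕ, t ≤ m →
    (D1^[t] f) m = ∑ j : Fin N, if t ≤ (j : ℕ) then a j * ((m + j - t).choose ((j : ℕ) - t) : ℤ) else 0 := by
  intro t
  induction t with
  | zero => intro m _; simpa using hf m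
  | succ t ih =>
    intro m hm
    obtain ⟨m, rfl⟩ : ∃ m', m = m' + 1 := ⟨m - 1, by omega⟩
    rw [Function.iterate_succ_apply']
    show (D1^[t] f) ((m + 1 : ℕ) : ℤ) - (D1^[t] f) (((m + 1 : ℕ) : ℤ) - 1) = _
    rw [show ((m + 1 : ℕ) : ℤ) - 1 = (m : ℤ) by push_cast; ring, ih (m + 1) (by omega), ih m (by omega),
      ← Finset.sum_sub_distrib]
    refine Finset.sum_congr rfl fun j _ => ?_
    by_cases h : t + 1 ≤ (j : ℕ)
    · rw [if_pos (by omega), if_pos (by omega), if_pos h]
      obtain ⟨q, hq⟩ : ∃ q, (j : ℕ) = t + 1 + q := ⟨(j : ℕ) - (t + 1), by omega⟩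
      rw [hq, show m + 1 + (t + 1 + q) - t = (m + q + 1) + 1 by omega, show m + (t + 1 + q) - t = m + q + 1 by omega,
        show m + 1 + (t + 1 + q) - (t + 1) = m + q + 1 by omega, show t + 1 + q - t = q + 1 by omega,
        show t + 1 + q - (t + 1) = q by omega, Nat.choose_succ_succ (m + q + 1) q]
      push_cast
      ring
    · rw [if_neg h]
      by_cases h' : t ≤ (j : ℕ)
      · rw [if_pos h', if_pos h', show (j : ℕ) - t = 0 by omega, Nat.choose_zero_right, Nat.choose_zero_right,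
          sub_self]
      · rw [if_neg h', if_neg h', sub_self]

/-- An integer valued polynomial is a binomial expansion. -/
theorem exists_coeff : ∀ (r : ℕ) (φ : Polynomial ℚ), φ.natDegree ≤ r → ∀ f : ℤ → ℤ,
    (∀ d : ℤ, (f d : ℚ) = φ.eval (d : ℚ)) → ∃ a : Fin (r + 1) → ℤ, ∀ m : ℕ, f m = ∑ j, a j * ((m + j).choose j : ℤ) := by
  intro r
  induction r with
  | zero =>
    intro φ hφ f hf
    refine ⟨fun _ => f 0, fun m => ?_⟩
    rw [Polynomial.eq_C_of_natDegree_le_zero hφ] at hf
    have h : f m = f 0 := Int.cast_inj (α := ℚ) |>.1 (by rw [hf, hf, Polynomial.eval_C, Polynomial.eval_C])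
    simp [h]
  | succ r ih =>
    intro φ hφ f hf
    let σ := φ.comp (Polynomial.X - Polynomial.C 1)
    have hσd : (φ - σ).natDegree ≤ r := by
      have hd : σ.natDegree = φ.natDegree := by
        rw [Polynomial.natDegree_comp, Polynomial.natDegree_X_sub_C, mul_one]
      by_cases h : φ.natDegree ≤ r
      · exact (Polynomial.natDegree_sub_le _ _).trans (by omega)
      have h0 : φ ≠ 0 := fun e => by rw [e, Polynomial.natDegree_zero] at h; omega
      have hlc : σ.leadingCoeff = φ.leadingCoeff := by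
        rw [Polynomial.leadingCoeff_comp (by rw [Polynomial.natDegree_X_sub_C]; exact one_ne_zero),
          Polynomial.leadingCoeff_X_sub_C, one_pow, mul_one]
      have hσ0 : σ ≠ 0 := fun e => by
        rw [e, Polynomial.leadingCoeff_zero, eq_comm, Polynomial.leadingCoeff_eq_zero] at hlc
        exact h0 hlc
      rcases eq_or_ne (φ - σ) 0 with e | e
      · rw [e, Polynomial.natDegree_zero]; omega
      have h1 := Polynomial.degree_sub_lt (by rw [Polynomial.degree_eq_natDegree h0,
        Polynomial.degree_eq_natDegree hσ0, hd]) h0 hlc.symm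
      have := Polynomial.natDegree_lt_natDegree e h1
      omega
    obtain ⟨b, hb⟩ := ih (φ - σ) hσd (D1 f) fun d => by
      show ((f d - f (d - 1) : ℤ) : ℚ) = _
      rw [Int.cast_sub, hf, hf, Polynomial.eval_sub, Polynomial.eval_comp]
      simp
    refine ⟨Fin.cons (f (-1)) b, fun m => ?_⟩
    rw [Fin.sum_univ_succ]
    simp only [Fin.cons_zero, Fin.cons_succ, Fin.val_zero, Fin.val_succ, Nat.choose_zero_right, Nat.cast_one, mul_one]
    induction m with
    | zero =>
      have h := hb 0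
      simp only [D1, Nat.cast_zero, zero_sub, zero_add, Nat.choose_self, Nat.cast_one, mul_one] at h
      simp only [Nat.cast_zero, zero_add, Nat.choose_self, Nat.cast_one, mul_one]
      linarith
    | succ m ihm =>
      have h := hb (m + 1)
      simp only [D1, show ((m + 1 : ℕ) : ℤ) - 1 = (m : ℤ) by push_cast; ring] at h
      have : f ((m + 1 : ℕ) : ℤ) = f m + ∑ j : Fin (r + 1), b j * ((m + 1 + j).choose j : ℤ) := by linarith
      rw [this, ihm, add_assoc, ← Finset.sum_add_distrib]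
      refine congrArg₂ (· + ·) rfl (Finset.sum_congr rfl fun j _ => ?_)
      rw [show m + 1 + ((j : ℕ) + 1) = (m + 1 + (j : ℕ)) + 1 by omega, Nat.choose_succ_succ,
        show m + ((j : ℕ) + 1) = m + 1 + (j : ℕ) by omega]
      push_cast
      ring

variable (k : Type u) [Field k] [IsAlgClosed k] {n : ℕ} {X : Scheme.{u}} [X.Over (Spec (CommRingCat.of k))]
  [IsProper (X ↘ Spec (CommRingCat.of k))] (i : X ⟶ CohB1.ProjSpace n k) [IsClosedImmersion i]
  (hi : i ≫ CohB1.ProjSpace.toSpec n k = X ↘ Spec (CommRingCat.of k)) [IsIntegral X]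

include hi

/-- Bounded top three coefficients give a bounded family. -/
theorem isBounded_topThree (s : ℕ) (hd : topologicalKrullDim X = ((s + 2 : ℕ) : WithBot ℕ∞)) (Q : X.Modules → Prop)
    (hQ : ∀ L, Q L → PicF.IsInvertible L)
    (hB : ∃ B : ℕ, ∀ L, Q L → ∃ a : Fin (s + 3) → ℤ,
      (∀ m : ℕ, chi i L m = ∑ j : Fin (s + 3), a j * ((m + j).choose j : ℤ)) ∧
      ∀ j : Fin (s + 3), s ≤ (j : ℕ) → |a j| ≤ B) :
    Pic13.IsBounded k X Q := by
  obtain ⟨B, hB⟩ := hB
  let C : ℕ := (s + 3).choose 2 + (s + 3) + 1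
  obtain ⟨B', hB'⟩ := topThree s k X i hi hd s ((s + 3 : ℕ) * B * C)
  obtain ⟨T, q, h1, h2, G, hG, hmem⟩ := isBounded_DQ k s X i hi hd B'
  refine ⟨T, q, h1, h2, G, hG, fun L hL => hmem L ⟨hQ L hL, ?_⟩⟩
  obtain ⟨a, ha, hab⟩ := hB L hL
  have hval : ∀ e : ℕ, e ≤ 1 → |((D1^[s] (chi i L)) (((s + e : ℕ)) : ℤ) : ℚ)| ≤ ((s + 3 : ℕ) * B * C : ℚ) := by
    intro e he
    rw [iterate_D1 a _ ha s (s + e) (by omega)]
    refine le_trans ?_ (le_of_eq (Int.cast_natCast ((s + 3) * B * C) |>.trans (by push_cast; rfl)))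
    rw [← Int.cast_abs]
    refine Int.cast_le.2 ((Finset.abs_sum_le_sum_abs _ _).trans ((Finset.sum_le_card_nsmul _ _ ((B : ℤ) * C) ?_).trans
      (le_of_eq (by rw [Finset.card_univ, Fintype.card_fin, nsmul_eq_mul]; push_cast; ring))))
    intro j _
    by_cases h : s ≤ (j : ℕ)
    · rw [if_pos h, abs_mul, Nat.abs_cast]
      refine mul_le_mul (hab j h) ?_ (Nat.cast_nonneg _) (Nat.cast_nonneg _)
      have hj := j.2
      have : (s + e + (j : ℕ) - s).choose ((j : ℕ) - s) ≤ C := by
        rcases (show (j : ℕ) - s = 0 ∨ (j : ℕ) - s = 1 ∨ (j : ℕ) - s = 2 by omega) with h' | h' | h' <;> rw [h']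
        · simp [C]
        · rw [Nat.choose_one_right]; simp only [C]; omega
        · exact (Nat.choose_le_choose 2 (show s + e + (j : ℕ) - s ≤ s + 3 by omega)).trans (by simp only [C]; omega)
      exact_mod_cast this
    · rw [if_neg h, abs_zero]; positivity
  refine hB' L (hQ L hL) ?_ ?_
  · simpa using hval 0 (by omega)
  · simpa using hval 1 le_rfl

/-- Bounded degree on an integral scheme of dimension at most one. -/
theorem isBounded_deg {r : ℕ} (hr : r ≤ 1) (hd : topologicalKrullDim X = ((r : ℕ) : WithBot ℕ∞)) (Q : X.Modules → Prop)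
    (hQ : ∀ L, Q L → PicF.IsInvertible L) (D : ℚ)
    (hD : ∀ L, Q L → |altT k (Fin.cons L fun l : Fin 0 => l.elim0) (Coh.structureModule X)| ≤ D) :
    Pic13.IsBounded k X Q := by
  haveI := Groth.L21.RR.isNoetherian_of_proper (X := X) k
  have hd1 : topologicalKrullDim X ≤ ((1 : ℕ) : WithBot ℕ∞) := hd.le.trans (by exact_mod_cast hr)
  let O := Coh.structureModule X
  let dd : X.Modules → ℚ := fun A => altT k (Fin.cons A fun l : Fin 0 => l.elim0) O
  have hsd : topologicalKrullDim (CohB1.support O) ≤ ((0 + 1 : ℕ) : WithBot ℕ∞) :=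
    (topologicalKrullDim_subspace_le X _).trans hd1
  have hadd : ∀ {A B : X.Modules}, PicF.IsInvertible A → PicF.IsInvertible B →
      dd (CohB1.tensorMod A B) = dd A + dd B := fun {A B} hA hB =>
    altT_add k (fun l : Fin 0 => l.elim0) hA hB CohClosedPush.isCoh_structure hsd
  let P : X.Modules → Prop := fun L => PicF.IsInvertible L ∧ |dd L| ≤ D
  have hsec : SecLE k i P := by
    obtain ⟨J, hJ⟩ : ∃ J : ℕ, r = 1 → ∀ L, P L → dd (CohB1.tensorMod L (OX i (-(J : ℤ)))) ≤ 0 := by
      by_cases h1 : r = 1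
      · subst h1
        have hpos : 0 < dd (OX i 1) := by
          show 0 < altT k (Fin.cons (OX i 1) _) O
          rw [show (Fin.cons (OX i 1) (fun l : Fin 0 => l.elim0) : Fin 1 → X.Modules) = fun _ => OX i 1 from
            funext fun l => Fin.cases rfl (fun j => j.elim0) l]
          exact altT_ample_pos k (isAmple_OX_one i) hd
        obtain ⟨J, hJ⟩ := exists_nat_gt (D / dd (OX i 1))
        rw [div_lt_iff₀ hpos] at hJ
        refine ⟨J, fun _ L hL => ?_⟩
        obtain ⟨ea⟩ := nonempty_OX_add i (show -(J : ℤ) + J = 0 by omega)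
        obtain ⟨e0⟩ := nonempty_OX_zero i
        obtain ⟨eJ⟩ := nonempty_pow_OX i J
        have h := hadd (isInvertible_OX i (-(J : ℤ))) (isInvertible_tensorPow (isInvertible_OX i 1) J)
        rw [show dd (CohB1.tensorMod (OX i (-(J : ℤ))) (CohB1.tensorPow (OX i 1) J)) = 0 from
          (altT_slot_congr k (tensorIso (Iso.refl _) eJ ≪≫ ea ≪≫ e0) _ _).trans (altT_unit k _)] at h
        have h2 : dd (CohB1.tensorPow (OX i 1) J) = (J : ℚ) * dd (OX i 1) :=
          altT_pow k (fun l : Fin 0 => l.elim0) (isInvertible_OX i 1) CohClosedPush.isCoh_structure hsd J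
        rw [hadd hL.1 (isInvertible_OX i _)]
        linarith [(abs_le.1 hL.2).2]
      · exact ⟨0, fun h => absurd h h1⟩
    refine secLE_of_degLE k i P (j₀ := -(J : ℤ)) (fun L hL y hy => ?_) fun L hL => hL.1
    have h1 : r = 1 := by
      refine le_antisymm hr ?_
      have := hy.ge.trans ((topologicalKrullDim_subspace_le X _).trans hd.le)
      exact_mod_cast this
    subst h1
    rw [Groth.L07.EquidimQF.eq_genericPoint_of_dim_le hd.le hy.ge,
      altT_integral k hd (fun _ => isInvertible_tensor hL.1 (isInvertible_OX i _))]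
    refine le_of_eq_of_le ?_ (hJ rfl L hL)
    exact congrArg (fun R : Fin 1 → X.Modules => altT k R O) (funext fun l => Fin.cases rfl (fun j => j.elim0) l)
  have hsym : ∀ L, P L → ∃ L', P L' ∧ Nonempty (CohB1.tensorMod L L' ≅ O) := fun L hL => by
    obtain ⟨L', hL', ⟨e⟩⟩ := Groth.L08.Cube.exists_inverse hL.1
    have h := hadd hL.1 hL'
    rw [show dd (CohB1.tensorMod L L') = 0 from (altT_slot_congr k e _ _).trans (altT_unit k _)] at h
    refine ⟨L', ⟨hL', ?_⟩, ⟨e⟩⟩
    rw [show dd L' = - dd L by linarith, abs_neg]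
    exact hL.2
  have hd2 : topologicalKrullDim X ≤ ((2 : ℕ) : WithBot ℕ∞) := hd1.trans (by norm_cast)
  obtain ⟨T, q, h1, h2, G, hG, hmem⟩ := isBounded_of_small k i hi hd2 P (fun L hL => hL.1) hsec hsym
    fun F hF _ => ⟨0, fun L L' hL hL' _ => le_of_eq (by
      rw [q2, altT_eq_zero k (Fin.cases hL.1 (Fin.cases hL'.1 fun e => e.elim0)) hF
        ((add_le_add_left ((topologicalKrullDim_subspace_le X _).trans hd1) 1).trans (by norm_cast)), abs_zero])⟩
  exact ⟨T, q, h1, h2, G, hG, fun L hL => hmem L ⟨hQ L hL, hD L hL⟩⟩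

/-- Bounded families are those with bounded Hilbert coefficients. -/
theorem isBounded_iff_coeff (r : ℕ) (hd : topologicalKrullDim X = ((r : ℕ) : WithBot ℕ∞)) (Q : X.Modules → Prop)
    (hQ : ∀ L, Q L → PicF.IsInvertible L) :
    Pic13.IsBounded k X Q ↔ ∃ B : ℕ, ∀ L, Q L → ∃ a : Fin (r + 1) → ℤ,
      (∀ m : ℕ, chi i L m = ∑ j : Fin (r + 1), a j * ((m + j).choose j : ℤ)) ∧ ∀ j, |a j| ≤ B := by
  classical
  haveI := Groth.L21.RR.isNoetherian_of_proper (X := X) k
  constructor
  · intro hb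
    obtain ⟨_, S, hS⟩ := regular_polys_of_bounded (k := k) (ι := i) hi hb
    let Cf : Polynomial ℚ → Fin (r + 1) → ℤ := fun φ =>
      if h : ∃ a : Fin (r + 1) → ℤ, ∀ m : ℕ, φ.eval (m : ℚ) = ((∑ j, a j * ((m + j).choose j : ℤ) : ℤ) : ℚ) then
        h.choose else 0
    refine ⟨S.sup fun φ => Finset.univ.sup fun j => (Cf φ j).natAbs, fun L hL => ?_⟩
    obtain ⟨-, φ, hφ, hev⟩ := hS L hL
    have hLc : Coh.IsCoh L := Groth.L16.ProperFinite.isCoh_of_isInvertible (hQ L hL)
    have hφd : φ.natDegree ≤ r := by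
      obtain ⟨P, hPd, hP⟩ := exists_isHilbPoly (k := k) (isInvertible_OX i 1) hLc
        ((topologicalKrullDim_subspace_le X (CohB1.support L)).trans hd.le)
      rw [show φ = P from Groth.L03.Euler.eq_of_eventually_eval_eq 0 fun j _ => ?_]
      · exact hPd
      obtain ⟨e⟩ := nonempty_pow_OX i j
      have h1 := hev j
      rw [← euler_iso (k := k) (show CohB1.tensorMod L (CohB1.tensorPow (OX i 1) j) ≅ Pic13.twistOn k i L (j : ℤ) from
        tensorIso (Iso.refl L) e), Int.cast_natCast] at h1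
      rw [← h1]
      exact hP j
    obtain ⟨a, ha⟩ := exists_coeff r φ hφd (chi i L) hev
    have hex : ∃ a : Fin (r + 1) → ℤ, ∀ m : ℕ, φ.eval (m : ℚ) = ((∑ j, a j * ((m + j).choose j : ℤ) : ℤ) : ℚ) :=
      ⟨a, fun m => by rw [← ha m]; exact (by simpa [chi] using (hev m).symm)⟩
    refine ⟨Cf φ, fun m => ?_, fun j => ?_⟩
    · refine Int.cast_inj (α := ℚ) |>.1 ?_
      simp only [Cf, dif_pos hex]
      rw [← hex.choose_spec m]
      exact (hev m).trans (by rw [Int.cast_natCast])
    · rw [Int.abs_eq_natAbs]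
      exact_mod_cast (Finset.le_sup (f := fun j => (Cf φ j).natAbs) (Finset.mem_univ j)).trans
        (Finset.le_sup (f := fun φ => Finset.univ.sup fun j => (Cf φ j).natAbs) hφ)
  · rintro ⟨B, hB⟩
    rcases (show r ≤ 1 ∨ 2 ≤ r by omega) with hr | hr
    · refine isBounded_deg k i hi hr hd Q hQ (((r + 1 : ℕ) * B : ℚ) + |(Curv2.euler k X (Coh.structureModule X) : ℚ)|)
        fun L hL => ?_
      obtain ⟨a, ha, hab⟩ := hB L hL
      have h0 := ha 0
      simp only [Nat.cast_zero, zero_add, Nat.choose_self, Nat.cast_one, mul_one] at h0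
      obtain ⟨e⟩ := nonempty_twist_zero i L
      rw [altT_cons, altT_zero_eq, altT_zero_eq, euler_iso (tensorUnitLeft L), ← euler_iso e]
      refine (abs_sub _ _).trans (add_le_add ?_ le_rfl)
      show |(chi i L 0 : ℚ)| ≤ _
      rw [h0, ← Int.cast_abs, show ((r + 1 : ℕ) : ℚ) * B = ((((r + 1) * B : ℕ) : ℤ) : ℚ) by push_cast; ring]
      refine Int.cast_le.2 ((Finset.abs_sum_le_sum_abs _ _).trans ((Finset.sum_le_card_nsmul _ _ _ fun j _ => hab j).trans
        (le_of_eq (by rw [Finset.card_univ, Fintype.card_fin, nsmul_eq_mul]; push_cast; ring))))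
    · obtain ⟨s, rfl⟩ : ∃ s, r = s + 2 := ⟨r - 2, by omega⟩
      refine isBounded_topThree k i hi s hd Q hQ ⟨B, fun L hL => ?_⟩
      obtain ⟨a, ha, hab⟩ := hB L hL
      exact ⟨a, ha, fun j _ => hab j⟩

end Groth.L11.Bdd.Gen
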