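import Groth.Agent.L11.NumOrth.Main
import Groth.Agent.L02.Num.Hodge
import Groth.Agent.L11.NumOrth.NefBC

/-!
# Degree and self-intersection bound the degree on every curve
-/

set_option autoImplicit false
set_option backward.isDefEq.respectTransparency false
set_option linter.style.haveILetI false
set_option linter.unusedSectionVars false

universe u

open CategoryTheory CategoryTheory.Limits AlgebraicGeometry TopologicalSpace

noncomputable section

namespace Groth.L11.Bdd

open Groth.L22.Inter Groth.L22.Nef Groth.L22.Big Groth.L03.Euler Groth.L16 Groth.L11.NumOrth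
open Groth.L18.Ample (isInvertible_pullback isInvertible_tensorPow)
open Groth.L18.GenLoc (isInvertible_tensor)

section Surface

variable (k : Type u) [Field k] {X : Scheme.{u}} [X.Over (Spec (CommRingCat.of k))]
  [IsProper (X ↘ Spec (CommRingCat.of k))]

/-- The index inequality on an integral proper surface. -/
theorem ii_index [IsIntegral X] (hd : topologicalKrullDim X = (2 : ℕ)) {H M : X.Modules}
    (hH : PicF.IsInvertible H) (hM : PicF.IsInvertible M) (hHH : 0 < ii k H H) :
    ii k M M * ii k H H ≤ ii k M H ^ 2 := by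
  obtain ⟨V, hVi, oV, hVp, π, A, hπ, hπk, hπη, hVd, hdeg, hA⟩ := exists_projective_modification k hd
  haveI := hVi; haveI := hπ; haveI := hVp
  let p := Scheme.Modules.pullback π
  have hH' := isInvertible_pullback π hH
  have hM' := isInvertible_pullback π hM
  have e : ∀ P Q : X.Modules, PicF.IsInvertible P → PicF.IsInvertible Q → ii k (p.obj P) (p.obj Q) = ii k P Q :=
    fun P Q hP hQ => Groth.L02.Num.Hodge.ii_pullback k π hπk hπη hVd hdeg hP hQ
  have hdim := hVd.le
  haveI := Groth.L21.RR.isNoetherian_of_proper (X := V) k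
  have hint : ∀ A B : V.Modules, ∃ z : ℤ, ii k A B = (z : ℚ) :=
    fun A B => ⟨_, (intNum_eq_ii k hdim A B).symm⟩
  obtain ⟨l, hl⟩ := hint (p.obj M) (p.obj H)
  obtain ⟨h, hh⟩ := hint (p.obj H) (p.obj H)
  have hpos : (0 : ℚ) < h := by rw [← hh, e H H hH hH]; exact hHH
  obtain ⟨n, hn⟩ : ∃ n : ℕ, (n : ℤ) = h := ⟨h.toNat, Int.toNat_of_nonneg (by exact_mod_cast hpos.le)⟩
  obtain ⟨Q, hQ, ⟨eQ⟩⟩ := Groth.L08.Cube.exists_inverse hH'
  -- a multiple of `H` or its inverse
  obtain ⟨Z, hZ, hZi⟩ : ∃ Z : V.Modules, PicF.IsInvertible Z ∧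
      ∀ C : V.Modules, PicF.IsInvertible C → ii k Z C = -(l : ℚ) * ii k (p.obj H) C := by
    rcases l.eq_nat_or_neg with ⟨j, rfl | rfl⟩
    · refine ⟨_, isInvertible_tensorPow hQ j, fun C hC => ?_⟩
      have h0 : ii k (CohB1.tensorMod (p.obj H) Q) C = 0 := (ii_congr k eQ C).trans (altT_unit k _)
      rw [ii_tensor k hdim hH' hQ hC] at h0
      rw [ii_pow k hdim hQ hC, show ii k Q C = - ii k (p.obj H) C by linarith]
      push_cast; ring
    · exact ⟨_, isInvertible_tensorPow hH' j, fun C hC => by rw [ii_pow k hdim hH' hC]; push_cast; ring⟩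
  let N := CohB1.tensorMod (CohB1.tensorPow (p.obj M) n) Z
  have hN : PicF.IsInvertible N := isInvertible_tensor (isInvertible_tensorPow hM' n) hZ
  have hNC : ∀ C, PicF.IsInvertible C →
      ii k N C = (h : ℚ) * ii k (p.obj M) C - l * ii k (p.obj H) C := fun C hC => by
    rw [ii_tensor k hdim (isInvertible_tensorPow hM' n) hZ hC, ii_pow k hdim hM' hC, hZi C hC, ← hn]
    push_cast; ring
  have horth : ii k (p.obj H) N = 0 := by
    rw [ii_comm, hNC _ hH', hl, hh]; ring
  have h2 := (orth_sq_le k hdim hH' hN hA (ii_ample_pos k hdim hVd hA)).2 (by rwa [e H H hH hH]) horth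
  rw [hNC _ hN, horth, mul_zero, sub_zero, ii_comm k (p.obj M) N, hNC _ hM', ii_comm k (p.obj H) (p.obj M), hl] at h2
  have h3 : (h : ℚ) * ii k (p.obj M) (p.obj M) - l * l ≤ 0 := by
    by_contra hne
    rw [not_le] at hne
    nlinarith [mul_pos hpos hne]
  rw [← e M M hM hM, ← e M H hM hH, ← e H H hH hH, hh, hl]
  linarith

/-- Degree and self-intersection bound the pairing with a fixed module. -/
theorem exists_bound [IsIntegral X] (hd : topologicalKrullDim X = (2 : ℕ)) {H : X.Modules}
    (hH : PicF.IsInvertible H) (hHH : 0 < ii k H H) {N : X.Modules} (hN : PicF.IsInvertible N) (B : ℚ) :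
    ∃ B' : ℚ, ∀ L, PicF.IsInvertible L → |ii k L H| ≤ B → -B ≤ ii k L L → |ii k L N| ≤ B' := by
  have hdim := hd.le
  haveI := Groth.L21.RR.isNoetherian_of_proper (X := X) k
  refine ⟨((|B| + |ii k N H|) ^ 2 / ii k H H + |B| + |ii k N N|) / 2, fun L hL hl hq => ?_⟩
  obtain ⟨Q, hQ, ⟨eQ⟩⟩ := Groth.L08.Cube.exists_inverse hN
  have h0 : ∀ C, PicF.IsInvertible C → ii k Q C = - ii k N C := fun C hC => by
    have h0 : ii k (CohB1.tensorMod N Q) C = 0 := (ii_congr k eQ C).trans (altT_unit k _)
    rw [ii_tensor k hdim hN hQ hC] at h0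
    linarith
  have exp : ∀ P, PicF.IsInvertible P → (ii k L L + 2 * ii k L P + ii k P P) * ii k H H ≤
      (ii k L H + ii k P H) ^ 2 := fun P hP => by
    have h := ii_index k hd hH (isInvertible_tensor hL hP) hHH
    rw [ii_tensor k hdim hL hP (isInvertible_tensor hL hP), ii_tensor_right k hdim hL hL hP,
      ii_tensor_right k hdim hP hL hP, ii_tensor k hdim hL hP hH, ii_comm k P L] at h
    linarith
  have p1 := exp N hN
  have p2 := exp Q hQ
  rw [ii_comm k L Q, h0 L hL, ii_comm k N L, h0 H hH, h0 Q hQ, ii_comm k N Q, h0 N hN] at p2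
  have hb : |ii k L H + ii k N H| ≤ |B| + |ii k N H| :=
    (abs_add_le _ _).trans (add_le_add_left (hl.trans (le_abs_self B)) _)
  have hb' : |ii k L H + -ii k N H| ≤ |B| + |ii k N H| := by
    refine (abs_add_le _ _).trans ?_
    rw [abs_neg]
    exact add_le_add_left (hl.trans (le_abs_self B)) _
  have q1 := (le_div_iff₀ hHH).2 (p1.trans (sq_le_sq' (abs_le.1 hb).1 (abs_le.1 hb).2))
  have q2 := (le_div_iff₀ hHH).2 (p2.trans (sq_le_sq' (abs_le.1 hb').1 (abs_le.1 hb').2))
  rw [abs_le]
  have := le_abs_self B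
  have := neg_abs_le (ii k N N)
  constructor <;> linarith

/-- On an integral surface, degree and self-intersection bound the degree on each curve. -/
theorem deg_bound_surface [IsIntegral X] (hd : topologicalKrullDim X = (2 : ℕ))
    {H : X.Modules} (hH : PicF.IsInvertible H) (hHH : 0 < ii k H H)
    (y : X) (hy : topologicalKrullDim (closure ({y} : Set X)) = (1 : ℕ)) (B : ℚ) :
    ∃ B' : ℚ, ∀ L, PicF.IsInvertible L → |ii k L H| ≤ B → -B ≤ ii k L L →
      |altT k (fun _ : Fin 1 => L) (ClSub.quotMod (pt y))| ≤ B' := by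
  haveI := Groth.L21.RR.isNoetherian_of_proper (X := X) k
  have hdX : topologicalKrullDim (closure ({genericPoint X} : Set X)) = (2 : ℕ) := by
    rw [(genericPoint_spec X).def, ← hd]
    exact IsHomeomorph.topologicalKrullDim_eq _ (Homeomorph.Set.univ X).isHomeomorph
  have hηy : genericPoint X ∉ closure ({y} : Set X) := fun h => by
    have h1 := topologicalKrullDim_set_mono (closure_minimal (Set.singleton_subset_iff.2 h) isClosed_closure)
    rw [hdX, hy] at h1
    have : (2 : ℕ) ≤ 1 := by exact_mod_cast h1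
    omega
  let I := pt y
  have hIsupp : (I.support : Set X) = closure {y} := by
    rw [← Scheme.IdealSheafData.range_subschemeι]; exact range_pt y
  have hI : I ≠ ⊥ := fun h => hηy (by rw [← hIsupp, h, Scheme.IdealSheafData.support_bot]; trivial)
  obtain ⟨W, b, hb⟩ := Groth.L13.BU.exists_isBlowUp I
  haveI : IsProper b := Groth.L13.BU.isProper_blowUp hb fun U => by
    haveI := IsLocallyNoetherian.component_noetherian U
    exact IsNoetherian.noetherian _
  obtain ⟨hWi, hbη, hst⟩ := Groth.L16.Blow.isIntegral_and_birational hb hI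
  haveI := hWi
  letI : W.Over (Spec (CommRingCat.of k)) := ⟨b ≫ (X ↘ Spec (CommRingCat.of k))⟩
  haveI : IsProper (W ↘ Spec (CommRingCat.of k)) :=
    inferInstanceAs (IsProper (b ≫ (X ↘ Spec (CommRingCat.of k))))
  haveI := Groth.L21.RR.isNoetherian_of_proper (X := W) k
  have hbk : b ≫ (X ↘ Spec (CommRingCat.of k)) = W ↘ Spec (CommRingCat.of k) := rfl
  have hdeg : b.residueDegree (genericPoint W) = 1 := by
    refine Groth.L22.Cyc.residueDegree_eq_one _ _ ⟨RingHom.injective _, fun t => ?_⟩
    obtain ⟨t', rfl⟩ := W.residue_surjective _ t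
    haveI := hst
    obtain ⟨s, rfl⟩ := (ConcreteCategory.bijective_of_isIso (b.stalkMap (genericPoint W))).2 t'
    exact ⟨X.residue _ s, ConcreteCategory.congr_hom (Scheme.residue_residueFieldMap b _) s⟩
  have hbsurj : Function.Surjective b := fun x => by
    have h : x ∈ closure ({genericPoint X} : Set X) := by rw [(genericPoint_spec X).def]; trivial
    exact closure_minimal (Set.singleton_subset_iff.2 (show genericPoint X ∈ Set.range b from ⟨_, hbη⟩))
      b.isClosedMap.isClosed_range h
  have hWd : topologicalKrullDim W = (2 : ℕ) := by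
    let O : X.Opens := I.support.compl
    haveI := Groth.L22.Ideals.isIso_restrict_compl hb
    have hηO : genericPoint X ∈ O := fun h => hηy (hIsupp.le h)
    have huniq : ∀ x', b x' = genericPoint X → x' = genericPoint W := by
      intro x' hx'
      have h1 : x' ∈ b ⁻¹ᵁ O := by show b x' ∈ O; rw [hx']; exact hηO
      have h2 : genericPoint W ∈ b ⁻¹ᵁ O := by show b _ ∈ O; rw [hbη]; exact hηO
      have h3 : (b ∣_ O) ⟨x', h1⟩ = (b ∣_ O) ⟨genericPoint W, h2⟩ := by
        apply O.ι.isOpenEmbedding.injective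
        rw [← Scheme.Hom.comp_apply, ← Scheme.Hom.comp_apply, morphismRestrict_ι, Scheme.Hom.comp_apply,
          Scheme.Hom.comp_apply]
        exact hx'.trans hbη.symm
      exact congrArg Subtype.val ((asIso (b ∣_ O)).hom.homeomorph.injective h3)
    obtain ⟨a, c, ha, hc, hac⟩ := Groth.L22.FibreDim.exists_dim_closure_add k b hbk (genericPoint W)
    rw [hbη, hdX] at ha
    have hc0 : c = 0 := by
      haveI : Subsingleton (closure ({genericPoint W} : Set W) ∩ b ⁻¹' {b (genericPoint W)} : Set W) :=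
        ⟨fun u v => Subtype.ext (by rw [huniq u.1 (u.2.2.trans hbη), huniq v.1 (v.2.2.trans hbη)])⟩
      haveI : DiscreteTopology (closure ({genericPoint W} : Set W) ∩ b ⁻¹' {b (genericPoint W)} : Set W) :=
        Subsingleton.discreteTopology
      have h0 := topologicalKrullDim_zero_of_discreteTopology
        (closure ({genericPoint W} : Set W) ∩ b ⁻¹' {b (genericPoint W)} : Set W)
      rw [hc] at h0
      exact Nat.le_zero.1 (by exact_mod_cast h0)
    rw [(genericPoint_spec W).def, hc0, add_zero] at hac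
    have h2a : (2 : ℕ) = a := by exact_mod_cast ha
    rw [h2a, ← hac]
    exact (IsHomeomorph.topologicalKrullDim_eq _ (Homeomorph.Set.univ W).isHomeomorph).symm
  -- the exceptional divisor
  obtain ⟨N, s, hN, -, hs⟩ := Groth.L08.Cube.exists_section_of_effCartier _ hb.1
  have hsuppE : ((I.comap b).support : Set W) = b ⁻¹' closure {y} := by
    rw [Scheme.IdealSheafData.support_comap, ← hIsupp]; rfl
  have hηW : genericPoint W ∈ CohB1.genLocus N s := by
    show genericPoint W ∈ (CohB1.genLocus N s : Set W)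
    rw [hs, hsuppE, Set.mem_compl_iff, Set.mem_preimage, hbη]
    exact hηy
  haveI : Mono s := Groth.L22.Nakai.mono_of_injective (Groth.L18.Ample.isInvertible_structureModule W) s
    (bijective_stalk_section s hηW).1
  obtain ⟨hD, hDη⟩ := cokernel_facts k (Groth.L18.Ample.isInvertible_structureModule W) hN s
  haveI : Coh.IsQCoh N := (Groth.L18.Ample.isCoh_of_isInvertible hN).1
  have hsupp : ∀ x, x ∈ CohB1.support (cokernel s) ↔ b x ∈ closure ({y} : Set X) := fun x => by
    have h1 : x ∈ CohB1.support (cokernel s) ↔ x ∉ CohB1.genLocus N s := by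
      rw [← not_iff_not, not_not, Groth.L21.RR.mem_genLocus_iff hN, notMem_support_cokernel_iff]
      rfl
    rw [h1]
    show x ∉ (CohB1.genLocus N s : Set W) ↔ _
    rw [hs, Set.mem_compl_iff, not_not, hsuppE]
    rfl
  have hT := CohSupport.isClosed_support (cokernel s) hD.2
  have hd1 : topologicalKrullDim (CohB1.support (cokernel s)) ≤ (1 : ℕ) :=
    dim_le_of_generic_notMem hT hDη hWd.le
  -- the degree is a pairing with the exceptional divisor
  have hS : ∀ x, x ∈ (finite_top hT hd1).toFinset ↔ x ∈ CohB1.support (cokernel s) ∧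
      topologicalKrullDim (closure ({x} : Set W)) = ((1 : ℕ) : WithBot ℕ∞) := fun x => Set.Finite.mem_toFinset _
  have hterm : ∀ z ∈ (finite_top hT hd1).toFinset, ∃ m : ℕ, (b z = y → 0 < m) ∧
      ∀ L : X.Modules, PicF.IsInvertible L →
      altT k (fun _ : Fin 1 => (Scheme.Modules.pullback b).obj L) (ClSub.quotMod (pt z)) =
        m * altT k (fun _ : Fin 1 => L) (ClSub.quotMod (pt y)) := by
    intro z hz
    obtain ⟨hzT, hzd⟩ := (hS z).1 hz
    rcases Groth.L02.Num.Hodge.deg_map k b hbk z hzd with ⟨hw, m, hm, hmL⟩ | ⟨hw, hmL⟩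
    · have hzy : b z = y := (eq_of_specializes_top isClosed_closure hy.le hw (subset_closure rfl)
        (specializes_iff_mem_closure.2 ((hsupp z).1 hzT))).symm
      exact ⟨m, fun _ => hm, fun L hL => by rw [hmL L hL, hzy]⟩
    · refine ⟨0, fun h => ?_, fun L hL => by rw [hmL L hL, Nat.cast_zero, zero_mul]⟩
      rw [h, hy] at hw
      have : (1 : ℕ) = 0 := by exact_mod_cast hw
      omega
  choose! m hm hmeq using hterm
  -- some component dominates the curve
  obtain ⟨x₀, hx₀⟩ := hbsurj y
  obtain ⟨x, hx, -, hxcl⟩ := Groth.L22.FibreDim.exists_closure_inter_eq b (x := x₀)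
  have hxy : b x = y := hx.trans hx₀
  obtain ⟨a, c, ha, hc, hac⟩ := Groth.L22.FibreDim.exists_dim_closure_add k b hbk x
  rw [hxcl] at hc
  haveI : DiscreteTopology ({x} : Set W) := Subsingleton.discreteTopology
  have hc0 : c = 0 := by
    have h0 := topologicalKrullDim_zero_of_discreteTopology ({x} : Set W)
    rw [hc] at h0
    exact Nat.le_zero.1 (by exact_mod_cast h0)
  rw [hxy, hy] at ha
  have hxd : topologicalKrullDim (closure ({x} : Set W)) = (1 : ℕ) := by
    rw [hac, hc0, add_zero]; exact ha.symm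
  have hxT : x ∈ CohB1.support (cokernel s) := (hsupp x).2 (hxy ▸ subset_closure rfl)
  have hxS : x ∈ (finite_top hT hd1).toFinset := (hS x).2 ⟨hxT, hxd⟩
  have hlen : 0 < (CohSupport.len x (cokernel s)).toNat := by
    refine Nat.pos_of_ne_zero fun h => ?_
    rcases ENat.toNat_eq_zero.1 h with h | h
    · exact (CohSupport.len_eq_zero_iff x _).1 h hxT
    · exact CohSupport.len_ne_top hD (fun z hz hzx => (eq_of_specializes_top hT hd1 hxd hz hzx)) h
  set S : ℚ := ((∑ z ∈ (finite_top hT hd1).toFinset, ((CohSupport.len z (cokernel s)).toNat * m z) : ℕ) : ℚ)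
    with hSdef
  have hS1 : 1 ≤ S := by
    rw [hSdef]
    exact_mod_cast (Nat.mul_pos hlen (hm x hxS hxy)).trans_le
      (Finset.single_le_sum (f := fun z => (CohSupport.len z (cokernel s)).toNat * m z) (fun _ _ => Nat.zero_le _) hxS)
  have hH' := isInvertible_pullback b hH
  obtain ⟨B', hB'⟩ := exists_bound k hWd hH' (by rwa [Groth.L02.Num.Hodge.ii_pullback k b hbk hbη hWd hdeg hH hH]) hN B
  refine ⟨B', fun L hL hl hq => ?_⟩
  have hL' := isInvertible_pullback b hL
  have h1 := hB' ((Scheme.Modules.pullback b).obj L) hL'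
    (by rwa [Groth.L02.Num.Hodge.ii_pullback k b hbk hbη hWd hdeg hL hH])
    (by rwa [Groth.L02.Num.Hodge.ii_pullback k b hbk hbη hWd hdeg hL hL])
  rw [ii_comm, ii_eq_coker k hWd.le hN hL' s,
    altT_eq_sum k (fun _ => hL') hT hd1 _ hS (fun z => ClSub.quotMod (pt z)) (fun z _ => pt_facts z) hD
      subset_rfl] at h1
  rw [show (∑ z ∈ (finite_top hT hd1).toFinset, ((CohSupport.len z (cokernel s)).toNat : ℚ) *
      altT k (fun _ : Fin 1 => (Scheme.Modules.pullback b).obj L) (ClSub.quotMod (pt z))) =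
      S * altT k (fun _ : Fin 1 => L) (ClSub.quotMod (pt y)) from by
    rw [hSdef, Nat.cast_sum, Finset.sum_mul]
    exact Finset.sum_congr rfl fun z hz => by rw [hmeq z hz L hL, Nat.cast_mul, mul_assoc],
    abs_mul, abs_of_nonneg (zero_le_one.trans hS1)] at h1
  exact (le_mul_of_one_le_left (abs_nonneg _) hS1).trans h1

end Surface

/-- Degree and self-intersection bound the degree on each curve. -/
def DegB (s : ℕ) : Prop :=
  ∀ (k : Type u) [Field k] (X : Scheme.{u}) [X.Over (Spec (CommRingCat.of k))]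
    [IsProper (X ↘ Spec (CommRingCat.of k))] [IsIntegral X],
    topologicalKrullDim X = ((s + 2 : ℕ) : WithBot ℕ∞) → ∀ (H : X.Modules), CohB1.IsAmple H →
    ∀ y : X, topologicalKrullDim (closure ({y} : Set X)) = (1 : ℕ) → ∀ B : ℚ,
    ∃ B' : ℚ, ∀ L : X.Modules, PicF.IsInvertible L →
      |altT k (Fin.cons L (fun _ : Fin (s + 1) => H)) (Coh.structureModule X)| ≤ B →
      -B ≤ altT k (Fin.cons L (Fin.cons L (fun _ : Fin s => H))) (Coh.structureModule X) →
      |altT k (fun _ : Fin 1 => L) (ClSub.quotMod (pt y))| ≤ B'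

theorem degB_zero : DegB.{u} 0 := by
  intro k _ X _ _ _ hd H hH y hy B
  haveI := Groth.L21.RR.isNoetherian_of_proper (X := X) k
  obtain ⟨B', hB'⟩ := deg_bound_surface k hd hH.1 (ii_ample_pos k hd.le hd hH) y hy B
  refine ⟨B', fun L hL hl hq => hB' L hL hl ?_⟩
  rw [show (Fin.cons L (fun i : Fin 0 => H) : Fin 1 → X.Modules) = fun _ => L from
    funext fun i => Fin.cases rfl (fun j => j.elim0) i] at hq
  exact hq

/-- One step of the induction, by a generic member through the curve. -/
theorem degB_succ (t : ℕ) (ih : DegB.{u} t) : DegB.{u} (t + 1) := by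
  intro k _ X _ _ _ hd H hH y hy B
  haveI := Groth.L21.RR.isNoetherian_of_proper (X := X) k
  obtain ⟨m, ι, _, s, hm, hsT, hsc⟩ := exists_sections k hH (T := closure ({y} : Set X)) isClosed_closure
  let M := CohB1.tensorPow H m
  have hM : PicF.IsInvertible M := Groth.L18.Ample.isInvertible_tensorPow hH.1 m
  let K := Kt k ι
  let g := proj (X := X) k ι
  let pb := Scheme.Modules.pullback g
  haveI : Surjective g := inferInstanceAs (Surjective (pullback.fst (X ↘ Spec (CommRingCat.of k)) (ext k ι)))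
  obtain ⟨z₀, hz₀⟩ := g.surjective y
  haveI : Nonempty (XK k ι X) := ⟨z₀⟩
  haveI := isIntegral_XK k ι (X := X)
  haveI := Groth.L21.RR.isNoetherian_of_proper (X := XK k ι X) K
  haveI : IsAffineHom g := inferInstanceAs (IsAffineHom (pullback.fst (X ↘ Spec (CommRingCat.of k)) (ext k ι)))
  have hdX : topologicalKrullDim (closure ({genericPoint X} : Set X)) = ((t + 1 + 2 : ℕ) : WithBot ℕ∞) := by
    rw [(genericPoint_spec X).def, ← hd]
    exact IsHomeomorph.topologicalKrullDim_eq _ (Homeomorph.Set.univ X).isHomeomorph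
  have hξ : g (genericPoint (XK k ι X)) = genericPoint X := by
    obtain ⟨_, ⟨V, hV, rfl⟩, hzV, -⟩ := X.isBasis_affineOpens.exists_subset_of_mem_open
      (Set.mem_univ (g (genericPoint (XK k ι X)))) isOpen_univ
    haveI : Nonempty V := ⟨⟨_, hzV⟩⟩
    obtain ⟨η, hη, hgη, -, -⟩ := exists_generic_over k ι hV hzV
    rwa [← (Specializes.antisymm ((genericPoint_spec (XK k ι X)).specializes trivial) hη).eq] at hgη
  have hdK : topologicalKrullDim (XK k ι X) = ((t + 1 + 2 : ℕ) : WithBot ℕ∞) := by
    have h := Groth.L22.Cyc.dim_closure_baseChange k K (X ↘ Spec (CommRingCat.of k)) _ _ g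
      (IsPullback.of_hasPullback (X ↘ Spec (CommRingCat.of k)) (ext k ι))
      (z' := genericPoint (XK k ι X)) (fun w hw => (hw.antisymm ((genericPoint_spec (XK k ι X)).specializes trivial)).eq)
      (by rw [hξ]; exact hdX)
    rw [(genericPoint_spec (XK k ι X)).def] at h
    rw [← h]
    exact (IsHomeomorph.topologicalKrullDim_eq _ (Homeomorph.Set.univ (XK k ι X)).isHomeomorph).symm
  -- the member
  let σ := member k s
  have hMK : PicF.IsInvertible (pb.obj M) := Groth.L18.Ample.isInvertible_pullback g hM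
  obtain ⟨j₀, hj₀⟩ := hsc (genericPoint X) fun h => by
    have h1 := topologicalKrullDim_set_mono (closure_minimal (Set.singleton_subset_iff.2 h) isClosed_closure)
    rw [hdX, hy] at h1
    have : t + 1 + 2 ≤ 1 := by exact_mod_cast h1
    omega
  have hση := member_generic k s hM hj₀
  haveI : Mono σ := Groth.L22.Nakai.mono_of_injective (Groth.L18.Ample.isInvertible_structureModule _) σ
    (bijective_stalk_section σ hση).1
  obtain ⟨hD, hDη⟩ := cokernel_facts K (Groth.L18.Ample.isInvertible_structureModule _) hMK σ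
  haveI : Coh.IsQCoh (pb.obj M) := (Groth.L18.Ample.isCoh_of_isInvertible hMK).1
  have hsupp : ∀ z, z ∈ CohB1.support (cokernel σ) ↔ z ∉ CohB1.genLocus _ σ := fun z => by
    rw [← not_iff_not, not_not, Groth.L21.RR.mem_genLocus_iff hMK, notMem_support_cokernel_iff]
    rfl
  have hSc := CohSupport.isClosed_support (cokernel σ) hD.2
  have hd1 : topologicalKrullDim (CohB1.support (cokernel σ)) ≤ ((t + 2 : ℕ) : WithBot ℕ∞) :=
    dim_le_of_generic_notMem hSc hDη (hdK.le.trans (by rfl))
  have hbase : ∀ z, g z ∈ closure ({y} : Set X) → z ∉ CohB1.genLocus _ σ := fun z hz =>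
    member_base k s hM fun i => hsT i _ hz
  have hmaxdim : ∀ w ∈ CohB1.support (cokernel σ), (∀ w' ∈ CohB1.support (cokernel σ), w' ⤳ w → w' = w) →
      topologicalKrullDim (closure ({w} : Set (XK k ι X))) = ((t + 2 : ℕ) : WithBot ℕ∞) := by
    intro w hw hmax
    obtain ⟨n, hn, hn'⟩ := dim_closure_eq_add_one K hMK σ (y := genericPoint (XK k ι X)) (z := w) hση
      (by rw [(genericPoint_spec (XK k ι X)).def]; trivial) ((hsupp w).1 hw)
      (fun w' _ hw' h => hmax w' ((hsupp w').2 hw') h)
    rw [(genericPoint_spec (XK k ι X)).def,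
      IsHomeomorph.topologicalKrullDim_eq _ (Homeomorph.Set.univ (XK k ι X)).isHomeomorph, hdK] at hn'
    have : t + 1 + 2 = n + 1 := by exact_mod_cast hn'
    rw [hn, show n = t + 2 by omega]
  have hoff : ∀ w, topologicalKrullDim (closure ({w} : Set (XK k ι X))) = ((t + 2 : ℕ) : WithBot ℕ∞) →
      ∃ i, g w ∈ CohB1.genLocus M (s i) := fun w hw => hsc _ fun h => by
    have h1 := dim_closure_over_le k ι hy h
    rw [hw] at h1
    have : t + 2 ≤ 1 := by exact_mod_cast h1
    omega
  obtain ⟨η, hηS, -, hηmax⟩ := exists_max_in_closed hSc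
    ((hsupp z₀).2 (hbase z₀ (by rw [hz₀]; exact subset_closure rfl)))
  have hηd := hmaxdim η hηS hηmax
  have hS : CohB1.support (cokernel σ) ⊆ closure {η} := by
    intro z hz
    obtain ⟨w, hw, hwz, hwmax⟩ := exists_max_in_closed hSc hz
    obtain ⟨i, hi⟩ := hoff w (hmaxdim w hw hwmax)
    obtain ⟨i', hi'⟩ := hoff η hηd
    obtain ⟨ζ, hζ, hζw, hζη⟩ := exists_member_generic k s ((hsupp w).1 hw) ((hsupp η).1 hηS) hi hi'
    have e1 := hwmax ζ ((hsupp ζ).2 hζ) hζw
    have e2 := hηmax ζ ((hsupp ζ).2 hζ) hζη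
    exact specializes_iff_mem_closure.1 (by rw [← e2, e1]; exact hwz)
  have hℓ : 0 < (CohSupport.len η (cokernel σ)).toNat := by
    refine Nat.pos_of_ne_zero fun h => ?_
    rcases ENat.toNat_eq_zero.1 h with h | h
    · exact (CohSupport.len_eq_zero_iff η _).1 h hηS
    · exact CohSupport.len_ne_top hD (fun z hz hzx => eq_of_specializes_top hSc hd1 hηd hz hzx) h
  -- the reduced member
  haveI := isIntegral_pt η
  let Y := (pt η).subscheme
  let i := (pt η).subschemeι
  letI : Y.Over (Spec (CommRingCat.of K)) := ⟨i ≫ (XK k ι X ↘ Spec (CommRingCat.of K))⟩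
  haveI : IsProper (Y ↘ Spec (CommRingCat.of K)) :=
    inferInstanceAs (IsProper (i ≫ (XK k ι X ↘ Spec (CommRingCat.of K))))
  haveI := Groth.L21.RR.isNoetherian_of_proper (X := Y) K
  have hdY : topologicalKrullDim Y = ((t + 2 : ℕ) : WithBot ℕ∞) := by
    rw [← dim_closure_image i, genericPoint_pt, hηd]
  have hHK := Groth.L18.Ample.isAmple_pullback_of_isAffineHom g hH
  have hRinv : ∀ {r : ℕ} (R : Fin r → X.Modules), (∀ l, PicF.IsInvertible (R l)) →
      ∀ l, PicF.IsInvertible (pb.obj (R l)) := fun R h l => Groth.L18.Ample.isInvertible_pullback g (h l)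
  have key : ∀ R : Fin (t + 2) → X.Modules, (∀ l, PicF.IsInvertible (R l)) →
      ((CohSupport.len η (cokernel σ)).toNat : ℚ) *
        altT K (fun l => (Scheme.Modules.pullback i).obj (pb.obj (R l))) (Coh.structureModule Y) =
      m * altT k (Fin.cons H R) (Coh.structureModule X) := by
    intro R hR
    have hMR : ∀ l, PicF.IsInvertible ((Fin.cons M R : Fin (t + 1 + 2) → X.Modules) l) :=
      Fin.cases (by simpa using hM) fun l => by simpa using hR l
    have h1 := altT_push_eq K i rfl hdY (L := fun l => pb.obj (R l)) (hRinv R hR)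
    rw [genericPoint_pt] at h1
    rw [h1, ← altT_eq_len K (hRinv R hR) hηd hD hS, ← altT_cons_coker K hMK (hRinv R hR) σ,
      ← altT_pow k hR hH.1 CohClosedPush.isCoh_structure
        (by rw [Groth.L22.Nakai.dim_support_structure, hd]) m]
    have h2 := altT_XK k ι hd.le hdK.le (M := (Fin.cons M R : Fin (t + 1 + 2) → X.Modules)) hMR
      CohClosedPush.isCoh_structure (by rw [Groth.L22.Nakai.dim_support_structure, hd])
    rw [altT_iso K _ (Groth.L29.LocFree.pullbackUnitIso g)] at h2
    rw [← h2]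
    congr 1
    funext l
    exact Fin.cases rfl (fun _ => rfl) l
  have hHY := Groth.L18.Ample.isAmple_pullback_of_isAffineHom i hHK
  have hcons : ∀ {r : ℕ} (A : X.Modules) (R : Fin r → X.Modules),
      (fun l => (Scheme.Modules.pullback i).obj (pb.obj ((Fin.cons A R : Fin (r + 1) → X.Modules) l))) =
        Fin.cons ((Scheme.Modules.pullback i).obj (pb.obj A))
          (fun l => (Scheme.Modules.pullback i).obj (pb.obj (R l))) := fun A R =>
    funext fun l => Fin.cases rfl (fun _ => rfl) l
  have hconst : ∀ n : ℕ, (Fin.cons H (fun _ : Fin n => H) : Fin (n + 1) → X.Modules) = fun _ => H :=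
    fun n => funext fun l => Fin.cases rfl (fun _ => rfl) l
  set ℓ : ℚ := ((CohSupport.len η (cokernel σ)).toNat : ℚ) with hℓdef
  have hℓ1 : 1 ≤ ℓ := by rw [hℓdef]; exact_mod_cast hℓ
  have hhyp : ∀ L, PicF.IsInvertible L →
      |altT k (Fin.cons L fun _ : Fin (t + 1 + 1) => H) (Coh.structureModule X)| ≤ B →
      -B ≤ altT k (Fin.cons L (Fin.cons L fun _ : Fin (t + 1) => H)) (Coh.structureModule X) →
      |altT K (Fin.cons ((Scheme.Modules.pullback i).obj (pb.obj L))
        (fun _ : Fin (t + 1) => (Scheme.Modules.pullback i).obj (pb.obj H))) (Coh.structureModule Y)| ≤ m * B ∧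
      -(m * B) ≤ altT K (Fin.cons ((Scheme.Modules.pullback i).obj (pb.obj L))
        (Fin.cons ((Scheme.Modules.pullback i).obj (pb.obj L))
        (fun _ : Fin t => (Scheme.Modules.pullback i).obj (pb.obj H)))) (Coh.structureModule Y) := by
    intro L hL hl hq
    constructor
    · have h := key (Fin.cons L fun _ : Fin (t + 1) => H)
        (Fin.cases (by simpa using hL) fun _ => by simpa using hH.1)
      rw [hcons, altT_swap, hconst] at h
      refine le_trans (le_mul_of_one_le_left (abs_nonneg _) hℓ1) ?_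
      rw [← abs_of_nonneg (zero_le_one.trans hℓ1), ← abs_mul, h, abs_mul, Nat.abs_cast]
      exact mul_le_mul_of_nonneg_left hl (Nat.cast_nonneg _)
    · have h := key (Fin.cons L (Fin.cons L fun _ : Fin t => H))
        (Fin.cases (by simpa using hL) (Fin.cases (by simpa using hL) fun _ => by simpa using hH.1))
      rw [hcons, hcons, altT_swap k H L, altT_swap_inner k L H L, hconst] at h
      have h1 := mul_le_mul_of_nonneg_left hq (Nat.cast_nonneg (α := ℚ) m)
      have h2 : 0 ≤ (m : ℚ) * B := mul_nonneg (Nat.cast_nonneg _) ((abs_nonneg _).trans hl)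
      rw [← h] at h1
      nlinarith
  have hyi : ∀ (z : XK k ι X), z ∈ closure ({η} : Set (XK k ι X)) →
      topologicalKrullDim (closure ({z} : Set (XK k ι X))) = (1 : ℕ) → ∃ C : ℚ, ∀ L, PicF.IsInvertible L →
      |altT k (Fin.cons L fun _ : Fin (t + 1 + 1) => H) (Coh.structureModule X)| ≤ B →
      -B ≤ altT k (Fin.cons L (Fin.cons L fun _ : Fin (t + 1) => H)) (Coh.structureModule X) →
      |altT K (fun _ : Fin 1 => pb.obj L) (ClSub.quotMod (pt z))| ≤ C := by
    intro z hz hzd
    obtain ⟨z₁, rfl⟩ : z ∈ Set.range i := by rw [range_pt]; exact hz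
    rw [dim_closure_map i.isClosedEmbedding] at hzd
    obtain ⟨C, hC⟩ := ih K Y hdY _ hHY z₁ hzd (m * B)
    refine ⟨C, fun L hL hl hq => ?_⟩
    have hLK := Groth.L18.Ample.isInvertible_pullback g hL
    obtain ⟨h1, h2⟩ := hhyp L hL hl hq
    rw [← deg_pullback_closed K i rfl hLK z₁ hzd]
    exact hC _ (Groth.L18.Ample.isInvertible_pullback i hLK) h1 h2
  -- descend
  obtain ⟨hF, hFs, -⟩ := pt_facts y
  have hFd : topologicalKrullDim (CohB1.support (ClSub.quotMod (pt y))) ≤ (1 : ℕ) :=
    (topologicalKrullDim_set_mono hFs).trans hy.le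
  haveI : Coh.IsQCoh (ClSub.quotMod (pt y)) := hF.1
  let F' := pb.obj (ClSub.quotMod (pt y))
  have hF' : Coh.IsCoh F' := Groth.L19.LimMod.isCoh_pullback' g hF
  have hTs : CohB1.support F' ⊆ g ⁻¹' closure {y} := by
    rw [Groth.L19.SupportPullback.support_pullback g _ hF.2]
    exact Set.preimage_mono hFs
  have hT' : IsClosed (g ⁻¹' closure ({y} : Set X)) := isClosed_closure.preimage g.continuous
  have hT'd : topologicalKrullDim (CohB1.support F') ≤ (1 : ℕ) := by
    by_contra hne
    obtain ⟨w, hw, hwd⟩ := exists_point_dim_closure_ge (CohSupport.isClosed_support F' hF'.2) (e := 2) (by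
      refine le_of_not_gt fun h => hne ?_
      have h' := Groth.L22.Inter.add_one_le_of_lt h
      generalize topologicalKrullDim (CohB1.support F') = q at h' ⊢
      induction q using WithBot.recBotCoe with
      | bot => exact bot_le
      | coe q =>
        rw [show ((2 : ℕ) : WithBot ℕ∞) = ((1 : ℕ∞) + 1 : ℕ∞) from rfl] at h'
        exact_mod_cast (ENat.add_le_add_iff_right (by simp)).1 (WithBot.coe_le_coe.1 h'))
    have h2 : (2 : ℕ) ≤ 1 := by exact_mod_cast hwd.trans (dim_closure_over_le k ι hy (hTs hw))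
    omega
  have hTc := CohSupport.isClosed_support F' hF'.2
  let Z := (finite_top hTc hT'd).toFinset
  have hZ : ∀ z ∈ Z, z ∈ closure ({η} : Set (XK k ι X)) ∧
      topologicalKrullDim (closure ({z} : Set (XK k ι X))) = ((1 : ℕ) : WithBot ℕ∞) := fun z hz => by
    obtain ⟨hzT, hzd⟩ := (Set.Finite.mem_toFinset _).1 hz
    exact ⟨hS ((hsupp z).2 (hbase z (hTs hzT))), hzd⟩
  choose! C hC using fun z (hz : z ∈ Z) => hyi z (hZ z hz).1 (hZ z hz).2
  refine ⟨∑ z ∈ Z, ((CohSupport.len z F').toNat : ℚ) * C z, fun L hL hl hq => ?_⟩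
  have hLK := Groth.L18.Ample.isInvertible_pullback g hL
  have hbc := altT_XK k ι hd.le hdK.le (M := fun _ : Fin 1 => L) (fun _ => hL) hF hFd
  rw [← hbc, altT_eq_sum K (fun _ => hLK) hTc hT'd Z (fun z => Set.Finite.mem_toFinset _)
    (fun z => ClSub.quotMod (pt z)) (fun z _ => pt_facts z) hF' subset_rfl]
  refine (Finset.abs_sum_le_sum_abs _ _).trans (Finset.sum_le_sum fun z hz => ?_)
  rw [abs_mul, Nat.abs_cast]
  exact mul_le_mul_of_nonneg_left (hC z hz L hL hl hq) (Nat.cast_nonneg _)

/-- The bound in every dimension. -/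
theorem degB : ∀ s : ℕ, DegB.{u} s
  | 0 => degB_zero
  | t + 1 => degB_succ t (degB t)

end Groth.L11.Bdd
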