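import Groth.Agent.L11.Bdd.Good
import Groth.Agent.L11.Bdd.DegBound
import Groth.Agent.L16.Rees.ClosedFibre

/-!
# Degree and self-intersection bound a family of invertible modules
-/

set_option autoImplicit false
set_option backward.isDefEq.respectTransparency false
set_option linter.style.haveILetI false
set_option linter.unusedSectionVars false

universe u

open CategoryTheory CategoryTheory.Limits AlgebraicGeometry TopologicalSpace

noncomputable section

namespace Groth.L11.Bdd

open Groth.L16 Groth.L22.Nef Groth.L22.Inter Groth.L03.Euler Groth.L22.Big Groth.L11.NumOrth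
open Groth.L00.Tensor (tensorIso tensorAssoc tensorComm tensorUnitRight tensorUnitLeft)
open Groth.L18.Ample (isInvertible_tensorPow isInvertible_pullback)
open Groth.L18.GenLoc (isInvertible_tensor)

variable (k : Type u) [Field k]

section Forms

variable {X : Scheme.{u}} [X.Over (Spec (CommRingCat.of k))] [IsProper (X ↘ Spec (CommRingCat.of k))]

/-- The degree against `s + 1` copies of `H`. -/
def dg (s : ℕ) (H L : X.Modules) : ℚ := altT k (Fin.cons L fun _ : Fin (s + 1) => H) (Coh.structureModule X)

/-- The pairing against `s` copies of `H`. -/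
def pr (s : ℕ) (H A B : X.Modules) : ℚ :=
  altT k (Fin.cons A (Fin.cons B fun _ : Fin s => H)) (Coh.structureModule X)

theorem pr_comm (s : ℕ) (H A B : X.Modules) : pr k s H A B = pr k s H B A := altT_swap k A B _ _

theorem pr_H (s : ℕ) (H A : X.Modules) : pr k s H A H = dg k s H A :=
  congrArg (fun R : Fin (s + 1) → X.Modules => altT k (Fin.cons A R) (Coh.structureModule X))
    (funext fun l => Fin.cases rfl (fun _ => rfl) l)

variable {s : ℕ} (hdim : topologicalKrullDim X ≤ ((s + 2 : ℕ) : WithBot ℕ∞))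
include hdim

theorem pr_tensor {H A A' B : X.Modules} (hH : PicF.IsInvertible H) (hA : PicF.IsInvertible A)
    (hA' : PicF.IsInvertible A') (hB : PicF.IsInvertible B) :
    pr k s H (CohB1.tensorMod A A') B = pr k s H A B + pr k s H A' B := by
  haveI := Groth.L21.RR.isNoetherian_of_proper (X := X) k
  exact altT_add k (Fin.cases (by simpa using hB) fun _ => by simpa using hH) hA hA' CohClosedPush.isCoh_structure
    ((topologicalKrullDim_subspace_le X _).trans hdim)

theorem pr_inv {H A A' B : X.Modules} (hH : PicF.IsInvertible H) (hA : PicF.IsInvertible A)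
    (hA' : PicF.IsInvertible A') (hB : PicF.IsInvertible B) (e : CohB1.tensorMod A A' ≅ Coh.structureModule X) :
    pr k s H A' B = - pr k s H A B := by
  have h := pr_tensor k hdim hH hA hA' hB
  rw [show pr k s H (CohB1.tensorMod A A') B = 0 from (altT_slot_congr k e _ _).trans (altT_unit k _)] at h
  linarith

/-- An integral multiple in the pairing. -/
theorem pr_zsmul {H A : X.Modules} (hH : PicF.IsInvertible H) (hA : PicF.IsInvertible A) (j : ℤ) :
    ∃ Z : X.Modules, PicF.IsInvertible Z ∧ ∀ B, PicF.IsInvertible B → pr k s H Z B = j * pr k s H A B := by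
  haveI := Groth.L21.RR.isNoetherian_of_proper (X := X) k
  obtain ⟨A', hA', ⟨e⟩⟩ := Groth.L08.Cube.exists_inverse hA
  have hp : ∀ (C : X.Modules) (hC : PicF.IsInvertible C) (m : ℕ) (B : X.Modules), PicF.IsInvertible B →
      pr k s H (CohB1.tensorPow C m) B = m * pr k s H C B := fun C hC m B hB =>
    altT_pow k (Fin.cases (by simpa using hB) fun _ => by simpa using hH) hC CohClosedPush.isCoh_structure
      ((topologicalKrullDim_subspace_le X _).trans hdim) m
  rcases j.eq_nat_or_neg with ⟨m, rfl | rfl⟩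
  · exact ⟨_, isInvertible_tensorPow hA m, fun B hB => by rw [hp A hA m B hB]; push_cast; ring⟩
  · exact ⟨_, isInvertible_tensorPow hA' m, fun B hB => by
      rw [hp A' hA' m B hB, pr_inv k hdim hH hA hA' hB e]; push_cast; ring⟩

omit hdim

/-- The index inequality in every dimension. -/
theorem pr_le [IsIntegral X] (hd : topologicalKrullDim X = ((s + 2 : ℕ) : WithBot ℕ∞)) {H L : X.Modules}
    (hH : CohB1.IsAmple H) (hL : PicF.IsInvertible L) :
    pr k s H L L * pr k s H H H ≤ dg k s H L ^ 2 := by
  haveI := Groth.L21.RR.isNoetherian_of_proper (X := X) k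
  obtain ⟨l, hl⟩ := exists_int_alt (r := s + 1 + 1) fun n => Curv2.euler k X (CohB1.tensorMod (Coh.structureModule X)
    (Curv2.tensorPows (Coh.structureModule X) (s + 1 + 1) (Fin.cons L fun _ : Fin (s + 1) => H) n))
  have hl' : dg k s H L = l := hl
  have hh : 0 < pr k s H H H := by
    rw [pr_H, dg, show (Fin.cons H (fun _ : Fin (s + 1) => H) : Fin (s + 2) → X.Modules) = fun _ => H from
      funext fun l => Fin.cases rfl (fun _ => rfl) l]
    exact altT_ample_pos k hH hd
  obtain ⟨h, hh'⟩ := exists_int_alt (r := s + 1 + 1) fun n => Curv2.euler k X (CohB1.tensorMod (Coh.structureModule X)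
    (Curv2.tensorPows (Coh.structureModule X) (s + 1 + 1) (Fin.cons H fun _ : Fin (s + 1) => H) n))
  have hh'' : pr k s H H H = h := (pr_H k s H H).trans hh'
  obtain ⟨Z₁, hZ₁, hZ₁i⟩ := pr_zsmul k hd.le hH.1 hL h
  obtain ⟨Z₂, hZ₂, hZ₂i⟩ := pr_zsmul k hd.le hH.1 hH.1 (-l)
  let N := CohB1.tensorMod Z₁ Z₂
  have hN : PicF.IsInvertible N := isInvertible_tensor hZ₁ hZ₂
  have hNB : ∀ B, PicF.IsInvertible B → pr k s H N B = (h : ℚ) * pr k s H L B - l * pr k s H H B := fun B hB => by
    rw [pr_tensor k hd.le hH.1 hZ₁ hZ₂ hB, hZ₁i B hB, hZ₂i B hB]; push_cast; ring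
  have horth : dg k s H N = 0 := by
    rw [← pr_H, hNB H hH.1, pr_H k s H L, hl', hh'']; ring
  have hle : pr k s H N N ≤ 0 := by
    by_contra hne
    rw [not_le] at hne
    have hNT : NT k N := ⟨hN, (numZero_iff k hN).2 (orth s k X hd H N hH hN horth hne.le)⟩
    exact hne.ne' (altT_cons_NT k hNT (Fin.cases (by simpa using hN) fun _ => by simpa using hH.1)
      CohClosedPush.isCoh_structure)
  rw [hNB N hN, pr_comm k s H L N, pr_comm k s H H N, hNB L hL, hNB H hH.1, pr_H k s H L, pr_comm k s H H L,
    pr_H k s H L, hl', hh''] at hle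
  rw [hh'', hl']
  have hpos : (0 : ℚ) < h := hh'' ▸ hh
  by_contra hne
  rw [not_le] at hne
  nlinarith [mul_pos hpos (sub_pos.2 hne)]

/-- Constant slots raised to a power. -/
theorem altT_pow_slots {r : ℕ} {L L' : Fin r → X.Modules} (hL : ∀ i, PicF.IsInvertible (L i)) (e : Fin r → ℕ)
    (he : ∀ i, Nonempty (L' i ≅ CohB1.tensorPow (L i) (e i)))
    {F : X.Modules} (hF : Coh.IsCoh F) (hd : topologicalKrullDim (CohB1.support F) ≤ r) :
    altT k L' F = (∏ i, (e i : ℚ)) * altT k L F := by
  classical
  haveI := Groth.L21.RR.isNoetherian_of_proper (X := X) k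
  rw [Groth.L22.Nef.altT_congr k he]
  suffices ∀ S : Finset (Fin r), altT k (S.piecewise (fun i => CohB1.tensorPow (L i) (e i)) L) F =
      (∏ i ∈ S, (e i : ℚ)) * altT k L F by simpa using this Finset.univ
  intro S
  induction S using Finset.induction_on with
  | empty => simp
  | insert a S ha ih =>
    rw [Finset.piecewise_insert, Finset.prod_insert ha, mul_assoc, ← ih]
    let M := S.piecewise (fun i => CohB1.tensorPow (L i) (e i)) L
    have hM : ∀ j, PicF.IsInvertible (M j) := fun j => by
      by_cases hj : j ∈ S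
      · simp only [M, Finset.piecewise_eq_of_mem _ _ _ hj]; exact isInvertible_tensorPow (hL j) _
      · simp only [M, Finset.piecewise_eq_of_notMem _ _ _ hj]; exact hL j
    have h := altT_update_pow_tensor k hM a (hL a) (Groth.L18.Ample.isInvertible_structureModule X) hF hd (e a) 0
    rw [altT_update_congr (show CohB1.tensorMod (CohB1.tensorPow (L a) (e a)) (CohB1.tensorPow (Coh.structureModule X) 0) ≅
      CohB1.tensorPow (L a) (e a) from tensorUnitRight _)] at h
    rw [Nat.cast_zero, zero_mul, add_zero, show Function.update M a (L a) = M from by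
      rw [show L a = M a from (Finset.piecewise_eq_of_notMem _ _ _ ha).symm, Function.update_eq_self]] at h
    exact h

theorem pr_succ (s : ℕ) (H L : X.Modules) :
    altT k (Fin.cons H (Fin.cons L (Fin.cons L fun _ : Fin s => H))) (Coh.structureModule X) = pr k (s + 1) H L L := by
  rw [altT_swap k H L, altT_swap_inner k L H L, pr,
    show (Fin.cons H (fun _ : Fin s => H) : Fin (s + 1) → X.Modules) = fun _ => H from
      funext fun l => Fin.cases rfl (fun _ => rfl) l]

/-- A weighted sum bounded below with terms bounded above has terms bounded below. -/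
theorem term_lower {α : Type*} (S : Finset α) (w a U : α → ℚ) {T B : ℚ} (hw : ∀ d, 0 ≤ w d)
    (hsum : ∑ d ∈ S, w d * a d = T) (hT : -B ≤ T) (hU : ∀ d ∈ S, a d ≤ U d) {c : α} (hc : c ∈ S) (hwc : 1 ≤ w c) :
    -(|B| + ∑ d ∈ S, w d * |U d|) ≤ a c := by
  classical
  have h0 : 0 ≤ |B| + ∑ d ∈ S, w d * |U d| :=
    add_nonneg (abs_nonneg _) (Finset.sum_nonneg fun d _ => mul_nonneg (hw d) (abs_nonneg _))
  rw [← Finset.add_sum_erase S _ hc] at hsum
  have h1 : ∑ d ∈ S.erase c, w d * a d ≤ ∑ d ∈ S, w d * |U d| :=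
    (Finset.sum_le_sum fun d hd => mul_le_mul_of_nonneg_left
      ((hU d (Finset.mem_of_mem_erase hd)).trans (le_abs_self _)) (hw d)).trans
      (Finset.sum_le_sum_of_subset_of_nonneg (Finset.erase_subset _ _) fun d _ _ => mul_nonneg (hw d) (abs_nonneg _))
  have h2 : -(|B| + ∑ d ∈ S, w d * |U d|) ≤ w c * a c := by linarith [le_abs_self B]
  by_contra hne
  rw [not_le] at hne
  nlinarith

end Forms

variable [IsAlgClosed k]

section Steps

variable {n : ℕ} {X : Scheme.{u}} [X.Over (Spec (CommRingCat.of k))] [IsProper (X ↘ Spec (CommRingCat.of k))]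
  (i : X ⟶ CohB1.ProjSpace n k) [IsClosedImmersion i]

/-- Bounded degree and self-intersection bounded below, against `O(1)`. -/
def DQ (s : ℕ) (B : ℚ) (L : X.Modules) : Prop :=
  PicF.IsInvertible L ∧ |dg k s (OX i 1) L| ≤ B ∧ -B ≤ pr k s (OX i 1) L L

/-- Mixed degrees against `O(1)` are bounded when the degrees on curves are. -/
theorem bounded_deg_of_curves (P : X.Modules → Prop) (hP : ∀ L, P L → PicF.IsInvertible L)
    (hdeg : ∀ y : X, topologicalKrullDim (closure ({y} : Set X)) = (1 : ℕ) →
      ∃ C : ℚ, ∀ L, P L → |altT k (fun _ : Fin 1 => L) (ClSub.quotMod (pt y))| ≤ C) :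
    ∀ (r : ℕ) (F : X.Modules), Coh.IsCoh F → topologicalKrullDim (CohB1.support F) ≤ ((r + 1 : ℕ) : WithBot ℕ∞) →
      ∃ C : ℚ, ∀ L, P L → |altT k (Fin.cons L fun _ : Fin r => OX i 1) F| ≤ C := by
  haveI := Groth.L21.RR.isNoetherian_of_proper (X := X) k
  intro r
  induction r with
  | zero =>
    intro F hF hd
    have hT := CohSupport.isClosed_support F hF.2
    let S := (finite_top hT hd).toFinset
    choose! C hC using fun y (hy : y ∈ S) => hdeg y ((Set.Finite.mem_toFinset _).1 hy).2
    refine ⟨∑ y ∈ S, ((CohSupport.len y F).toNat : ℚ) * C y, fun L hL => ?_⟩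
    rw [show (Fin.cons L (fun _ : Fin 0 => OX i 1) : Fin 1 → X.Modules) = fun _ => L from
        funext fun l => Fin.cases rfl (fun j => j.elim0) l,
      altT_eq_sum k (fun _ => hP L hL) hT hd S (fun y => Set.Finite.mem_toFinset _) (fun y => ClSub.quotMod (pt y))
        (fun y _ => pt_facts y) hF subset_rfl]
    refine (Finset.abs_sum_le_sum_abs _ _).trans (Finset.sum_le_sum fun y hy => ?_)
    rw [abs_mul, Nat.abs_cast]
    exact mul_le_mul_of_nonneg_left (hC y hy L hL) (Nat.cast_nonneg _)
  | succ r ih =>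
    intro F hF hd
    obtain ⟨G, f, g, hfg, hS, hG, hGd⟩ := exists_hyperplane i hF hd
    obtain ⟨f₁, g₁, h₁, hS₁⟩ := exists_seq_twist k i hS 1
    have hG1 := Groth.L22.Reg.isCoh_twistOn i hG 1
    obtain ⟨C, hC⟩ := ih (Pic13.twistOn k i G 1) hG1 (by
      rw [show CohB1.support (Pic13.twistOn k i G 1) = CohB1.support G from support_tensor (isInvertible_OX i 1) G]
      exact dim_succ_iff.1 hGd)
    refine ⟨C, fun L hL => ?_⟩
    let R : Fin (r + 1) → X.Modules := Fin.cons L fun _ : Fin r => OX i 1
    have hR : ∀ l, PicF.IsInvertible (R l) :=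
      Fin.cases (by simpa [R] using hP L hL) fun _ => by simpa [R] using isInvertible_OX i 1
    haveI := hS₁.mono_f
    have hmap := altT_map k hR (Groth.L22.Reg.isCoh_twistOn i hF (1 - 1)) (Groth.L22.Reg.isCoh_twistOn i hF 1) f₁
    have hker : altT k R (kernel f₁) = 0 := by
      rw [altT, twEuler_of_isZero k hR (isZero_kernel_of_mono f₁), map_zero]
    haveI : Epi g₁ := hS₁.epi_g
    have ec : cokernel f₁ ≅ Pic13.twistOn k i G 1 :=
      IsColimit.coconePointUniqueUpToIso (cokernelIsCokernel f₁) hS₁.gIsCokernel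
    obtain ⟨e0⟩ := nonempty_twist_zero i F
    rw [hker, altT_iso k R ec, show (1 : ℤ) - 1 = 0 by norm_num, altT_iso k R e0] at hmap
    have key : altT k (Fin.cons (OX i 1) R) F = altT k R (Pic13.twistOn k i G 1) := by
      rw [altT_cons]
      show altT k R (Pic13.twistOn k i F 1) - altT k R F = _
      linarith
    rw [show (Fin.cons L fun _ : Fin (r + 1) => OX i 1 : Fin (r + 2) → X.Modules) =
      Fin.cons L (Fin.cons (OX i 1) fun _ : Fin r => OX i 1) from
        congrArg (fun R' : Fin (r + 1) → X.Modules => (Fin.cons L R' : Fin (r + 2) → X.Modules))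
          (funext fun l => Fin.cases rfl (fun _ => rfl) l), altT_swap, key]
    exact hC L hL

variable (hi : i ≫ CohB1.ProjSpace.toSpec n k = X ↘ Spec (CommRingCat.of k)) [IsIntegral X]

include hi

/-- The surface case. -/
theorem isBounded_DQ_zero (hd : topologicalKrullDim X = (2 : ℕ)) (B : ℚ) :
    Pic13.IsBounded k X (fun L => DQ k i 0 B L) := by
  classical
  haveI := Groth.L21.RR.isNoetherian_of_proper (X := X) k
  have hH : CohB1.IsAmple (OX i 1) := isAmple_OX_one i
  have hdim := hd.le
  have hh : 0 < ii k (OX i 1) (OX i 1) := ii_ample_pos k hdim hd hH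
  have hdg : ∀ L, dg k 0 (OX i 1) L = ii k L (OX i 1) := fun L => rfl
  have hpr : ∀ A A' : X.Modules, pr k 0 (OX i 1) A A' = ii k A A' := fun A A' =>
    congrArg (fun R : Fin 1 → X.Modules => altT k (Fin.cons A R) (Coh.structureModule X))
      (funext fun l => Fin.cases rfl (fun j => j.elim0) l)
  refine isBounded_of_small k i hi hdim _ (fun L hL => hL.1) ?_ ?_ ?_
  · intro Z z _ _
    haveI : IsLocallyNoetherian Z := LocallyOfFiniteType.isLocallyNoetherian z
    by_cases hη : z (genericPoint Z) = genericPoint X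
    · haveI : Surjective z := ⟨fun x => by
        have h : x ∈ closure ({genericPoint X} : Set X) := by rw [(genericPoint_spec X).def]; trivial
        exact closure_minimal (Set.singleton_subset_iff.2 (show genericPoint X ∈ Set.range z from ⟨_, hη⟩))
          z.isClosedEmbedding.isClosed_range h⟩
      haveI : IsIso z := isIso_of_isClosedImmersion_of_surjective z
      obtain ⟨eO⟩ := Groth.L16.Rees.ClosedFibre.nonempty_push_structure z
      obtain ⟨J, hJ⟩ := exists_nat_gt (B / ii k (OX i 1) (OX i 1))
      rw [div_lt_iff₀ hh] at hJ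
      refine ⟨-(J : ℤ), 0, fun L hL => ?_⟩
      let E := CohB1.tensorMod L (OX i (-(J : ℤ)))
      have hE : PicF.IsInvertible E := isInvertible_tensor hL.1 (isInvertible_OX i _)
      rw [h0_iso k (show Pic13.twistOn k i (CohB1.tensorMod ((Coh.push z).obj (Coh.structureModule Z)) L) (-(J : ℤ)) ≅
        E from tensorIso (tensorIso eO.symm (Iso.refl L) ≪≫ tensorUnitLeft L) (Iso.refl _))]
      refine le_of_not_gt fun hpos => ?_
      obtain ⟨s, hs⟩ := exists_nonzero_of_h0 k hpos
      have hneg : ii k E (OX i 1) < 0 := by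
        obtain ⟨ea⟩ := nonempty_OX_add i (show -(J : ℤ) + J = (0 : ℤ) by omega)
        obtain ⟨e0⟩ := nonempty_OX_zero i
        obtain ⟨eJ⟩ := nonempty_pow_OX i J
        have h1 : ii k (CohB1.tensorMod (OX i (-(J : ℤ))) (CohB1.tensorPow (OX i 1) J)) (OX i 1) = 0 :=
          (ii_congr k (tensorIso (Iso.refl _) eJ ≪≫ ea ≪≫ e0) _).trans (altT_unit k _)
        rw [ii_tensor k hdim (isInvertible_OX i _) (isInvertible_tensorPow (isInvertible_OX i 1) J)
          (isInvertible_OX i 1), ii_pow k hdim (isInvertible_OX i 1) (isInvertible_OX i 1)] at h1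
        rw [ii_tensor k hdim hL.1 (isInvertible_OX i _) (isInvertible_OX i 1)]
        have h2 := (abs_le.1 (hdg L ▸ hL.2.1)).2
        linarith
      rcases ii_effective k hdim hE hH s hs with h | h
      · linarith
      · linarith [h _ (isInvertible_OX i 1)]
    · -- a curve or a point
      have hdz : topologicalKrullDim (closure ({z (genericPoint Z)} : Set X)) ≤ ((1 : ℕ) : WithBot ℕ∞) :=
        dim_le_of_generic_notMem isClosed_closure (fun h => hη ((specializes_iff_mem_closure.2 h).antisymm
          ((genericPoint_spec X).specializes trivial)).eq) hdim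
      rw [dim_closure_image z] at hdz
      have huniq : ∀ y : Z, topologicalKrullDim (closure ({y} : Set Z)) = (1 : ℕ) → y = genericPoint Z := fun y hy =>
        Groth.L07.EquidimQF.eq_genericPoint_of_dim_le hdz hy.ge
      by_cases h1 : topologicalKrullDim (closure ({z (genericPoint Z)} : Set X)) = ((1 : ℕ) : WithBot ℕ∞)
      · obtain ⟨C, hC⟩ := deg_bound_surface k hd (isInvertible_OX i 1) hh _ h1 B
        have hd1 : 0 < altT k (fun _ : Fin 1 => OX i 1) (ClSub.quotMod (pt (z (genericPoint Z)))) := by
          obtain ⟨H', -, e⟩ := Groth.L08.Cube.exists_inverse (isInvertible_OX i 1)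
          obtain ⟨hc, hs, hlen⟩ := pt_facts (z (genericPoint Z))
          refine (mixed k (fun _ : Fin 1 => OX i 1) (fun _ => H') (fun _ => hH) (fun _ => e) hc
            ((topologicalKrullDim_set_mono hs).trans h1.le)).2.2 (le_antisymm
              ((topologicalKrullDim_set_mono hs).trans h1.le) (h1.ge.trans ?_))
          refine topologicalKrullDim_set_mono (closure_minimal (Set.singleton_subset_iff.2 ?_)
            (CohSupport.isClosed_support _ hc.2))
          exact fun hsub => by
            rw [(CohSupport.len_eq_zero_iff _ _).2 (fun h => h hsub)] at hlen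
            exact zero_ne_one hlen
        obtain ⟨J, hJ⟩ := exists_nat_gt (C / altT k (fun _ : Fin 1 => OX i 1) (ClSub.quotMod (pt (z (genericPoint Z)))))
        rw [div_lt_iff₀ hd1] at hJ
        refine ⟨-(J : ℤ), _, fun L hL => h0_push_le k i z hL.1 (-(J : ℤ)) fun y hy => ?_⟩
        rw [huniq y hy]
        obtain ⟨ea⟩ := nonempty_OX_add i (show -(J : ℤ) + J = (0 : ℤ) by omega)
        obtain ⟨e0⟩ := nonempty_OX_zero i
        obtain ⟨eJ⟩ := nonempty_pow_OX i J
        have hc := (pt_facts (z (genericPoint Z))).1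
        have hcd : topologicalKrullDim (CohB1.support (ClSub.quotMod (pt (z (genericPoint Z))))) ≤ (0 + 1 : ℕ) :=
          (topologicalKrullDim_set_mono (pt_facts (z (genericPoint Z))).2.1).trans h1.le
        have h2 := Groth.L02.Num.deg_tensor (k := k) (isInvertible_OX i (-(J : ℤ)))
          (isInvertible_tensorPow (isInvertible_OX i 1) J) _ h1
        rw [altT_congr k (fun _ => ⟨tensorIso (Iso.refl _) eJ ≪≫ ea ≪≫ e0⟩), Groth.L02.Num.deg_unit] at h2
        have h3 := altT_pow k (L := fun l : Fin 0 => l.elim0) (fun l => l.elim0) (isInvertible_OX i 1) hc hcd J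
        have hc1 : ∀ A : X.Modules, (Fin.cons A (fun l : Fin 0 => l.elim0) : Fin 1 → X.Modules) = fun _ => A :=
          fun A => funext fun l => Fin.cases rfl (fun j => j.elim0) l
        rw [hc1, hc1] at h3
        rw [Groth.L02.Num.deg_tensor hL.1 (isInvertible_OX i _) _ h1]
        have h4 := (abs_le.1 (hC L hL.1 (hdg L ▸ hL.2.1) (hpr L L ▸ hL.2.2))).2
        linarith
      · refine ⟨0, _, fun L hL => h0_push_le k i z hL.1 0 fun y hy => absurd ?_ h1⟩
        rw [← huniq y hy, dim_closure_map z.isClosedEmbedding, hy]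
  · rintro L ⟨hL, hl, hq⟩
    obtain ⟨L', hL', ⟨e⟩⟩ := Groth.L08.Cube.exists_inverse hL
    refine ⟨L', ⟨hL', ?_, ?_⟩, ⟨e⟩⟩
    · rw [← pr_H k, pr_inv k hdim (isInvertible_OX i 1) hL hL' (isInvertible_OX i 1) e, abs_neg, pr_H]
      exact hl
    · rw [pr_inv k hdim (isInvertible_OX i 1) hL hL' hL' e, pr_comm,
        pr_inv k hdim (isInvertible_OX i 1) hL hL' hL e, neg_neg]
      exact hq
  · intro F hF hF2
    refine ⟨((CohSupport.len (genericPoint X) F).toNat : ℚ) * (|B| + B ^ 2 / ii k (OX i 1) (OX i 1)),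
      fun L L' hL hL' ⟨e⟩ => ?_⟩
    have hηd : topologicalKrullDim (closure ({genericPoint X} : Set X)) = (2 : ℕ) := by
      rw [(genericPoint_spec X).def, ← hd]
      exact IsHomeomorph.topologicalKrullDim_eq _ (Homeomorph.Set.univ X).isHomeomorph
    have hinv : ∀ l : Fin 2, PicF.IsInvertible
        ((Fin.cons L (Fin.cons L' (fun e : Fin 0 => e.elim0)) : Fin 2 → X.Modules) l) :=
      Fin.cases hL.1 (Fin.cases hL'.1 fun e => e.elim0)
    have h1 : q2 k L L' F = ((CohSupport.len (genericPoint X) F).toNat : ℚ) * - ii k L L := by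
      rw [q2, altT_eq_len k hinv hηd hF (fun x _ => by rw [(genericPoint_spec X).def]; trivial),
        altT_integral k hd hinv]
      congr 1
      rw [show (Fin.cons L' (fun e : Fin 0 => e.elim0) : Fin 1 → X.Modules) = fun _ => L' from
        funext fun l => Fin.cases rfl (fun j => j.elim0) l]
      show ii k L L' = _
      rw [ii_comm, ← hpr, ← hpr, pr_inv k hdim (isInvertible_OX i 1) hL.1 hL'.1 hL.1 e]
    rw [h1, abs_mul, Nat.abs_cast, abs_neg]
    refine mul_le_mul_of_nonneg_left (abs_le.2 ⟨?_, ?_⟩) (Nat.cast_nonneg _)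
    · have := hpr L L ▸ hL.2.2
      have := le_abs_self B
      have : 0 ≤ B ^ 2 / ii k (OX i 1) (OX i 1) := by positivity
      linarith
    · have h2 := ii_index k hd hH.1 hL.1 hh
      have h3 := abs_le.1 (hdg L ▸ hL.2.1)
      have h4 := (le_div_iff₀ hh).2 (h2.trans (sq_le_sq' h3.1 h3.2))
      linarith [abs_nonneg B]

end Steps

/-- Bounded degree and self-intersection bounded below give a bounded family. -/
theorem isBounded_DQ : ∀ (s : ℕ) (X : Scheme.{u}) [X.Over (Spec (CommRingCat.of k))]
    [IsProper (X ↘ Spec (CommRingCat.of k))] [IsIntegral X] {n : ℕ} (i : X ⟶ CohB1.ProjSpace n k) [IsClosedImmersion i],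
    i ≫ CohB1.ProjSpace.toSpec n k = X ↘ Spec (CommRingCat.of k) →
    topologicalKrullDim X = ((s + 2 : ℕ) : WithBot ℕ∞) → ∀ B : ℚ, Pic13.IsBounded k X (fun L => DQ k i s B L) := by
  intro s
  induction s with
  | zero => exact fun X _ _ _ n i _ hi hd B => isBounded_DQ_zero k i hi hd B
  | succ s ih =>
    intro X _ _ _ n i _ hi hd B
    classical
    haveI := Groth.L21.RR.isNoetherian_of_proper (X := X) k
    let H := OX i 1
    have hH : CohB1.IsAmple H := isAmple_OX_one i
    obtain ⟨φ, hφ⟩ := exists_section_avoiding i (S := {genericPoint X}) (Set.finite_singleton _)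
    have hη : genericPoint X ∈ CohB1.genLocus H φ := hφ rfl
    haveI : Mono φ := Groth.L22.Nakai.mono_of_injective (Groth.L18.Ample.isInvertible_structureModule _) φ
      (bijective_stalk_section φ hη).1
    obtain ⟨hD, hDη⟩ := cokernel_facts k (Groth.L18.Ample.isInvertible_structureModule _) hH.1 φ
    haveI : Coh.IsQCoh H := (Groth.L18.Ample.isCoh_of_isInvertible hH.1).1
    have hsupp : ∀ x, x ∈ CohB1.support (cokernel φ) ↔ x ∉ CohB1.genLocus H φ := fun x => by
      rw [← not_iff_not, not_not, Groth.L21.RR.mem_genLocus_iff hH.1, notMem_support_cokernel_iff]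
      rfl
    have hT := CohSupport.isClosed_support (cokernel φ) hD.2
    have hTd : topologicalKrullDim (CohB1.support (cokernel φ)) ≤ ((s + 2 : ℕ) : WithBot ℕ∞) :=
      dim_le_of_generic_notMem hT hDη hd.le
    have hmaxd : ∀ w ∈ CohB1.support (cokernel φ), (∀ w' ∈ CohB1.support (cokernel φ), w' ⤳ w → w' = w) →
        topologicalKrullDim (closure ({w} : Set X)) = ((s + 2 : ℕ) : WithBot ℕ∞) := by
      intro w hw hmax
      obtain ⟨r, hr, hr'⟩ := dim_closure_eq_add_one k hH.1 φ (y := genericPoint X) (z := w) hη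
        (by rw [(genericPoint_spec X).def]; trivial) ((hsupp w).1 hw)
        (fun w' _ hw' h => hmax w' ((hsupp w').2 hw') h)
      rw [(genericPoint_spec X).def,
        IsHomeomorph.topologicalKrullDim_eq _ (Homeomorph.Set.univ X).isHomeomorph, hd] at hr'
      have : s + 1 + 2 = r + 1 := by exact_mod_cast hr'
      rw [hr, show r = s + 2 by omega]
    let S := (finite_top hT hTd).toFinset
    have hS : ∀ x, x ∈ S ↔ x ∈ CohB1.support (cokernel φ) ∧
        topologicalKrullDim (closure ({x} : Set X)) = ((s + 2 : ℕ) : WithBot ℕ∞) := fun x => Set.Finite.mem_toFinset _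
    -- the degrees on curves
    let P : X.Modules → Prop := fun L => DQ k i (s + 1) B L
    have hcurve : ∀ y : X, topologicalKrullDim (closure ({y} : Set X)) = (1 : ℕ) →
        ∃ C : ℚ, ∀ L, P L → |altT k (fun _ : Fin 1 => L) (ClSub.quotMod (pt y))| ≤ C := fun y hy => by
      obtain ⟨C, hC⟩ := degB (s + 1) k X hd H hH y hy B
      exact ⟨C, fun L hL => hC L hL.1 hL.2.1 hL.2.2⟩
    refine isBounded_of_detect k (ι := {c : X // c ∈ S}) (fun c => (pt c.1).subscheme) (fun c => (pt c.1).subschemeι)
      (fun L hL h => ?_) P (fun L hL => hL.1) fun c => ?_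
    · refine numZero_of_restrict k hH φ ?_ hL fun y hy hyd => ?_
      · -- components of the hyperplane section
        intro Z₁ hZ₁ C₁ hC₁
        let w := (PicF2.zeroScheme H φ).subschemeι
        have hrange : Set.range w = CohB1.support (cokernel φ) := by
          rw [show Set.range w = (CohB1.genLocus H φ : Set X)ᶜ from by
            rw [← Groth.L22.ZeroScheme.support_zeroScheme hH.1 φ]
            exact Scheme.IdealSheafData.range_subschemeι _]
          exact Set.ext fun x => (hsupp x).symm
        obtain rfl : Z₁ = Set.univ := Set.eq_univ_of_univ_subset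
          (hZ₁.2 (IrreducibleSpace.isIrreducible_univ _) (Set.subset_univ _))
        have hSc : IsClosed (Set.univ ∩ Set.range w.base) := isClosed_univ.inter w.isClosedEmbedding.isClosed_range
        have hCi : IsIrreducible (Subtype.val '' C₁) := hC₁.1.image _ continuous_subtype_val.continuousOn
        have hCc : IsClosed (Subtype.val '' C₁) :=
          hSc.isClosedMap_subtype_val _ (isClosed_of_mem_irreducibleComponents C₁ hC₁)
        obtain ⟨c, hc⟩ := QuasiSober.sober hCi hCc
        obtain ⟨c₁, hc₁C, hc₁⟩ : c ∈ Subtype.val '' C₁ := hc.def ▸ subset_closure rfl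
        have hcS : c ∈ CohB1.support (cokernel φ) := hrange ▸ (hc₁ ▸ c₁.2.2 : c ∈ Set.range w)
        have hcmax : ∀ b ∈ CohB1.support (cokernel φ), b ⤳ c → b = c := fun b hb hbc => by
          have hbS : b ∈ Set.univ ∩ Set.range w.base := ⟨trivial, show b ∈ Set.range w from hrange ▸ hb⟩
          have hD' : IsIrreducible ((Subtype.val : ↥(Set.univ ∩ Set.range w.base) → X) ⁻¹' closure ({b} : Set X)) := by
            have : ((Subtype.val : ↥(Set.univ ∩ Set.range w.base) → X) ⁻¹' closure ({b} : Set X)) =
                closure {⟨b, hbS⟩} := by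
              rw [(Topology.IsInducing.subtypeVal (t := Set.univ ∩ Set.range w.base)).closure_eq_preimage_closure_image
                {⟨b, hbS⟩}, Set.image_singleton]
            rw [this]
            exact isIrreducible_singleton.closure
          have hle : C₁ ⊆ (Subtype.val : ↥(Set.univ ∩ Set.range w.base) → X) ⁻¹' closure ({b} : Set X) := fun x hx =>
            closure_minimal (Set.singleton_subset_iff.2 (specializes_iff_mem_closure.1 hbc)) isClosed_closure
              (show x.1 ∈ closure {c} from hc.def ▸ ⟨x, hx, rfl⟩)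
          have h3 : b ∈ closure ({c} : Set X) :=
            hc.def ▸ (show b ∈ Subtype.val '' C₁ from ⟨⟨b, hbS⟩, hC₁.2 hD' hle (subset_closure rfl), rfl⟩)
          exact (hbc.antisymm (specializes_iff_mem_closure.2 h3)).eq
        rw [IsHomeomorph.topologicalKrullDim_eq _ (Topology.IsEmbedding.subtypeVal.homeomorphImage C₁).isHomeomorph,
          show Subtype.val '' C₁ = closure {c} from hc.def.symm, hmaxd c hcS hcmax]
        exact_mod_cast (show 2 ≤ s + 2 by omega)
      · obtain ⟨w, hw, hwy, hwmax⟩ := exists_max_in_closed hT ((hsupp y).2 hy)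
        obtain ⟨y', rfl⟩ : y ∈ Set.range (pt w).subschemeι := by
          rw [range_pt]; exact specializes_iff_mem_closure.1 hwy
        exact h ⟨w, (hS w).2 ⟨hw, hmaxd w hw hwmax⟩⟩ y' hyd
    obtain ⟨hcT, hcd⟩ := (hS c.1).1 c.2
    let z := (pt c.1).subschemeι
    let Z := (pt c.1).subscheme
    haveI : IsIntegral Z := isIntegral_pt _
    letI : Z.Over (Spec (CommRingCat.of k)) := ⟨z ≫ (X ↘ Spec (CommRingCat.of k))⟩
    haveI : IsProper (Z ↘ Spec (CommRingCat.of k)) :=
      inferInstanceAs (IsProper (z ≫ (X ↘ Spec (CommRingCat.of k))))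
    have hdZ : topologicalKrullDim Z = ((s + 2 : ℕ) : WithBot ℕ∞) := by
      rw [← dim_closure_image z, genericPoint_pt, hcd]
    haveI : IsClosedImmersion (z ≫ i) := inferInstance
    have eH : (Scheme.Modules.pullback z).obj H ≅ OX (z ≫ i) 1 :=
      (Scheme.Modules.pullbackComp z i).app _
    -- the restrictions satisfy the same bounds
    have hrest : ∀ (d : X) (hd' : d ∈ S) (r : ℕ) (R : Fin r → X.Modules), (∀ l, PicF.IsInvertible (R l)) →
        r = s + 2 → altT k R (ClSub.quotMod (pt d)) =
          letI : (pt d).subscheme.Over (Spec (CommRingCat.of k)) := ⟨(pt d).subschemeι ≫ (X ↘ Spec (CommRingCat.of k))⟩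
          altT k (fun l => (Scheme.Modules.pullback (pt d).subschemeι).obj (R l)) (Coh.structureModule (pt d).subscheme) := by
      intro d hd' r R hR hr
      subst hr
      letI : (pt d).subscheme.Over (Spec (CommRingCat.of k)) := ⟨(pt d).subschemeι ≫ (X ↘ Spec (CommRingCat.of k))⟩
      haveI : IsIntegral (pt d).subscheme := isIntegral_pt _
      haveI : IsProper ((pt d).subscheme ↘ Spec (CommRingCat.of k)) :=
        inferInstanceAs (IsProper ((pt d).subschemeι ≫ (X ↘ Spec (CommRingCat.of k))))
      have h := altT_push_eq k (pt d).subschemeι rfl (r := s + 2)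
        (by rw [← dim_closure_image (pt d).subschemeι, genericPoint_pt, ((hS d).1 hd').2]) (L := R) hR
      rw [genericPoint_pt] at h
      exact h.symm
    obtain ⟨C₁, hC₁⟩ := bounded_deg_of_curves k i P (fun L hL => hL.1) hcurve (s + 1) _ (pt_facts c.1).1
      ((topologicalKrullDim_set_mono (pt_facts c.1).2.1).trans hcd.le)
    choose C hC using fun d : X => bounded_deg_of_curves k i P (fun L hL => hL.1) hcurve (s + 1) _ (pt_facts d).1
    -- upper bounds on every component
    have hup : ∀ d ∈ S, ∃ U : ℚ, ∀ L, P L →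
        altT k (Fin.cons L (Fin.cons L fun _ : Fin s => H)) (ClSub.quotMod (pt d)) ≤ U := by
      intro d hd'
      letI : (pt d).subscheme.Over (Spec (CommRingCat.of k)) := ⟨(pt d).subschemeι ≫ (X ↘ Spec (CommRingCat.of k))⟩
      haveI : IsIntegral (pt d).subscheme := isIntegral_pt _
      haveI : IsProper ((pt d).subscheme ↘ Spec (CommRingCat.of k)) :=
        inferInstanceAs (IsProper ((pt d).subschemeι ≫ (X ↘ Spec (CommRingCat.of k))))
      let p := Scheme.Modules.pullback (pt d).subschemeι
      have hdd := ((hS d).1 hd').2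
      have hHd : CohB1.IsAmple (p.obj H) := Groth.L18.Ample.isAmple_pullback_of_isAffineHom _ hH
      have hdd' : topologicalKrullDim (pt d).subscheme = ((s + 2 : ℕ) : WithBot ℕ∞) := by
        rw [← dim_closure_image (pt d).subschemeι, genericPoint_pt, hdd]
      have hpos : 0 < pr k s (p.obj H) (p.obj H) (p.obj H) := by
        rw [pr_H, dg, show (Fin.cons (p.obj H) (fun _ : Fin (s + 1) => p.obj H) : Fin (s + 2) → _) = fun _ => p.obj H
          from funext fun l => Fin.cases rfl (fun _ => rfl) l]
        exact altT_ample_pos k hHd hdd'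
      refine ⟨C d ((topologicalKrullDim_set_mono (pt_facts d).2.1).trans hdd.le) ^ 2 /
        pr k s (p.obj H) (p.obj H) (p.obj H), fun L hL => ?_⟩
      rw [hrest d hd' _ _ (Fin.cases (by simpa using hL.1) (Fin.cases (by simpa using hL.1) fun _ => by simpa using hH.1)) rfl,
        le_div_iff₀ hpos]
      have e1 : (fun l => p.obj ((Fin.cons L (Fin.cons L fun _ : Fin s => H) : Fin (s + 2) → X.Modules) l)) =
          Fin.cons (p.obj L) (Fin.cons (p.obj L) fun _ => p.obj H) :=
        funext fun l => Fin.cases rfl (fun l => Fin.cases rfl (fun _ => rfl) l) l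
      have e2 : (fun l => p.obj ((Fin.cons L fun _ : Fin (s + 1) => H : Fin (s + 2) → X.Modules) l)) =
          Fin.cons (p.obj L) fun _ => p.obj H := funext fun l => Fin.cases rfl (fun _ => rfl) l
      rw [e1]
      refine (pr_le k hdd' hHd (isInvertible_pullback _ hL.1)).trans ?_
      have h := hC d ((topologicalKrullDim_set_mono (pt_facts d).2.1).trans hdd.le) L hL
      rw [hrest d hd' _ _ (Fin.cases (by simpa using hL.1) fun _ => by simpa using hH.1) rfl, e2] at h
      exact sq_le_sq' (abs_le.1 h).1 (abs_le.1 h).2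
    choose! U hU using hup
    have hlen : (1 : ℚ) ≤ ((CohSupport.len c.1 (cokernel φ)).toNat : ℚ) := by
      have : 0 < (CohSupport.len c.1 (cokernel φ)).toNat := by
        refine Nat.pos_of_ne_zero fun h => ?_
        rcases ENat.toNat_eq_zero.1 h with h | h
        · exact (CohSupport.len_eq_zero_iff _ _).1 h hcT
        · exact CohSupport.len_ne_top hD (fun z hz hzx => eq_of_specializes_top hT hTd hcd hz hzx) h
      exact_mod_cast this
    have hlow : ∀ L, P L → -(|B| + ∑ d ∈ S, ((CohSupport.len d (cokernel φ)).toNat : ℚ) * |U d|) ≤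
        altT k (Fin.cons L (Fin.cons L fun _ : Fin s => H)) (ClSub.quotMod (pt c.1)) := by
      intro L hL
      have hR : ∀ l, PicF.IsInvertible ((Fin.cons L (Fin.cons L fun _ : Fin s => H) : Fin (s + 2) → X.Modules) l) :=
        Fin.cases (by simpa using hL.1) (Fin.cases (by simpa using hL.1) fun _ => by simpa using hH.1)
      refine term_lower (S := S) (fun d => ((CohSupport.len d (cokernel φ)).toNat : ℚ))
        (fun d => altT k (Fin.cons L (Fin.cons L fun _ : Fin s => H)) (ClSub.quotMod (pt d))) U
        (fun d => Nat.cast_nonneg _) ?_ hL.2.2 (fun d hd' => hU d hd' L hL) c.2 hlen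
      exact ((altT_eq_sum k hR hT hTd S hS (fun d => ClSub.quotMod (pt d)) (fun d _ => pt_facts d) hD subset_rfl).symm.trans
        (altT_cons_coker k hH.1 hR φ).symm).trans (pr_succ k s H L)
    let B' : ℚ := max C₁ (|B| + ∑ d ∈ S, ((CohSupport.len d (cokernel φ)).toNat : ℚ) * |U d|)
    obtain ⟨T, q, h1, h2, G, hG, hmem⟩ := ih Z (z ≫ i) (by rw [Category.assoc, hi]; rfl) hdZ B'
    refine ⟨T, q, h1, h2, G, hG, fun M hM => hmem M ?_⟩
    obtain ⟨L, hL, ⟨eM⟩⟩ := hM
    let p := Scheme.Modules.pullback z
    refine ⟨Groth.L18.Ample.isInvertible_of_iso eM (isInvertible_pullback z hL.1), ?_, ?_⟩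
    · have h := hC₁ L hL
      rw [hrest c.1 c.2 _ _ (Fin.cases (by simpa using hL.1) fun _ => by simpa using hH.1) rfl] at h
      refine le_trans (le_of_eq ?_) (h.trans (le_max_left _ _))
      refine congrArg abs (Groth.L22.Nef.altT_congr k (Fin.cases ⟨eM.symm⟩ fun _ => ⟨eH.symm⟩) _)
    · refine le_trans (neg_le_neg (le_max_right _ _)) ((hlow L hL).trans (le_of_eq ?_))
      rw [hrest c.1 c.2 _ _ (Fin.cases (by simpa using hL.1) (Fin.cases (by simpa using hL.1) fun _ => by simpa using hH.1)) rfl]
      exact Groth.L22.Nef.altT_congr k (Fin.cases ⟨eM⟩ (Fin.cases ⟨eM⟩ fun _ => ⟨eH⟩)) _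

end Groth.L11.Bdd
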