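import Groth.Agent.L11.Bdd.HomKer
import Groth.Agent.L11.NumOrth.Proper
import Groth.Agent.L07.PrimaryDecomp
import Groth.Agent.L22.EnrSev.Mult
import Groth.Agent.L02.Quot.PullStk
import Groth.Agent.L16.SchSupport

/-!
# Coherent modules embed into direct images from projective schemes
-/

set_option autoImplicit false
set_option backward.isDefEq.respectTransparency false
set_option backward.isDefEq.respectTransparency.types false
set_option linter.style.haveILetI false
set_option linter.unusedSectionVars false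

universe u

open CategoryTheory CategoryTheory.Limits AlgebraicGeometry TopologicalSpace

noncomputable section

namespace Groth.L11.Bdd

open Groth.L18.Frame (rs pull)
open Groth.L21.RR (st st_germ)

/-- A projective scheme over `X`. -/
structure PP (k : Type u) [Field k] (X : Scheme.{u}) [X.Over (Spec (CommRingCat.of k))] where
  /-- the scheme -/
  W : Scheme.{u}
  /-- the map -/
  g : W ⟶ X
  /-- the dimension of the projective space -/
  n : ℕ
  /-- the embedding -/
  i : W ⟶ CohB1.ProjSpace n k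
  closed : IsClosedImmersion i
  hi : i ≫ CohB1.ProjSpace.toSpec n k = g ≫ (X ↘ Spec (CommRingCat.of k))
  proper : IsProper g

variable {k : Type u} [Field k] {X : Scheme.{u}} [X.Over (Spec (CommRingCat.of k))]

instance (D : PP k X) : D.W.Over (Spec (CommRingCat.of k)) := ⟨D.g ≫ (X ↘ Spec (CommRingCat.of k))⟩

/-- The map as a morphism over the field. -/
def PP.map (D : PP k X) : KMap k D.W X := ⟨D.g, rfl⟩

variable [IsProper (X ↘ Spec (CommRingCat.of k))]

instance (D : PP k X) : IsProper (D.W ↘ Spec (CommRingCat.of k)) :=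
  haveI := D.proper
  inferInstanceAs (IsProper (D.g ≫ (X ↘ Spec (CommRingCat.of k))))

theorem PP.exists_ample (D : PP k X) : ∃ O : D.W.Modules, CohB1.IsAmple O := by
  haveI := D.closed
  exact ⟨_, Groth.L18.Ample.isAmple_pullback_of_isAffineHom D.i (Groth.L22.VeryAmple.isAmple_O1 D.n k)⟩

/-- A module whose only associated point lies where a map is a local isomorphism embeds in the direct image. -/
theorem mono_unit_of_ass {Y Z : Scheme.{u}} [IsLocallyNoetherian Z] (f : Y ⟶ Z) {G : Z.Modules} (hG : Coh.IsCoh G)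
    (h : ∀ x, Curv2.IsAssPoint G x → ∃ w, f w = x ∧ Function.Surjective (f.stalkMap w) ∧ ∀ r, f.stalkMap w r = 0 → ∀ m : G.presheaf.stalk (f w), r • m = 0) :
    Mono ((Scheme.Modules.pullbackPushforwardAdjunction f).unit.app G) := by
  haveI : Coh.IsQCoh G := hG.1
  let P := (Scheme.Modules.pushforward f).obj ((Scheme.Modules.pullback f).obj G)
  let η : G ⟶ P := (Scheme.Modules.pullbackPushforwardAdjunction f).unit.app G
  show Mono η
  refine Groth.L22.EnrSev.mono_of_injective_ass _ fun x hx => (injective_iff_map_eq_zero _).2 fun v hv => ?_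
  obtain ⟨w, rfl, hsurj, hw⟩ := h x hx
  obtain ⟨V, hxV, s, rfl⟩ := TopCat.Presheaf.exists_germ_eq G.presheaf v
  rw [st_germ] at hv
  replace hv : P.presheaf.germ V (f w) hxV (η.app V s) = P.presheaf.germ V (f w) hxV 0 := hv.trans (map_zero _).symm
  obtain ⟨V', hxV', i₁, i₂, hV'⟩ := TopCat.Presheaf.germ_eq P.presheaf (f w) hxV hxV _ _ hv
  rw [map_zero] at hV'
  have h0 : pull f G V' (rs G i₁.le s) = 0 :=
    (congr($(η.mapPresheaf.naturality (homOfLE i₁.le).op) s)).trans hV'
  have h1 : Groth.L02.Quot.τ f G w (G.presheaf.germ V' (f w) hxV' (rs G i₁.le s)) = 0 := by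
    rw [Groth.L02.Quot.τ_germ f G w hxV', h0, map_zero]
  rw [Groth.L20.ModStalk.germ_rs G i₁.le hxV' s] at h1
  let z : G.presheaf.stalk (f w) := G.presheaf.germ V (f w) hxV s
  have h2 := (Groth.L02.Quot.τ_eq_zero_iff f G w hsurj z).1 h1
  exact (Submodule.mem_bot (Z.presheaf.stalk (f w))).1
    (Submodule.smul_le.2 (fun r hr m _ => (Submodule.mem_bot _).2 (hw r hr m)) h2)

/-- A coherent module with a single associated point embeds in a direct image from a projective scheme. -/
theorem exists_embed_irreducible {G : X.Modules} (hG : Coh.IsCoh G) {x : X} (hx : AssSch.Ass G = {x}) :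
    ∃ (D : PP k X) (N : D.W.Modules) (u : G ⟶ (Scheme.Modules.pushforward D.g).obj N), Coh.IsCoh N ∧ Mono u := by
  haveI := Groth.L21.RR.isNoetherian_of_proper (X := X) k
  haveI : Coh.IsQCoh G := hG.1
  let I := Groth.L16.SchSupport.annIdeal hG
  let Z := I.subscheme
  let z := I.subschemeι
  obtain ⟨N, W, π, j, hj, hjπ, hπ, hsurj, U, hU, hUiso⟩ :=
    Groth.L16.Chow.exists_chow_dense (z ≫ (X ↘ Spec (CommRingCat.of k)))
  haveI := hj; haveI := hπ; haveI := hUiso; haveI := hsurj
  haveI : IsProper j := by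
    haveI : IsProper (j ≫ CohB1.ProjSpaceOver.toBase N (Spec (CommRingCat.of k))) := by rw [hjπ]; infer_instance
    haveI : IsSeparated (CohB1.ProjSpaceOver.toBase N (Spec (CommRingCat.of k))) := by
      show IsSeparated (Limits.pullback.snd _ _)
      infer_instance
    exact IsProper.of_comp j (CohB1.ProjSpaceOver.toBase N (Spec (CommRingCat.of k)))
  haveI : IsClosedImmersion j := IsClosedImmersion.of_isPreimmersion j j.isClosedMap.isClosed_range
  let D : PP k X :=
    { W := W, g := π ≫ z, n := N, i := j ≫ (Groth.L16.ProjSpace.isoOver N k).inv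
      closed := inferInstance
      hi := by
        rw [← Groth.L16.ProjSpace.isoOver_hom_toBase (n := N) (R := k), Category.assoc, Iso.inv_hom_id_assoc,
          Category.assoc]
        exact hjπ
      proper := inferInstanceAs (IsProper (π ≫ z)) }
  haveI : IsProper D.g := D.proper
  haveI : IsLocallyNoetherian D.W := LocallyOfFiniteType.isLocallyNoetherian D.g
  refine ⟨D, (Scheme.Modules.pullback D.g).obj G,
    (Scheme.Modules.pullbackPushforwardAdjunction D.g).unit.app G, Groth.L16.AffineBC.isCoh_pullback _ hG, ?_⟩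
  refine mono_unit_of_ass (π ≫ z) hG fun y hy => ?_
  obtain rfl : y = x := hx.le hy
  have hys : y ∈ CohB1.support G := fun hsub => hy.1.ne_top (by
    haveI : Subsingleton (G.presheaf.stalk y) := hsub
    obtain ⟨m, hm⟩ := hy.2
    rw [hm, show m = 0 from Subsingleton.elim _ _]
    simp)
  have hrange : Set.range z = CohB1.support G := by
    rw [Scheme.IdealSheafData.range_subschemeι]
    exact Groth.L16.SchSupport.coe_support_annIdeal hG
  obtain ⟨p, hp⟩ := hrange.ge hys
  obtain ⟨p', hp'⟩ := hU.exists_mem_open isOpen_univ ⟨p, trivial⟩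
  obtain ⟨O, hO, hOU⟩ := z.isClosedEmbedding.isInducing.isOpen_iff.1 U.2
  have hq : z p' ∈ O := (Set.ext_iff.1 hOU p').2 hp'.1
  have hqs : z p' ∈ CohB1.support G := hrange.le ⟨p', rfl⟩
  obtain ⟨V, hV, hqV, hVO⟩ := exists_isAffineOpen_mem_and_subset (U := (⟨O, hO⟩ : X.Opens)) hq
  have hyV : y ∈ V := by
    by_contra hyV
    refine hqs ⟨fun a b => ?_⟩
    have h0 : ∀ a : G.presheaf.stalk (z p'), a = 0 := fun a => by
      obtain ⟨V₁, hq₁, t, rfl⟩ := TopCat.Presheaf.exists_germ_eq G.presheaf a
      obtain ⟨V₂, hV₂, hq₂, hV₂sub⟩ := exists_isAffineOpen_mem_and_subset (U := V₁ ⊓ V) ⟨hq₁, hqV⟩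
      have h₂₁ : V₂ ≤ V₁ := fun b hb => (hV₂sub hb).1
      by_contra ha
      have ht : rs G h₂₁ t ≠ 0 := fun h0 => ha (by
        rw [← Groth.L20.ModStalk.germ_rs G h₂₁ hq₂ t, h0, map_zero])
      obtain ⟨y', hy'V, hy', -⟩ := Groth.L19.Ass.exists_ass_germ_ne_zero G hV₂ ht
      obtain rfl : y' = y := hx.le hy'
      exact hyV (hV₂sub hy'V).2
    rw [h0 a, h0 b]
  have hpU : p ∈ U := (Set.ext_iff.1 hOU p).1 (show z p ∈ O by rw [hp]; exact hVO hyV)
  obtain ⟨w, rfl⟩ := hsurj.surj p
  subst hp
  haveI : IsIso (π.stalkMap w) :=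
    ((MorphismProperty.isomorphisms _).arrow_mk_iso_iff (morphismRestrictStalkMap π U ⟨w, hpU⟩)).1
      (inferInstanceAs (IsIso ((π ∣_ U).stalkMap ⟨w, hpU⟩)))
  refine ⟨w, rfl, ?_, fun r hr m => ?_⟩
  · rw [Scheme.Hom.stalkMap_comp]
    exact (ConcreteCategory.bijective_of_isIso (π.stalkMap w)).2.comp (z.stalkMap_surjective _)
  · rw [Scheme.Hom.stalkMap_comp, ConcreteCategory.comp_apply] at hr
    exact Groth.L16.SchSupport.smul_eq_zero_of_mem_ker z (Groth.L16.SchSupport.killed_ker hG) (π w) r
      ((ConcreteCategory.bijective_of_isIso (π.stalkMap w)).1 (hr.trans (map_zero _).symm)) m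

/-- A predicate closed under sums contains a module receiving a monomorphism. -/
theorem exists_mono_closed {F : X.Modules} (hF : Coh.IsCoh F) (C : X.Modules → Prop)
    (h0 : ∀ Z : X.Modules, IsZero Z → C Z) (hsum : ∀ A B, C A → C B → C (A ⊞ B))
    (hpiece : ∀ (D : PP k X) (N : D.W.Modules), Coh.IsCoh N → C ((Scheme.Modules.pushforward D.g).obj N)) :
    ∃ (B : X.Modules) (u : F ⟶ B), C B ∧ Mono u := by
  classical
  haveI := Groth.L21.RR.isNoetherian_of_proper (X := X) k
  obtain ⟨G, q, -, hG, hass, hjoint⟩ := Groth.L07.PrimaryDecomp.exists_primary_decomposition F hF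
  choose D N u hN hu using fun y => exists_embed_irreducible (k := k) (hG y) (hass y)
  haveI : Fintype (AssSch.Ass F) := (Groth.L07.PrimaryDecomp.finite_ass F hF).fintype
  suffices h : ∀ s : Finset (AssSch.Ass F), ∃ (B : X.Modules) (w : F ⟶ B), C B ∧
      ∀ {T : X.Modules} (a : T ⟶ F), a ≫ w = 0 → ∀ y ∈ s, a ≫ q y ≫ u y = 0 by
    obtain ⟨B, w, hB, hw⟩ := h Finset.univ
    refine ⟨B, w, hB, Preadditive.mono_of_cancel_zero _ fun {T} a ha => hjoint T a 0 fun y => ?_⟩
    haveI := hu y
    rw [← cancel_mono (u y), zero_comp, zero_comp, Category.assoc]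
    exact hw a ha y (Finset.mem_univ y)
  intro s
  induction s using Finset.induction_on with
  | empty =>
    obtain ⟨Z, hZ⟩ := (inferInstance : HasZeroObject X.Modules).1
    exact ⟨Z, 0, h0 Z hZ, fun a _ y hy => absurd hy (Finset.notMem_empty y)⟩
  | insert y s _ ih =>
    obtain ⟨B, w, hB, hw⟩ := ih
    refine ⟨_, biprod.lift (q y ≫ u y) w, hsum _ _ (hpiece (D y) (N y) (hN y)) hB, fun {T} a ha y' hy' => ?_⟩
    have h1 := congrArg (· ≫ biprod.fst) ha
    have h2 := congrArg (· ≫ biprod.snd) ha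
    simp only [Category.assoc, biprod.lift_fst, biprod.lift_snd, zero_comp] at h1 h2
    rcases Finset.mem_insert.1 hy' with rfl | hy'
    · exact h1
    · exact hw a h2 y' hy'

end Groth.L11.Bdd
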