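import Groth.Agent.L29.DCoh.RelBC
import Groth.Agent.L01.FlatCx.Seq

/-!
# Kernels commute with base change when the target and the cokernel are flat over the base
-/

set_option autoImplicit false
set_option backward.isDefEq.respectTransparency false
set_option backward.isDefEq.respectTransparency.types false
set_option linter.style.haveILetI false

universe u

open CategoryTheory CategoryTheory.Limits AlgebraicGeometry TensorProduct

noncomputable section

namespace Groth.L11.Bdd.Exact

variable {X S X' S' : Scheme.{u}} {f : X ⟶ S} {f' : X' ⟶ S'} {g' : X' ⟶ X} {g : S' ⟶ S}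

/-- The first term of a short exact sequence with flat middle and quotient is flat. -/
theorem isFlatOver_X₁ {T : ShortComplex X.Modules} (hT : T.ShortExact) (h2 : FlatMod.IsFlatOver f T.X₂)
    (h3 : FlatMod.IsFlatOver f T.X₃) : FlatMod.IsFlatOver f T.X₁ := fun x => by
  let R := Groth.L00.Stk.F X x ⋙ ModuleCat.restrictScalars (f.stalkMap x).hom
  have hR : (T.map R).ShortExact := hT.map_of_exact R
  haveI : Module.Flat (S.presheaf.stalk (f x)) (T.map R).X₂ := h2 x
  haveI : Module.Flat (S.presheaf.stalk (f x)) (T.map R).X₃ := h3 x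
  exact (Groth.L01.FlatCx.flat_left hR.moduleCat_injective_f hR.moduleCat_surjective_g
    ((ShortComplex.ShortExact.moduleCat_exact_iff_function_exact _).1 hR.exact) :
      Module.Flat (S.presheaf.stalk (f x)) (R.obj T.X₁))

/-- A monomorphism with flat cokernel remains one after base change. -/
theorem mono_pullback_of_flatAt (hc : IsPullback g' f' f g) {T : ShortComplex X.Modules} (hT : T.ShortExact)
    (h3 : ∀ x' : X', FlatMod.IsFlatOverAt f T.X₃ (g' x')) : Mono ((Scheme.Modules.pullback g').map T.f) := by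
  refine (Groth.L21.Mod.mono_iff_stalk_injective _).2 fun x' => ?_
  obtain ⟨W, V, W', U, eV, eW, eU, eU', hW, hV, hW', hU, hxU, hpo⟩ := Groth.L20.ModStalk.exists_affine_square hc x'
  algebraize [(f.appLE W V eV).hom, (g.appLE W W' eW).hom, (g'.appLE V U eU).hom, (f'.appLE W' U eU').hom,
    ((g'.appLE V U eU).hom.comp (f.appLE W V eV).hom)]
  haveI : IsScalarTower Γ(S, W) Γ(S', W') Γ(X', U) := IsScalarTower.of_algebraMap_eq' (congrArg CommRingCat.Hom.hom hpo.w)
  haveI : Algebra.IsPushout Γ(S, W) Γ(X, V) Γ(S', W') Γ(X', U) := CommRingCat.isPushout_iff_isPushout.mp hpo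
  haveI : Algebra.IsPushout Γ(S, W) Γ(S', W') Γ(X, V) Γ(X', U) := Algebra.IsPushout.symm ‹_›
  have hxV : g' x' ∈ V := eU hxU
  letI := X.presheaf.algebra_section_stalk ⟨g' x', hxV⟩
  haveI hlocV := hV.isLocalization_stalk ⟨g' x', hxV⟩
  letI := X'.presheaf.algebra_section_stalk ⟨x', hxU⟩
  haveI := hU.isLocalization_stalk ⟨x', hxU⟩
  haveI : Module.Flat Γ(X', U) (X'.presheaf.stalk x') :=
    IsLocalization.flat _ (hU.primeIdealOf ⟨x', hxU⟩).asIdeal.primeCompl
  letI : Algebra (X.presheaf.stalk (g' x')) (X'.presheaf.stalk x') := (Groth.L00.PullStalk.φ g' x').toAlgebra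
  letI : Algebra Γ(X, V) (X'.presheaf.stalk x') :=
    ((algebraMap Γ(X', U) (X'.presheaf.stalk x')).comp (algebraMap Γ(X, V) Γ(X', U))).toAlgebra
  haveI : IsScalarTower Γ(X, V) Γ(X', U) (X'.presheaf.stalk x') := IsScalarTower.of_algebraMap_eq fun _ => rfl
  haveI : IsScalarTower Γ(X, V) (X.presheaf.stalk (g' x')) (X'.presheaf.stalk x') :=
    IsScalarTower.of_algebraMap_eq fun r => (Groth.L20.ModStalk.stalkMap_germ eU hxU (eU hxU) r).symm
  let χ : Γ(S, W) →+* X.presheaf.stalk (g' x') :=
    (X.presheaf.germ V (g' x') hxV).hom.comp (f.appLE W V eV).hom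
  let Sm := (hV.primeIdealOf ⟨g' x', hxV⟩).asIdeal.primeCompl
  let Fs := Groth.L00.Stk.F X (g' x')
  have hs : (T.map Fs).ShortExact := hT.map_of_exact Fs
  let M₁ := Fs.obj T.X₁
  let M₂ := Fs.obj T.X₂
  let M₃ := Fs.obj T.X₃
  letI := Module.compHom M₁ χ
  letI := Module.compHom M₂ χ
  letI := Module.compHom M₃ χ
  letI := Module.compHom M₁ (algebraMap Γ(X, V) (X.presheaf.stalk (g' x')))
  letI := Module.compHom M₂ (algebraMap Γ(X, V) (X.presheaf.stalk (g' x')))
  letI := Module.compHom M₃ (algebraMap Γ(X, V) (X.presheaf.stalk (g' x')))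
  haveI : IsScalarTower Γ(X, V) (X.presheaf.stalk (g' x')) M₁ := IsScalarTower.of_algebraMap_smul fun _ _ => rfl
  haveI : IsScalarTower Γ(X, V) (X.presheaf.stalk (g' x')) M₂ := IsScalarTower.of_algebraMap_smul fun _ _ => rfl
  haveI : IsScalarTower Γ(S, W) Γ(X, V) M₁ := IsScalarTower.of_algebraMap_smul fun _ _ => rfl
  haveI : IsScalarTower Γ(S, W) Γ(X, V) M₂ := IsScalarTower.of_algebraMap_smul fun _ _ => rfl
  haveI : Module.Flat Γ(S, W) M₃ :=
    (Groth.L20.ModStalk.isFlatOverAt_iff_sections f T.X₃ hW eV hxV).1 (h3 x')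
  let d₁ : M₁ →ₗ[Γ(S, W)] M₂ :=
    { toFun := (Fs.map T.f).hom, map_add' := map_add _, map_smul' := fun r m => map_smul (Fs.map T.f).hom (χ r) m }
  let d₂ : M₂ →ₗ[Γ(S, W)] M₃ :=
    { toFun := (Fs.map T.g).hom, map_add' := map_add _, map_smul' := fun r m => map_smul (Fs.map T.g).hom (χ r) m }
  have hr : Function.Injective (d₁.rTensor Γ(S', W')) :=
    Groth.L01.FlatCx.rTensor_injective_of_flat_quot (g := d₂) hs.moduleCat_injective_f hs.moduleCat_surjective_g
      ((ShortComplex.ShortExact.moduleCat_exact_iff_function_exact _).1 hs.exact) Γ(S', W')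
  have hl : Function.Injective (d₁.lTensor Γ(S', W')) := fun a b hab => by
    apply (TensorProduct.comm _ _ _).injective
    apply hr
    exact (LinearMap.congr_fun (LinearMap.rTensor_comp_comm d₁) a).trans
      ((congrArg (TensorProduct.comm _ _ _) hab).trans (LinearMap.congr_fun (LinearMap.rTensor_comp_comm d₁) b).symm)
  let z : PUnit.{u + 1} →ₗ[X.presheaf.stalk (g' x')] M₁ := 0
  letI := Module.compHom PUnit.{u + 1} χ
  have hexact : Function.Exact ((0 : PUnit.{u + 1} →ₗ[Γ(S, W)] M₁).lTensor Γ(S', W')) (d₁.lTensor Γ(S', W')) := by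
    intro y
    refine ⟨fun hy => ⟨0, ?_⟩, ?_⟩
    · rw [map_zero]; exact (hl (hy.trans (map_zero _).symm)).symm
    · rintro ⟨w, rfl⟩
      rw [LinearMap.lTensor_zero, LinearMap.zero_apply, map_zero]
  have h := Groth.L29.DC.RelBC.exact_lTensor_of_pushout Γ(S, W) Γ(S', W') Γ(X, V) Γ(X', U) Sm
    (X.presheaf.stalk (g' x')) (X'.presheaf.stalk x') z (Fs.map T.f).hom (0 : PUnit.{u + 1} →ₗ[Γ(S, W)] M₁) d₁
    (fun _ => rfl) (fun _ => rfl) hexact
  have hinj : Function.Injective ((ModuleCat.extendScalars (Groth.L00.PullStalk.φ g' x')).map (Fs.map T.f)) := by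
    refine (injective_iff_map_eq_zero _).2 fun y hy => ?_
    obtain ⟨w, hw⟩ := (h y).1 hy
    rw [← hw, LinearMap.lTensor_zero, LinearMap.zero_apply]

  haveI : Mono ((ModuleCat.extendScalars (Groth.L00.PullStalk.φ g' x')).map (Fs.map T.f)) :=
    (ModuleCat.mono_iff_injective _).2 hinj
  have hm : Mono ((Scheme.Modules.pullback g' ⋙ Groth.L00.Stk.F X' x').map T.f) := by
    rw [← NatIso.naturality_2 (Groth.L00.PullStalk.stalkIso g' x') T.f]
    haveI : Mono ((Fs ⋙ ModuleCat.extendScalars (Groth.L00.PullStalk.φ g' x')).map T.f) := ‹_›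
    infer_instance
  exact (ModuleCat.mono_iff_injective ((Scheme.Modules.pullback g' ⋙ Groth.L00.Stk.F X' x').map T.f)).1 hm

/-- A monomorphism with everywhere flat cokernel remains one after base change. -/
theorem mono_pullback (hc : IsPullback g' f' f g) {T : ShortComplex X.Modules} (hT : T.ShortExact)
    (h3 : FlatMod.IsFlatOver f T.X₃) : Mono ((Scheme.Modules.pullback g').map T.f) :=
  mono_pullback_of_flatAt hc hT fun x' => h3 (g' x')

/-- The kernel commutes with base change when the target and the cokernel are flat over the base. -/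
theorem pullback_kernel_iso (hc : IsPullback g' f' f g) {A G : X.Modules} (u : A ⟶ G)
    (hG : FlatMod.IsFlatOver f G) (hC : FlatMod.IsFlatOver f (cokernel u)) :
    Nonempty ((Scheme.Modules.pullback g').obj (kernel u) ≅ kernel ((Scheme.Modules.pullback g').map u)) := by
  let σ := Scheme.Modules.pullback g'
  haveI : σ.Additive := (Scheme.Modules.pullbackPushforwardAdjunction g').left_adjoint_additive
  haveI : PreservesFiniteColimits σ :=
    (Scheme.Modules.pullbackPushforwardAdjunction g').leftAdjoint_preservesColimits.{0, 0}.preservesFiniteColimits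
  let I := Abelian.image u
  let ι := Abelian.image.ι u
  let e := Abelian.factorThruImage u
  let S₂ : ShortComplex X.Modules := ShortComplex.mk ι (cokernel.π u) (kernel.condition _)
  have hS₂ : S₂.ShortExact := { exact := ShortComplex.exact_kernel _ }
  have hI : FlatMod.IsFlatOver f I := isFlatOver_X₁ hS₂ hG hC
  have he : kernel.ι u ≫ e = 0 := by
    rw [← cancel_mono ι, Category.assoc, Abelian.image.fac, kernel.condition, zero_comp]
  let S₁ : ShortComplex X.Modules := ShortComplex.mk (kernel.ι u) e he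
  have hS₁ : S₁.ShortExact := by
    refine { exact := ShortComplex.exact_of_f_is_kernel _ ?_ }
    exact KernelFork.IsLimit.ofι _ _
      (fun {Z} a ha => kernel.lift u a (by rw [← Abelian.image.fac u, reassoc_of% (show a ≫ e = 0 from ha), zero_comp]))
      (fun {Z} a ha => kernel.lift_ι _ _ _) (fun {Z} a ha m hm => by
        refine equalizer.hom_ext ?_
        exact hm.trans (kernel.lift_ι _ _ _).symm)
  haveI : Mono (σ.map ι) := mono_pullback hc hS₂ hC
  haveI : Mono (σ.map (kernel.ι u)) := mono_pullback hc hS₁ hI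
  haveI : Mono (S₁.map σ).f := ‹Mono (σ.map (kernel.ι u))›
  have h₁ : (S₁.map σ).Exact := by
    haveI := hS₁.epi_g
    exact (S₁.map σ).exact_of_g_is_cokernel
      (CokernelCofork.mapIsColimit _ hS₁.gIsCokernel σ)
  have hk : IsLimit (KernelFork.ofι (σ.map (kernel.ι u)) (by rw [← σ.map_comp, kernel.condition, σ.map_zero])) := by
    have h2 : σ.map u = σ.map e ≫ σ.map ι := by rw [← σ.map_comp, Abelian.image.fac]
    exact KernelFork.IsLimit.ofι _ _
      (fun {Z} a ha => h₁.fIsKernel.lift (KernelFork.ofι a (show a ≫ σ.map e = 0 by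
        rw [← cancel_mono (σ.map ι), Category.assoc, ← h2, ha, zero_comp])))
      (fun {Z} a ha => Fork.IsLimit.lift_ι h₁.fIsKernel)
      (fun {Z} a ha m hm => by
        refine Fork.IsLimit.hom_ext h₁.fIsKernel ?_
        rw [Fork.IsLimit.lift_ι]
        exact hm)
  exact ⟨hk.conePointUniqueUpToIso (limit.isLimit _)⟩

end Groth.L11.Bdd.Exact
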