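import Groth.Agent.L11.Bdd.Ops
import Groth.Agent.L22.PDual.TwistExt
import Groth.Agent.L18.GenLocus

/-!
# Lifting morphisms from a fibre
-/

set_option autoImplicit false
set_option backward.isDefEq.respectTransparency false
set_option backward.isDefEq.respectTransparency.types false
set_option linter.style.haveILetI false
set_option linter.unusedSectionVars false

universe u

open CategoryTheory CategoryTheory.Limits AlgebraicGeometry TopologicalSpace

noncomputable section

namespace Groth.L11.Bdd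

open Groth.L11.PicFam (res res_fst res_snd isPullback_res fibre_res isPullback_slice slice_res)
open Groth.L18.Frame (rs rs_rs rs_self pull)
open Groth.L00.Tensor (tensorRightF tensorMap)

section General

variable {Y Z : Scheme.{u}} (σ : Y ⟶ Z)

/-- Every morphism of the pullbacks comes from a morphism. -/
def Lifts (A B : Z.Modules) : Prop :=
  Function.Surjective fun φ : A ⟶ B => (Scheme.Modules.pullback σ).map φ

variable {σ}

theorem Lifts.of_iso {A A' B B' : Z.Modules} (h : Lifts σ A B) (eA : A ≅ A') (eB : B ≅ B') : Lifts σ A' B' := by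
  intro χ
  obtain ⟨φ, hφ⟩ := h ((Scheme.Modules.pullback σ).map eA.hom ≫ χ ≫ (Scheme.Modules.pullback σ).map eB.inv)
  refine ⟨eA.inv ≫ φ ≫ eB.hom, ?_⟩
  show (Scheme.Modules.pullback σ).map _ = χ
  rw [Functor.map_comp, Functor.map_comp, show (Scheme.Modules.pullback σ).map φ = _ from hφ]
  simp only [Category.assoc, ← Functor.map_comp_assoc, ← Functor.map_comp, Iso.inv_hom_id]
  erw [CategoryTheory.Functor.map_id, CategoryTheory.Functor.map_id]
  simp

/-- Lifting is kept by the tensor product with an invertible module. -/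
theorem Lifts.tensor {A B : Z.Modules} (h : Lifts σ A B) {N N' : Z.Modules}
    (e : CohB1.tensorMod N N' ≅ Coh.structureModule Z) :
    Lifts σ (CohB1.tensorMod A N) (CohB1.tensorMod B N) := by
  intro χ
  let P := Groth.L29.DC.PullTensor.pullTensor σ
  let e' : CohB1.tensorMod ((Scheme.Modules.pullback σ).obj N) ((Scheme.Modules.pullback σ).obj N') ≅
      Coh.structureModule Y :=
    P N N' ≪≫ (Scheme.Modules.pullback σ).mapIso e ≪≫ Groth.L29.LocFree.pullbackUnitIso σ
  haveI := Groth.L22.PDual.isEquivalence_tensorRightF e'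
  obtain ⟨χ', hχ'⟩ := (tensorRightF ((Scheme.Modules.pullback σ).obj N)).map_surjective
    ((P A N).hom ≫ χ ≫ (P B N).inv)
  obtain ⟨φ, hφ⟩ := h χ'
  refine ⟨tensorMap φ (𝟙 N), ?_⟩
  show (Scheme.Modules.pullback σ).map _ = χ
  have hn := Groth.L29.DC.PullTensor.pullTensor_natural σ φ (𝟙 N)
  rw [show (Scheme.Modules.pullback σ).map (𝟙 N) = 𝟙 _ from CategoryTheory.Functor.map_id _ N,
    show (Scheme.Modules.pullback σ).map φ = χ' from hφ] at hn
  replace hχ' : tensorMap χ' (𝟙 ((Scheme.Modules.pullback σ).obj N)) = (P A N).hom ≫ χ ≫ (P B N).inv := hχ'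
  rw [hχ', Category.assoc, Category.assoc, Iso.inv_hom_id, Category.comp_id] at hn
  exact ((cancel_epi _).1 hn).symm

/-- Lifting from a free module. -/
theorem Lifts.free {B : Z.Modules} (h : Lifts σ (Coh.structureModule Z) B) (r : ℕ) :
    Lifts σ (FlatMod.freeMod Z r) B := by
  intro χ
  haveI : PreservesColimitsOfSize.{0, 0} (Scheme.Modules.pullback σ) :=
    (Scheme.Modules.pullbackPushforwardAdjunction σ).leftAdjoint_preservesColimits.{0, 0}
  choose φ hφ using fun i : Fin r => h ((Scheme.Modules.pullback σ).map (Sigma.ι (fun _ : Fin r => Coh.structureModule Z) i) ≫ χ)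
  refine ⟨Sigma.desc φ, ?_⟩
  show (Scheme.Modules.pullback σ).map _ = χ
  refine (isColimitOfPreserves (Scheme.Modules.pullback σ)
    (colimit.isColimit (Discrete.functor fun _ : Fin r => Coh.structureModule Z))).hom_ext fun ⟨i⟩ => ?_
  show (Scheme.Modules.pullback σ).map (Sigma.ι _ i) ≫ _ = (Scheme.Modules.pullback σ).map (Sigma.ι _ i) ≫ _
  rw [← Functor.map_comp, Sigma.ι_desc]
  exact hφ i

/-- Sections lift when pulling back sections is surjective. -/
theorem lifts_structure {B : Z.Modules} (h : Function.Surjective (pull σ B ⊤)) :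
    Lifts σ (Coh.structureModule Z) B := by
  intro χ
  let adj := Scheme.Modules.pullbackPushforwardAdjunction σ
  obtain ⟨m, hm⟩ := h ((adj.homEquiv _ _ χ).app ⊤ (1 : Γ(Z, ⊤)))
  refine ⟨Groth.L16.homOfSection B m, (adj.homEquiv _ _).injective ?_⟩
  show adj.homEquiv _ _ ((Scheme.Modules.pullback σ).map _) = _
  rw [Adjunction.homEquiv_unit, ← Functor.comp_map, ← adj.unit.naturality]
  rw [← Groth.L18.GenLoc.homOfSection_secOf (adj.homEquiv _ _ χ)]
  rw [← Groth.L18.GenLoc.homOfSection_secOf ((𝟭 Z.Modules).map (Groth.L16.homOfSection B m) ≫ adj.unit.app B)]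
  refine congrArg (Groth.L16.homOfSection _) ?_
  refine Eq.trans ?_ hm
  show pull σ B ⊤ (Groth.L18.GenLoc.secOf (Groth.L16.homOfSection B m)) = _
  rw [Groth.L18.GenLoc.secOf_homOfSection]

/-- Pulling back sections along an affine point. -/
theorem surjective_pull_affine [IsAffine Y] [IsAffine Z] (M : Z.Modules) [Coh.IsQCoh M]
    (hs : Function.Surjective σ.appTop) : Function.Surjective (pull σ M ⊤) := by
  intro z
  letI : Algebra Γ(Z, ⊤) Γ(Y, ⊤) := (σ.appLE ⊤ ⊤ le_top).hom.toAlgebra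
  letI := Module.compHom Γ((Scheme.Modules.pullback σ).obj M, ⊤) (σ.appLE ⊤ ⊤ le_top).hom
  haveI : IsScalarTower Γ(Z, ⊤) Γ(Y, ⊤) Γ((Scheme.Modules.pullback σ).obj M, ⊤) :=
    IsScalarTower.of_algebraMap_smul fun _ _ => rfl
  have hb := Groth.L16.AffineBC.isBaseChange_pull σ M (V := ⊤) (U := ⊤) (isAffineOpen_top Z) (isAffineOpen_top Y) le_top
  refine hb.inductionOn z _ ⟨0, map_zero _⟩ (fun m => ⟨m, (rs_self _ _ _).symm⟩) ?_ ?_
  · rintro c n ⟨m, rfl⟩
    obtain ⟨a, rfl⟩ := hs c
    exact ⟨a • m, Groth.L18.Frame.pull_smul σ M a m⟩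
  · rintro a b ⟨m, rfl⟩ ⟨n, rfl⟩
    exact ⟨m + n, map_add _ _ _⟩

/-- Sections of the fibre lift where base change of the direct image holds. -/
theorem surjective_pull_of_bc0 {S S' : Scheme.{u}} [IsAffine S] [IsAffine S'] {f : Z ⟶ S} {γ : S' ⟶ S}
    {f' : Y ⟶ S'} (w : σ ≫ f = f' ≫ γ) (F : Z.Modules) [Coh.IsQCoh ((Scheme.Modules.pushforward f).obj F)]
    (hs : Function.Surjective γ.appTop) [IsIso (CohBC.bc0 f γ f' σ w F)] : Function.Surjective (pull σ F ⊤) := by
  have h1 := surjective_pull_affine (σ := γ) ((Scheme.Modules.pushforward f).obj F) hs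
  intro z
  obtain ⟨y, hy⟩ := (ConcreteCategory.bijective_of_isIso ((CohBC.bc0 f γ f' σ w F).app (γ ⁻¹ᵁ ⊤))).2 z
  obtain ⟨x, rfl⟩ := h1 y
  refine ⟨x, ?_⟩
  rw [← hy]
  erw [Groth.L17.BC.Classes.bc0_app_pull, Groth.L17.BC.Classes.bc0Adj_app w F ⊤ le_rfl]
  exact (rs_self _ _ _).symm

end General

variable {k : Type u} [Field k] {W : Scheme.{u}} [W.Over (Spec (CommRingCat.of k))]
  [IsProper (W ↘ Spec (CommRingCat.of k))]

set_option maxHeartbeats 1000000 in
/-- Affine pieces on which the sections of every fibre lift. -/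
theorem covers_lifts {T : Scheme.{u}} (q : T ⟶ Spec (CommRingCat.of k)) [IsAffine T] [LocallyOfFiniteType q]
    (M : (Pic13.prodK k W q).Modules) (hM : Coh.IsCoh M)
    (hfl : FlatMod.IsFlatOver (pullback.snd (W ↘ Spec (CommRingCat.of k)) q) M) :
    Covers q (fun V h t ht => Lifts (Pic13.sliceAt k W (h ≫ q) t ht) (Coh.structureModule _)
      ((Scheme.Modules.pullback (res q h)).obj M)) := by
  haveI : QuasiCompact q := inferInstance
  letI : (Spec (CommRingCat.of k)).Over (Spec (CommRingCat.of k)) := ⟨𝟙 _⟩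
  haveI : IsProper (Spec (CommRingCat.of k) ↘ Spec (CommRingCat.of k)) :=
    inferInstanceAs (IsProper (𝟙 (Spec (CommRingCat.of k))))
  let g : KMap k W (Spec (CommRingCat.of k)) := ⟨W ↘ Spec (CommRingCat.of k), Category.comp_id _⟩
  obtain ⟨m, V, h, hV, hc⟩ := covers_good g q M hM hfl
  refine ⟨m, V, h, hV, fun t ht => ?_⟩
  obtain ⟨j, t', ht', he, hg⟩ := hc t ht
  refine ⟨j, t', ht', he, lifts_structure ?_⟩
  haveI := (hV j).1
  haveI := (hV j).2
  haveI := isLocallyNoetherian_prod (k := k) (X := Spec (CommRingCat.of k)) (h j ≫ q)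
  haveI := isLocallyNoetherian_prod (k := k) (X := W) q
  haveI := isLocallyNoetherian_prod (k := k) (X := W) (h j ≫ q)
  haveI := isProper_mapK g (h j ≫ q)
  let f := mapK g (h j ≫ q)
  let γ := Pic13.sliceAt k (Spec (CommRingCat.of k)) (h j ≫ q) t' ht'
  let σ := Pic13.sliceAt k W (h j ≫ q) t' ht'
  let F := (Scheme.Modules.pullback (res q (h j))).obj M
  have hF : Coh.IsCoh F := Groth.L16.AffineBC.isCoh_pullback _ hM
  haveI : IsAffine (Pic13.prodK k (Spec (CommRingCat.of k)) (h j ≫ q)) :=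
    inferInstanceAs (IsAffine (pullback _ _))
  haveI : Coh.IsQCoh ((Scheme.Modules.pushforward f).obj F) := (Groth.L16.Exist.isCoh_pushforward f hF).1
  have hγ : γ ≫ pullback.fst (Spec (CommRingCat.of k) ↘ Spec (CommRingCat.of k)) (h j ≫ q) = 𝟙 _ :=
    pullback.lift_fst _ _ _
  have hs : Function.Surjective γ.appTop := fun c => ⟨(pullback.fst (Spec (CommRingCat.of k) ↘ Spec (CommRingCat.of k)) (h j ≫ q)).appTop c, by
    rw [← ConcreteCategory.comp_apply, ← Scheme.Hom.comp_appTop, hγ]; rfl⟩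
  exact @surjective_pull_of_bc0 _ _ σ _ _ _ _ f γ g.f (slice_mapK g (h j ≫ q) t' ht') F _ hs hg

end Groth.L11.Bdd
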