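import Groth.Agent.L11.Bdd.Adj
import Groth.Agent.L11.Bdd.Lifts
import Groth.Agent.L16.HomSh.Coherent
import Groth.Agent.L16.Exist.PushPull
import Groth.Agent.L14.Quot.Funct
import Groth.Agent.L16.NegPow.Gen
import Groth.Agent.L18.GlobGen
import Mathlib.AlgebraicGeometry.AffineSpace
import Mathlib.Algebra.Homology.CommSq

/-!
# Kernels of all morphisms into a direct image
-/

set_option autoImplicit false
set_option backward.isDefEq.respectTransparency false
set_option backward.isDefEq.respectTransparency.types false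
set_option linter.style.haveILetI false
set_option linter.unusedSectionVars false

universe u

open CategoryTheory CategoryTheory.Limits AlgebraicGeometry TopologicalSpace

noncomputable section

namespace Groth.L11.Bdd

open Groth.L11.PicFam (res res_fst res_snd isPullback_res fibre_res isPullback_slice slice_res)
open Groth.L20.DescLocus (sqIso)
open Groth.L14.Quot (smulMod comp_smulMod pullback_smulMod)
open Groth.L16.HomSh (homMod globalEquiv secEquiv ev)

theorem globalEquiv_smul {Z : Scheme.{u}} {E H : Z.Modules} (φ : E ⟶ H) (r : Γ(Z, ⊤)) :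
    globalEquiv E H (φ ≫ smulMod H r) = r • globalEquiv E H φ :=
  (secEquiv ⊤).injective (Groth.L16.HomSh.sec_ext fun W h x => by
    rw [map_smul, Groth.L16.HomSh.ev_smulSec]
    exact Groth.L14.Quot.smulMod_app H r W _)

/-- A pushout of coherent modules is coherent. -/
theorem isCoh_pushout {Z : Scheme.{u}} [IsLocallyNoetherian Z] {A B C : Z.Modules} (hA : Coh.IsCoh A)
    (hB : Coh.IsCoh B) (hC : Coh.IsCoh C) (f : A ⟶ B) (g : A ⟶ C) : Coh.IsCoh (pushout f g) :=
  Groth.L16.CohSupport.isCoh_of_iso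
    ((colimit.isColimit (parallelPair (biprod.lift f (-g)) 0)).coconePointUniqueUpToIso (IsPushout.of_hasPushout f g).isColimitCokernelCofork)
    (Groth.L16.CohKernel.isCoh_kernel_cokernel hA (Groth.L16.Devissage.isCoh_biprod hB hC) (biprod.lift f (-g))).2

/-- A pushout along an epimorphism whose value is known. -/
theorem exists_pushout_iso {C D : Type*} [Category C] [Category D] [HasPushouts C] (S : C ⥤ D)
    [PreservesColimitsOfSize.{0, 0} S] {E L H : C} (pV : E ⟶ L) (φu : E ⟶ H) [Epi pV] {L' H' : D}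
    (bL : S.obj L ≅ L') (bH : S.obj H ≅ H') (φ' : L' ⟶ H') (hu : S.map φu ≫ bH.hom = S.map pV ≫ bL.hom ≫ φ') :
    ∃ e : S.obj (pushout pV φu) ≅ H', S.map (pushout.inl pV φu) ≫ e.hom = bL.hom ≫ φ' := by
  have hpo : IsPushout (S.map pV) (S.map φu) (S.map (pushout.inl pV φu)) (S.map (pushout.inr pV φu)) :=
    (IsPushout.of_hasPushout pV φu).map S
  haveI : PreservesFiniteColimits S := PreservesColimitsOfSize.preservesFiniteColimits S
  haveI : Epi (S.map pV) := inferInstance
  refine ⟨⟨hpo.desc (bL.hom ≫ φ') bH.hom hu.symm, bH.inv ≫ S.map (pushout.inr pV φu), hpo.hom_ext ?_ ?_, ?_⟩,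
    hpo.inl_desc _ _ _⟩
  · rw [hpo.inl_desc_assoc, Category.comp_id, ← cancel_epi (S.map pV), Category.assoc, ← reassoc_of% hu,
      Iso.hom_inv_id_assoc, ← Functor.map_comp, ← Functor.map_comp, pushout.condition]
  · rw [hpo.inr_desc_assoc, Iso.hom_inv_id_assoc, Category.comp_id]
  · rw [Category.assoc, hpo.inr_desc, Iso.inv_hom_id]

/-- The fibre of a universal linear combination. -/
theorem map_combination {P P' Y : Scheme.{u}} {s : Y ⟶ P} {s' : Y ⟶ P'} {r : P' ⟶ P} (e : s' ≫ r = s) {E H : P.Modules}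
    {n : ℕ} (χ : Fin n → (E ⟶ H)) (sc : Fin n → Γ(P', ⊤)) (sa : Fin n → Γ(P, ⊤))
    (hsc : ∀ j, s'.appTop (sc j) = s.appTop (sa j)) :
    (Scheme.Modules.pullback s').map (∑ j, (Scheme.Modules.pullback r).map (χ j) ≫ smulMod _ (sc j)) ≫
        (Scheme.Modules.pullbackComp s' r ≪≫ Scheme.Modules.pullbackCongr e).hom.app H =
      (Scheme.Modules.pullbackComp s' r ≪≫ Scheme.Modules.pullbackCongr e).hom.app E ≫
        (Scheme.Modules.pullback s).map (∑ j, χ j ≫ smulMod H (sa j)) := by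
  haveI : (Scheme.Modules.pullback s').Additive := (Scheme.Modules.pullbackPushforwardAdjunction _).left_adjoint_additive
  haveI : (Scheme.Modules.pullback s).Additive := (Scheme.Modules.pullbackPushforwardAdjunction _).left_adjoint_additive
  rw [Functor.map_sum, Functor.map_sum, Preadditive.comp_sum, Preadditive.sum_comp]
  refine Finset.sum_congr rfl fun j _ => ?_
  let b := Scheme.Modules.pullbackComp s' r ≪≫ Scheme.Modules.pullbackCongr e
  have hn : (Scheme.Modules.pullback s').map ((Scheme.Modules.pullback r).map (χ j)) ≫ b.hom.app H =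
      b.hom.app E ≫ (Scheme.Modules.pullback s).map (χ j) := b.hom.naturality (χ j)
  rw [Functor.map_comp, Functor.map_comp, Category.assoc, pullback_smulMod, pullback_smulMod,
    ← reassoc_of% hn, hsc]
  exact congrArg ((Scheme.Modules.pullback s').map ((Scheme.Modules.pullback r).map (χ j)) ≫ ·)
    (comp_smulMod (b.hom.app H) _).symm

variable {k : Type u} [Field k] {X W : Scheme.{u}} [X.Over (Spec (CommRingCat.of k))] [W.Over (Spec (CommRingCat.of k))]
  [IsProper (X ↘ Spec (CommRingCat.of k))] [IsProper (W ↘ Spec (CommRingCat.of k))] (g : KMap k W X)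
  {T : Scheme.{u}} (q : T ⟶ Spec (CommRingCat.of k)) [IsAffine T] [LocallyOfFiniteType q]

/-- The morphisms between coherent modules on a product with an affine base are finitely generated over it. -/
theorem exists_generators {E H : (Pic13.prodK k W q).Modules} (hE : Coh.IsCoh E) (hH : Coh.IsCoh H) :
    ∃ (r : ℕ) (χ : Fin r → (E ⟶ H)), ∀ φ : E ⟶ H, ∃ a : Fin r → Γ(T, ⊤),
      φ = ∑ j, χ j ≫ smulMod H ((pullback.snd (W ↘ Spec (CommRingCat.of k)) q).appTop (a j)) := by
  classical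
  haveI := isLocallyNoetherian_prod (k := k) (X := W) q
  haveI := LocallyOfFiniteType.isLocallyNoetherian q
  let p := pullback.snd (W ↘ Spec (CommRingCat.of k)) q
  let P := (Scheme.Modules.pushforward p).obj (homMod E H)
  have hP : Coh.IsCoh P := Groth.L16.Exist.isCoh_pushforward p (Groth.L16.HomSh.isCoh_homMod hE hH)
  haveI := Groth.L20.ModStalk.finite_sections P hP (isAffineOpen_top T)
  obtain ⟨r, s, hs⟩ := Module.Finite.exists_fin (R := Γ(T, ⊤)) (M := Γ(P, ⊤))
  refine ⟨r, fun j => (globalEquiv E H).symm (s j), fun φ => ?_⟩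
  have h1 : (show Γ(P, ⊤) from globalEquiv E H φ) ∈ Submodule.span Γ(T, ⊤) (Set.range s) := hs.ge Submodule.mem_top
  obtain ⟨a, ha⟩ := (Submodule.mem_span_range_iff_exists_fun _).1 h1
  refine ⟨a, (globalEquiv E H).injective ?_⟩
  rw [map_sum]
  refine ha.symm.trans (Finset.sum_congr rfl fun j _ => ?_)
  rw [globalEquiv_smul, AddEquiv.apply_symm_apply]
  rfl

set_option maxHeartbeats 2000000 in
/-- The kernels of the morphisms into a direct image, at points where morphisms lift. -/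
theorem bd_hom_kernel_of_lifts {A : (Pic13.prodK k X q).Modules} (hA : Coh.IsCoh A)
    {E H : (Pic13.prodK k W q).Modules} (hE : Coh.IsCoh E) (hH : Coh.IsCoh H)
    (p : E ⟶ (Scheme.Modules.pullback (mapK g q)).obj A) [Epi p] :
    Bd (k := k) (fun K : X.Modules => ∃ (t : Spec (CommRingCat.of k) ⟶ T) (ht : t ≫ q = 𝟙 _),
      Lifts (Pic13.sliceAt k W q t ht) E H ∧
      ∃ φ : (Scheme.Modules.pullback (Pic13.sliceAt k X q t ht)).obj A ⟶
          (Scheme.Modules.pushforward g.f).obj ((Scheme.Modules.pullback (Pic13.sliceAt k W q t ht)).obj H),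
        Nonempty (kernel φ ≅ K)) := by
  classical
  obtain ⟨r, χ, hgen⟩ := exists_generators q hE hH
  let V := 𝔸(ULift.{u} (Fin r); T)
  let h : V ⟶ T := V ↘ T
  haveI : LocallyOfFiniteType h := inferInstanceAs (LocallyOfFiniteType (𝔸(ULift.{u} (Fin r); T) ↘ T))
  haveI : IsAffine V := inferInstanceAs (IsAffine 𝔸(ULift.{u} (Fin r); T))
  haveI := isLocallyNoetherian_prod (k := k) (X := X) q
  haveI := isLocallyNoetherian_prod (k := k) (X := W) q
  haveI := isLocallyNoetherian_prod (k := k) (X := X) (h ≫ q)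
  haveI := isLocallyNoetherian_prod (k := k) (X := W) (h ≫ q)
  let rW := res (X := W) q h
  let rF := Scheme.Modules.pullback rW
  let L := (Scheme.Modules.pullback (mapK g q)).obj A
  let pV : rF.obj E ⟶ rF.obj L := rF.map p
  let sc : Fin r → Γ(Pic13.prodK k W (h ≫ q), ⊤) := fun j =>
    (pullback.snd (W ↘ Spec (CommRingCat.of k)) (h ≫ q)).appTop (AffineSpace.coord T ⟨j⟩)
  let φu : rF.obj E ⟶ rF.obj H := ∑ j, rF.map (χ j) ≫ smulMod (rF.obj H) (sc j)
  let M := pushout pV φu
  have hM : Coh.IsCoh M := isCoh_pushout (Groth.L16.AffineBC.isCoh_pullback _ hE)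
    (Groth.L16.AffineBC.isCoh_pullback _ (Groth.L16.AffineBC.isCoh_pullback _ hA))
    (Groth.L16.AffineBC.isCoh_pullback _ hH) pV φu
  let ψ := (sqIso (mapK g q) (res q h) (mapK g (h ≫ q)) rW (res_mapK g q h) A).inv ≫ pushout.inl pV φu
  refine (bd_adj_kernel g (h ≫ q) (Groth.L16.AffineBC.isCoh_pullback (res q h) hA) hM ψ).mono
    fun K hK => ⟨K, ?_, ⟨Iso.refl _⟩⟩
  obtain ⟨t, ht, hl, φ, ⟨eK⟩⟩ := hK
  let σ := Pic13.sliceAt k W q t ht
  let sqv := sqIso (mapK g q) (Pic13.sliceAt k X q t ht) g.f σ (slice_mapK g q t ht) A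
  let φ' : (Scheme.Modules.pullback σ).obj L ⟶ (Scheme.Modules.pullback σ).obj H :=
    sqv.hom ≫ ((Scheme.Modules.pullbackPushforwardAdjunction g.f).homEquiv _ _).symm φ
  obtain ⟨φ₀, hφ₀ : (Scheme.Modules.pullback σ).map φ₀ = _⟩ := hl ((Scheme.Modules.pullback σ).map p ≫ φ')
  obtain ⟨a, ha⟩ := hgen φ₀
  let v : Spec (CommRingCat.of k) ⟶ V := AffineSpace.homOfVector t fun i => t.appTop (a i.down)
  have hv : v ≫ h = t := AffineSpace.homOfVector_over _ _
  have hv' : v ≫ h ≫ q = 𝟙 _ := by rw [← Category.assoc, hv, ht]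
  let σh := Pic13.sliceAt k W (h ≫ q) v hv'
  let S := Scheme.Modules.pullback σh
  haveI : S.Additive := (Scheme.Modules.pullbackPushforwardAdjunction _).left_adjoint_additive
  haveI : (Scheme.Modules.pullback σ).Additive := (Scheme.Modules.pullbackPushforwardAdjunction _).left_adjoint_additive
  haveI : PreservesColimitsOfSize.{0, 0} S :=
    (Scheme.Modules.pullbackPushforwardAdjunction σh).leftAdjoint_preservesColimits.{0, 0}
  let b := Scheme.Modules.pullbackComp σh rW ≪≫
    Scheme.Modules.pullbackCongr (show σh ≫ rW = σ by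
      have := slice_res (X := W) q h v hv'
      rw [this]
      congr 1)
  have hscal : ∀ j, σh.appTop (sc j) = σ.appTop ((pullback.snd (W ↘ Spec (CommRingCat.of k)) q).appTop (a j)) := fun j => by
    have e1 : σh ≫ pullback.snd _ _ = (W ↘ Spec (CommRingCat.of k)) ≫ v := pullback.lift_snd _ _ _
    have e2 : σ ≫ pullback.snd _ _ = (W ↘ Spec (CommRingCat.of k)) ≫ t := pullback.lift_snd _ _ _
    show σh.appTop ((pullback.snd _ (h ≫ q)).appTop _) = _
    rw [← ConcreteCategory.comp_apply, ← ConcreteCategory.comp_apply, ← Scheme.Hom.comp_appTop,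
      ← Scheme.Hom.comp_appTop, e1, e2, Scheme.Hom.comp_appTop, Scheme.Hom.comp_appTop, ConcreteCategory.comp_apply,
      ConcreteCategory.comp_apply, AffineSpace.homOfVector_appTop_coord]
  have hu : S.map φu ≫ b.hom.app H = S.map pV ≫ b.hom.app L ≫ φ' := by
    rw [show S.map φu ≫ b.hom.app H = _ from map_combination _ χ sc
        (fun j => (pullback.snd (W ↘ Spec (CommRingCat.of k)) q).appTop (a j)) hscal, ← ha, hφ₀]
    exact (b.hom.naturality_assoc p φ').symm
  obtain ⟨e, he⟩ := exists_pushout_iso S pV φu (b.app L) (b.app H) φ' hu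
  refine ⟨v, hv', ⟨(AIso.kernel_iso ?_).some ≪≫ eK⟩⟩
  refine (aiso_adjAt_res g q h (pushout.inl pV φu) hv' ht hv).trans
    (AIso.mk (Iso.refl _) ((Scheme.Modules.pushforward g.f).mapIso e) ?_)
  rw [Iso.refl_hom, Category.id_comp, Functor.mapIso_hom, ← Adjunction.homEquiv_naturality_right]
  refine (((Scheme.Modules.pullbackPushforwardAdjunction g.f).homEquiv _ _).symm_apply_eq.1 ?_)
  show _ = (sqv.inv ≫ (b.app L).inv ≫ S.map (pushout.inl pV φu)) ≫ e.hom
  rw [Category.assoc, Category.assoc, he, Iso.inv_hom_id_assoc, Iso.inv_hom_id_assoc]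

/-- The kernels of all morphisms into a direct image from a projective scheme form a bounded family. -/
theorem bd_hom_kernel {O : W.Modules} (hO : CohB1.IsAmple O) {A : (Pic13.prodK k X q).Modules} (hA : Coh.IsCoh A)
    {H : (Pic13.prodK k W q).Modules} (hH : Coh.IsCoh H) :
    Bd (k := k) (fun K : X.Modules => ∃ (t : Spec (CommRingCat.of k) ⟶ T) (ht : t ≫ q = 𝟙 _)
      (φ : (Scheme.Modules.pullback (Pic13.sliceAt k X q t ht)).obj A ⟶
          (Scheme.Modules.pushforward g.f).obj ((Scheme.Modules.pullback (Pic13.sliceAt k W q t ht)).obj H)),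
        Nonempty (kernel φ ≅ K)) := by
  classical
  haveI := isLocallyNoetherian_prod (k := k) (X := X) q
  haveI := isLocallyNoetherian_prod (k := k) (X := W) q
  haveI : QuasiCompact q := inferInstance
  haveI : CompactSpace (Pic13.prodK k W q) :=
    QuasiCompact.compactSpace_of_compactSpace (pullback.snd (W ↘ Spec (CommRingCat.of k)) q)
  haveI : IsAffineHom (pullback.fst (W ↘ Spec (CommRingCat.of k)) q) :=
    MorphismProperty.pullback_fst _ _ inferInstance
  let O₁ := (Scheme.Modules.pullback (pullback.fst (W ↘ Spec (CommRingCat.of k)) q)).obj O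
  have hO₁ : CohB1.IsAmple O₁ := Groth.L18.Ample.isAmple_pullback_of_isAffineHom _ hO
  have hL := Groth.L16.AffineBC.isCoh_pullback (mapK g q) hA
  haveI : Coh.IsQCoh ((Scheme.Modules.pullback (mapK g q)).obj A) := hL.1
  obtain ⟨n, hn⟩ := Groth.L18.Ample.exists_forall_isGloballyGenerated hO₁ _ hL
  obtain ⟨ι, π, hπ⟩ := hn n le_rfl
  have hOn := Groth.L18.Ample.isInvertible_tensorPow hO₁.1 n
  have hLn := Groth.L15.Ref.isCoh_tensorMod hL (Groth.L16.ProperFinite.isCoh_of_isInvertible hOn)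
  obtain ⟨m, π', hπ'⟩ := Groth.L16.NegPow.exists_finite_epi hLn π
  obtain ⟨N, hN, ⟨eN⟩⟩ := Groth.L08.Cube.exists_inverse hOn
  haveI := hπ'
  let p : CohB1.tensorMod (FlatMod.freeMod _ m) N ⟶ (Scheme.Modules.pullback (mapK g q)).obj A :=
    (Groth.L00.Tensor.tensorRightF N).map π' ≫ (Groth.L00.Tensor.tensorAssoc _ _ _ ≪≫
      Groth.L00.Tensor.tensorIso (Iso.refl _) eN ≪≫ Groth.L00.Tensor.tensorUnitRight _).hom
  haveI : Epi p := @epi_comp _ _ _ _ _ _ (Groth.L16.NegPow.epi_map_tensorRight π' N) _ inferInstance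
  have hE : Coh.IsCoh (CohB1.tensorMod (FlatMod.freeMod (Pic13.prodK k W q) m) N) :=
    Groth.L16.NegPow.isCoh_of_isFinLocFree (Groth.L16.NegPow.isFinLocFree_freeTensor hN m)
  let N' := CohB1.tensorPow O₁ n
  let eN' : CohB1.tensorMod N N' ≅ Coh.structureModule _ := Groth.L00.Tensor.tensorComm _ _ ≪≫ eN
  have hH' : Coh.IsCoh (CohB1.tensorMod H N') :=
    Groth.L15.Ref.isCoh_tensorMod hH (Groth.L16.ProperFinite.isCoh_of_isInvertible hOn)
  let S : (t : Spec (CommRingCat.of k) ⟶ T) → t ≫ q = 𝟙 _ → X.Modules → Prop := fun t ht K =>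
    ∃ φ : (Scheme.Modules.pullback (Pic13.sliceAt k X q t ht)).obj A ⟶
          (Scheme.Modules.pushforward g.f).obj ((Scheme.Modules.pullback (Pic13.sliceAt k W q t ht)).obj H),
        Nonempty (kernel φ ≅ K)
  show Bd (k := k) fun K => ∃ t ht, S t ht K
  refine (covers_flat q _ hH').bd fun V h _ hl => ?_
  haveI := hl
  haveI := isLocallyNoetherian_prod (k := k) (X := X) (h ≫ q)
  haveI := isLocallyNoetherian_prod (k := k) (X := W) (h ≫ q)
  by_cases hfl : FlatMod.IsFlatOver (pullback.snd (W ↘ Spec (CommRingCat.of k)) (h ≫ q))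
      ((Scheme.Modules.pullback (res q h)).obj (CohB1.tensorMod H N'))
  swap
  · exact ⟨0, Fin.elim0, fun K ⟨_, _, hP, _⟩ => absurd hP hfl⟩
  let S' : (t : Spec (CommRingCat.of k) ⟶ V) → t ≫ h ≫ q = 𝟙 _ → X.Modules → Prop := fun t ht K =>
    S (t ≫ h) ((Category.assoc _ _ _).trans ht) K
  refine Bd.mono (P := fun K => ∃ t ht, S' t ht K) ?_
    fun K ⟨t, ht, _, hS⟩ => ⟨K, ⟨t, ht, hS⟩, ⟨Iso.refl _⟩⟩
  refine (covers_lifts (h ≫ q) _ (Groth.L16.AffineBC.isCoh_pullback _ hH') hfl).bd fun V' h' hV' hl' => ?_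
  haveI := hV'; haveI := hl'
  haveI := isLocallyNoetherian_prod (k := k) (X := X) (h' ≫ h ≫ q)
  haveI := isLocallyNoetherian_prod (k := k) (X := W) (h' ≫ h ≫ q)
  let R := Scheme.Modules.pullback (res (X := W) (h ≫ q) h')
  let R₀ := Scheme.Modules.pullback (res (X := W) q h)
  let RX := Scheme.Modules.pullback (res (X := X) (h ≫ q) h')
  let RX₀ := Scheme.Modules.pullback (res (X := X) q h)
  haveI : PreservesFiniteColimits R :=
    (Scheme.Modules.pullbackPushforwardAdjunction _).leftAdjoint_preservesColimits.{0, 0}.preservesFiniteColimits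
  haveI : PreservesFiniteColimits R₀ :=
    (Scheme.Modules.pullbackPushforwardAdjunction _).leftAdjoint_preservesColimits.{0, 0}.preservesFiniteColimits
  let pV : R.obj (R₀.obj (CohB1.tensorMod (FlatMod.freeMod (Pic13.prodK k W q) m) N)) ⟶
      (Scheme.Modules.pullback (mapK g (h' ≫ h ≫ q))).obj (RX.obj (RX₀.obj A)) :=
    R.map (R₀.map p) ≫ (R.mapIso (sqIso (mapK g q) (res q h) (mapK g (h ≫ q)) (res q h) (res_mapK g q h) A) ≪≫
      sqIso (mapK g (h ≫ q)) (res (h ≫ q) h') (mapK g (h' ≫ h ≫ q)) (res (h ≫ q) h') (res_mapK g (h ≫ q) h')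
        (RX₀.obj A)).hom
  haveI : Epi pV := epi_comp _ _
  refine (bd_hom_kernel_of_lifts g (h' ≫ h ≫ q)
    (Groth.L16.AffineBC.isCoh_pullback _ (Groth.L16.AffineBC.isCoh_pullback _ hA))
    (Groth.L16.AffineBC.isCoh_pullback _ (Groth.L16.AffineBC.isCoh_pullback _ hE))
    (Groth.L16.AffineBC.isCoh_pullback (res (h ≫ q) h') (Groth.L16.AffineBC.isCoh_pullback (res q h) hH)) pV).mono
    fun K hK => ⟨K, ?_, ⟨Iso.refl _⟩⟩
  obtain ⟨t, ht, hlift, φ, ⟨eK⟩⟩ := hK
  let σ := Pic13.sliceAt k W (h' ≫ h ≫ q) t ht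
  let P := Groth.L29.DC.PullTensor.pullTensor (res (X := W) q h)
  let Q := Groth.L29.DC.PullTensor.pullTensor (res (X := W) (h ≫ q) h')
  have h1 : Lifts σ (FlatMod.freeMod (Pic13.prodK k W (h' ≫ h ≫ q)) m) (R.obj (R₀.obj (CohB1.tensorMod H N'))) :=
    hlift.free m
  let N₂ := R.obj (R₀.obj N)
  let N₂' := R.obj (R₀.obj N')
  let e₂ : CohB1.tensorMod N₂ N₂' ≅ Coh.structureModule _ :=
    Q _ _ ≪≫ R.mapIso (P N N' ≪≫ R₀.mapIso eN' ≪≫ Groth.L29.LocFree.pullbackUnitIso _) ≪≫
      Groth.L29.LocFree.pullbackUnitIso _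
  let eF : FlatMod.freeMod (Pic13.prodK k W (h' ≫ h ≫ q)) m ≅ R.obj (R₀.obj (FlatMod.freeMod (Pic13.prodK k W q) m)) :=
    (R.mapIso (Groth.L29.LocFree.pullbackFreeIso _ _) ≪≫ Groth.L29.LocFree.pullbackFreeIso _ _).symm
  have h2 : Lifts σ (R.obj (R₀.obj (CohB1.tensorMod (FlatMod.freeMod (Pic13.prodK k W q) m) N))) (R.obj (R₀.obj H)) :=
    ((h1.of_iso eF (R.mapIso (P H N').symm ≪≫ (Q _ _).symm)).tensor e₂).of_iso
      (Q _ _ ≪≫ R.mapIso (P _ _))
      (Groth.L00.Tensor.tensorAssoc _ _ _ ≪≫ Groth.L00.Tensor.tensorIso (Iso.refl _)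
        (Groth.L00.Tensor.tensorComm _ _ ≪≫ e₂) ≪≫ Groth.L00.Tensor.tensorUnitRight _)
  obtain ⟨e1⟩ := fibre_res (X := X) (h ≫ q) h' (RX₀.obj A) ht ((Category.assoc _ _ _).trans ht) rfl
  obtain ⟨e2⟩ := fibre_res (X := X) q h A (t := t ≫ h') ((Category.assoc _ _ _).trans ht)
    ((Category.assoc _ _ _).trans ((Category.assoc _ _ _).trans ht)) rfl
  obtain ⟨f1⟩ := fibre_res (X := W) (h ≫ q) h' (R₀.obj H) ht ((Category.assoc _ _ _).trans ht) rfl
  obtain ⟨f2⟩ := fibre_res (X := W) q h H (t := t ≫ h') ((Category.assoc _ _ _).trans ht)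
    ((Category.assoc _ _ _).trans ((Category.assoc _ _ _).trans ht)) rfl
  refine ⟨t, ht, h2, (e1 ≪≫ e2).hom ≫ φ ≫ (Scheme.Modules.pushforward g.f).map (f1 ≪≫ f2).inv, ⟨?_⟩⟩
  exact kernelIsIsoComp _ _ ≪≫ kernelCompMono _ _ ≪≫ eK

end Groth.L11.Bdd
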