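import Groth.Agent.L11.Bdd.Ops
import Groth.Agent.L11.Bdd.Exact

/-!
# Kernels of a family of morphisms
-/

set_option autoImplicit false
set_option backward.isDefEq.respectTransparency false
set_option backward.isDefEq.respectTransparency.types false
set_option linter.style.haveILetI false
set_option linter.unusedSectionVars false

universe u v w

open CategoryTheory CategoryTheory.Limits AlgebraicGeometry TopologicalSpace

noncomputable section

namespace Groth.L11.Bdd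

open Groth.L11.PicFam (res res_fst res_snd isPullback_res fibre_res isPullback_slice slice_res)

section AIso

variable {C : Type w} [Category.{v} C] {A B A' B' A'' B'' : C}

/-- Isomorphic arrows. -/
def AIso (f : A ⟶ B) (f' : A' ⟶ B') : Prop := Nonempty (Arrow.mk f ≅ Arrow.mk f')

theorem AIso.mk {f : A ⟶ B} {f' : A' ⟶ B'} (a : A ≅ A') (b : B ≅ B') (w : a.hom ≫ f' = f ≫ b.hom) : AIso f f' :=
  ⟨Arrow.isoMk a b w⟩

theorem AIso.refl (f : A ⟶ B) : AIso f f := ⟨Iso.refl _⟩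

theorem AIso.symm {f : A ⟶ B} {f' : A' ⟶ B'} (h : AIso f f') : AIso f' f := ⟨h.some.symm⟩

theorem AIso.trans {f : A ⟶ B} {f' : A' ⟶ B'} {f'' : A'' ⟶ B''} (h : AIso f f') (h' : AIso f' f'') : AIso f f'' :=
  ⟨h.some ≪≫ h'.some⟩

theorem AIso.map {D : Type*} [Category D] (F : C ⥤ D) {f : A ⟶ B} {f' : A' ⟶ B'} (h : AIso f f') :
    AIso (F.map f) (F.map f') := ⟨F.mapArrow.mapIso h.some⟩

theorem AIso.of_natIso {D : Type*} [Category D] {F G : C ⥤ D} (e : F ≅ G) (f : A ⟶ B) : AIso (F.map f) (G.map f) :=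
  AIso.mk (e.app A) (e.app B) (e.hom.naturality f).symm

theorem AIso.kernel_iso [HasZeroMorphisms C] [HasKernels C] {f : A ⟶ B} {f' : A' ⟶ B'} (h : AIso f f') :
    Nonempty (kernel f ≅ kernel f') := by
  obtain ⟨e⟩ := h
  exact ⟨kernel.mapIso f f' (Arrow.leftFunc.mapIso e) (Arrow.rightFunc.mapIso e) e.hom.w.symm⟩

end AIso

variable {k : Type u} [Field k] {X W : Scheme.{u}} [X.Over (Spec (CommRingCat.of k))] [W.Over (Spec (CommRingCat.of k))]

/-- Fibres of a restricted morphism. -/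
theorem aiso_res {T V : Scheme.{u}} (q : T ⟶ Spec (CommRingCat.of k)) (h : V ⟶ T) {A G : (Pic13.prodK k X q).Modules}
    (u : A ⟶ G) {t : Spec (CommRingCat.of k) ⟶ V} (ht : t ≫ h ≫ q = 𝟙 _) {s : Spec (CommRingCat.of k) ⟶ T}
    (hs : s ≫ q = 𝟙 _) (he : t ≫ h = s) :
    AIso ((Scheme.Modules.pullback (Pic13.sliceAt k X (h ≫ q) t ht)).map ((Scheme.Modules.pullback (res q h)).map u))
      ((Scheme.Modules.pullback (Pic13.sliceAt k X q s hs)).map u) := by
  subst he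
  exact AIso.of_natIso (Scheme.Modules.pullbackComp _ _ ≪≫ Scheme.Modules.pullbackCongr (slice_res q h t ht)) u

variable [IsProper (X ↘ Spec (CommRingCat.of k))]

/-- The kernels of the fibres of one morphism form a bounded family. -/
theorem bd_kernel {T : Scheme.{u}} (q : T ⟶ Spec (CommRingCat.of k)) [IsAffine T] [LocallyOfFiniteType q]
    {A G : (Pic13.prodK k X q).Modules} (hA : Coh.IsCoh A) (hG : Coh.IsCoh G) (u : A ⟶ G) :
    Bd (k := k) (fun M : X.Modules => ∃ (t : Spec (CommRingCat.of k) ⟶ T) (ht : t ≫ q = 𝟙 _),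
      Nonempty (kernel ((Scheme.Modules.pullback (Pic13.sliceAt k X q t ht)).map u) ≅ M)) := by
  haveI : QuasiCompact q := inferInstance
  refine (covers_flat q G hG).bd fun V h _ hl => ?_
  haveI := hl
  haveI := isLocallyNoetherian_prod (k := k) (X := X) q
  haveI := isLocallyNoetherian_prod (k := k) (X := X) (h ≫ q)
  by_cases hGf : FlatMod.IsFlatOver (pullback.snd (X ↘ Spec (CommRingCat.of k)) (h ≫ q))
      ((Scheme.Modules.pullback (res q h)).obj G)
  swap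
  · exact ⟨0, Fin.elim0, fun M ⟨_, _, hP, _⟩ => absurd hP hGf⟩
  let r := Scheme.Modules.pullback (res (X := X) q h)
  let u₁ := r.map u
  have hA₁ : Coh.IsCoh (r.obj A) := Groth.L16.AffineBC.isCoh_pullback _ hA
  have hG₁ : Coh.IsCoh (r.obj G) := Groth.L16.AffineBC.isCoh_pullback _ hG
  have hC₁ : Coh.IsCoh (cokernel u₁) := (Groth.L16.CohKernel.isCoh_kernel_cokernel hA₁ hG₁ u₁).2
  haveI : QuasiCompact (h ≫ q) := inferInstance
  let S : (t : Spec (CommRingCat.of k) ⟶ V) → t ≫ h ≫ q = 𝟙 _ → X.Modules → Prop := fun t ht M =>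
    Nonempty (kernel ((Scheme.Modules.pullback (Pic13.sliceAt k X (h ≫ q) t ht)).map u₁) ≅ M)
  refine Bd.mono (P := fun M => ∃ t ht, S t ht M) ?_ fun M ⟨t, ht, _, ⟨e⟩⟩ => ⟨M, ⟨t, ht, ?_⟩, ⟨Iso.refl _⟩⟩
  swap
  · exact ⟨(AIso.kernel_iso (aiso_res q h u ht ((Category.assoc _ _ _).trans ht) rfl)).some ≪≫ e⟩
  refine (covers_flat (h ≫ q) (cokernel u₁) hC₁).bd fun V' h' hV' hl' => ?_
  haveI := hV'; haveI := hl'
  haveI := isLocallyNoetherian_prod (k := k) (X := X) (h' ≫ h ≫ q)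
  let r' := Scheme.Modules.pullback (res (X := X) (h ≫ q) h')
  let u₂ := r'.map u₁
  have hA₂ : Coh.IsCoh (r'.obj (r.obj A)) := Groth.L16.AffineBC.isCoh_pullback _ hA₁
  have hG₂ : Coh.IsCoh (r'.obj (r.obj G)) := Groth.L16.AffineBC.isCoh_pullback _ hG₁
  refine (Bd.single (⟨V', h' ≫ h ≫ q, kernel u₂, hV', hl', (Groth.L16.CohKernel.isCoh_kernel_cokernel hA₂ hG₂ u₂).1⟩ : Pc k X)).mono
    fun M hM => ⟨M, ?_, ⟨Iso.refl _⟩⟩
  obtain ⟨t, ht, hC, ⟨e⟩⟩ := hM
  haveI : r'.Additive := (Scheme.Modules.pullbackPushforwardAdjunction _).left_adjoint_additive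
  haveI : PreservesFiniteColimits r' :=
    (Scheme.Modules.pullbackPushforwardAdjunction _).leftAdjoint_preservesColimits.{0, 0}.preservesFiniteColimits
  have hC₂ : FlatMod.IsFlatOver (pullback.snd (X ↘ Spec (CommRingCat.of k)) (h' ≫ h ≫ q)) (cokernel u₂) :=
    Groth.L29.DC.RelBC.isFlatOver_of_iso _ (PreservesCokernel.iso r' u₁) hC
  have hG₂f : FlatMod.IsFlatOver (pullback.snd (X ↘ Spec (CommRingCat.of k)) (h' ≫ h ≫ q)) (r'.obj (r.obj G)) :=
    Groth.L29.DC.RelBC.isFlatOver_pullback (isPullback_res (h ≫ q) h') hGf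
  obtain ⟨e1⟩ := Exact.pullback_kernel_iso (isPullback_slice (h' ≫ h ≫ q) t ht) u₂ hG₂f hC₂
  obtain ⟨e2⟩ := AIso.kernel_iso (aiso_res (h ≫ q) h' u₁ ht ((Category.assoc _ _ _).trans ht) rfl)
  exact ⟨t, ht, ⟨e1 ≪≫ e2 ≪≫ e⟩⟩

end Groth.L11.Bdd
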