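import Groth.Agent.L11.NumOrth.Main
import Groth.Agent.L11.NumOrth.Hyperplane
import Groth.Agent.L22.Reg.Base
import Groth.Agent.L22.Big.Growth
import Groth.Agent.L21.RR.Twist
import Groth.Agent.L03.SurfAmple.Zero

/-!
# The generic hyperplane section is integral
-/

set_option autoImplicit false
set_option backward.isDefEq.respectTransparency false
set_option linter.style.haveILetI false
set_option linter.unusedSectionVars false

universe u

open CategoryTheory CategoryTheory.Limits AlgebraicGeometry TopologicalSpace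
open scoped TensorProduct

noncomputable section

namespace Groth.L11.Bdd.Gen

open Groth.L22.Inter Groth.L22.Nef Groth.L22.Big Groth.L03.Euler Groth.L16 Groth.L11.NumOrth
open Groth.L18.Frame (rs ro rs_rs rs_self rs_smul IsFrame pull pull_rs pull_smul)
open Groth.L18.GenLoc (secOf secOf_homOfSection genLocus_inf_eq)
open Groth.L00.Tensor (tensorIso tensorAssoc tensorComm tensorUnitRight tensorUnitLeft)

section Chart

variable (k : Type u) [Field k] {X : Scheme.{u}} [X.Over (Spec (CommRingCat.of k))] (ι : Type u)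
variable {V : X.Opens} (hV : IsAffineOpen V)

/-- The functions over an affine open are the tensor product. -/
theorem exists_chart_iso :
    letI := chartAlg k hV
    IsAffineOpen (proj k ι ⁻¹ᵁ V) ∧
    ∃ Φ : Γ(XK k ι X, proj k ι ⁻¹ᵁ V) ≃+* Γ(X, V) ⊗[k] Kt k ι,
      (∀ b, Φ ((proj k ι).app V b) = b ⊗ₜ 1) ∧ (∀ w, Φ (ro le_top (cst k ι w)) = 1 ⊗ₜ w) := by
  letI := chartAlg k hV
  let T := Γ(X, V) ⊗[k] Kt k ι
  let inl : Spec (CommRingCat.of T) ⟶ Spec Γ(X, V) :=
    Spec.map (CommRingCat.ofHom (Algebra.TensorProduct.includeLeftRingHom : Γ(X, V) →+* T))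
  let inr : Spec (CommRingCat.of T) ⟶ Spec (CommRingCat.of (Kt k ι)) :=
    Spec.map (CommRingCat.ofHom (Algebra.TensorProduct.includeRight (R := k)).toRingHom)
  have h1 : IsPullback inl inr (Spec.map (CommRingCat.ofHom (algebraMap k Γ(X, V)))) (ext k ι) :=
    isPullback_SpecMap_of_isPushout _ _ _ _ (CommRingCat.isPushout_tensorProduct k Γ(X, V) (Kt k ι))
  have hb : Spec.map (CommRingCat.ofHom (algebraMap k Γ(X, V))) = hV.fromSpec ≫ (X ↘ Spec (CommRingCat.of k)) :=
    Spec.map_preimage _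
  rw [hb] at h1
  let ψ : Spec (CommRingCat.of T) ⟶ XK k ι X :=
    pullback.lift (inl ≫ hV.fromSpec) inr (by rw [Category.assoc]; exact h1.w)
  have hψ1 : ψ ≫ proj k ι = inl ≫ hV.fromSpec := pullback.lift_fst _ _ _
  have hψ2 : ψ ≫ pullback.snd (X ↘ Spec (CommRingCat.of k)) (ext k ι) = inr := pullback.lift_snd _ _ _
  have sq : IsPullback inl ψ hV.fromSpec (proj k ι) :=
    IsPullback.of_bot (v₂₁ := pullback.snd _ _) (v₂₂ := X ↘ Spec (CommRingCat.of k))
      (by rw [hψ2]; exact h1) hψ1.symm (IsPullback.of_hasPullback _ _).flip.flip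
  haveI : IsOpenImmersion ψ := MorphismProperty.of_isPullback (P := @IsOpenImmersion) sq inferInstance
  have hrange : Set.range ψ = proj k ι ⁻¹' V := by
    have h2 : Set.range ψ = Set.range (pullback.snd hV.fromSpec (proj k ι)) := by
      rw [← sq.isoPullback_hom_snd, Scheme.Hom.comp_base, TopCat.coe_comp,
        Set.range_comp, Set.range_eq_univ.2 sq.isoPullback.hom.surjective, Set.image_univ]
    rw [h2, Scheme.Pullback.range_snd, hV.range_fromSpec]
  have hU : IsAffineOpen (proj k ι ⁻¹ᵁ V) := by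
    have h := isAffineOpen_opensRange ψ
    rwa [show ψ.opensRange = proj k ι ⁻¹ᵁ V from Opens.ext (by rw [Scheme.Hom.coe_opensRange, hrange]; rfl)] at h
  have hle : (⊤ : (Spec (CommRingCat.of T)).Opens) ≤ ψ ⁻¹ᵁ proj k ι ⁻¹ᵁ V := fun p _ => by
    show ψ p ∈ proj k ι ⁻¹' (V : Set X)
    rw [← hrange]
    exact Set.mem_range_self p
  let e := ψ.appLE (proj k ι ⁻¹ᵁ V) ⊤ hle ≫ (Scheme.ΓSpecIso (.of T)).hom
  haveI : IsIso (ψ.appLE (proj k ι ⁻¹ᵁ V) ⊤ hle) := by
    haveI : IsIso (ψ.app (proj k ι ⁻¹ᵁ V)) :=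
      ψ.isIso_app _ (by intro x hx; rw [← SetLike.mem_coe, Scheme.Hom.coe_opensRange, hrange]; exact hx)
    haveI : IsIso ((Spec (CommRingCat.of T)).presheaf.map (homOfLE hle).op) := by
      rw [show homOfLE hle = eqToHom (le_antisymm hle le_top) from Subsingleton.elim _ _, eqToHom_op]
      infer_instance
    exact inferInstanceAs (IsIso (ψ.app (proj k ι ⁻¹ᵁ V) ≫ _))
  haveI : IsIso e := inferInstanceAs (IsIso (ψ.appLE (proj k ι ⁻¹ᵁ V) ⊤ hle ≫ _))
  refine ⟨hU, (asIso e).commRingCatIsoToRingEquiv, fun b => ?_, fun w => ?_⟩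
  · show ((proj k ι).app V ≫ ψ.appLE (proj k ι ⁻¹ᵁ V) ⊤ hle ≫ (Scheme.ΓSpecIso (.of T)).hom) b = _
    rw [← Category.assoc, ← Scheme.Hom.comp_appLE]
    have h4 : (inl ≫ hV.fromSpec).appLE V ⊤ (by rw [← hψ1]; exact hle) ≫ (Scheme.ΓSpecIso (.of T)).hom =
        CommRingCat.ofHom (Algebra.TensorProduct.includeLeftRingHom : Γ(X, V) →+* T) := by
      rw [Scheme.Hom.comp_appLE, hV.fromSpec_app_self, Category.assoc, Category.assoc,
        Scheme.Hom.map_appLE_assoc]
      show (Scheme.ΓSpecIso Γ(X, V)).inv ≫ inl.appLE ⊤ ⊤ le_top ≫ (Scheme.ΓSpecIso (.of T)).hom = _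
      rw [show inl.appLE ⊤ ⊤ le_top = inl.appTop from inl.app_eq_appLE.symm]
      show (Scheme.ΓSpecIso Γ(X, V)).inv ≫ (Spec.map (CommRingCat.ofHom
        (Algebra.TensorProduct.includeLeftRingHom : Γ(X, V) →+* T))).appTop ≫ (Scheme.ΓSpecIso (.of T)).hom = _
      rw [Scheme.ΓSpecIso_naturality]
      exact Iso.inv_hom_id_assoc _ _
    simp only [hψ1]
    rw [h4]
    rfl
  · show ((Spec (CommRingCat.of (Kt k ι))).presheaf.map (𝟙 _) ≫
      (pullback.snd (X ↘ Spec (CommRingCat.of k)) (ext k ι)).appTop ≫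
      (XK k ι X).presheaf.map (homOfLE le_top).op ≫ ψ.appLE (proj k ι ⁻¹ᵁ V) ⊤ hle ≫
        (Scheme.ΓSpecIso (.of T)).hom) ((Scheme.ΓSpecIso (.of (Kt k ι))).inv w) = _
    rw [CategoryTheory.Functor.map_id, Category.id_comp, Scheme.Hom.map_appLE_assoc, ← Category.assoc,
      show ψ.appLE ⊤ ⊤ le_top = ψ.appTop from (ψ.app_eq_appLE).symm, ← Scheme.Hom.comp_appTop, hψ2,
      Scheme.ΓSpecIso_naturality]
    exact congrArg (fun z => (Algebra.TensorProduct.includeRight (R := k) (A := Γ(X, V)) (B := Kt k ι)) z)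
      (congrArg (fun f : (CommRingCat.of (Kt k ι)) ⟶ CommRingCat.of (Kt k ι) => f w)
        (Scheme.ΓSpecIso (.of (Kt k ι))).inv_hom_id)

variable [IsIntegral X] {ι} [Fintype ι] {M : X.Modules} (s : ι → (Coh.structureModule X ⟶ M))
  [IsIntegral (XK k ι X)]

include hV in
/-- The ideal of the member is radical where one section is a frame. -/
theorem isRadical_ideal (hM : PicF.IsInvertible M) {j : ι} (hVj : V ≤ CohB1.genLocus M (s j)) [Nonempty V] :
    ∃ hU : IsAffineOpen (proj k ι ⁻¹ᵁ V),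
      ((PicF2.zeroScheme ((Scheme.Modules.pullback (proj k ι)).obj M) (member k s)).ideal ⟨_, hU⟩).IsRadical := by
  have he := (Groth.L18.GenLoc.isFrame_genLocus (s j)).mono hVj
  rw [rs_rs] at he
  choose f hf using fun i => he.exists_coeff le_rfl (rs M le_top (secOf (s i)))
  simp only [rs_self] at hf
  obtain ⟨hU, Φ, hleft, hright⟩ := exists_chart_iso k ι hV
  letI := chartAlg k hV
  refine ⟨hU, ?_⟩
  let a : Γ(XK k ι X, proj k ι ⁻¹ᵁ V) := ∑ i, ro le_top (cst k ι (tvar k ι i)) * (proj k ι).app V (f i)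
  set e := rs M (le_top : V ≤ ⊤) (secOf (s j)) with hedef
  have ha : a • pull (proj k ι) M V e =
      rs ((Scheme.Modules.pullback (proj k ι)).obj M) le_top (secOf (member k s)) := by
    rw [member, secOf_homOfSection, show rs ((Scheme.Modules.pullback (proj k ι)).obj M)
        (le_top : proj k ι ⁻¹ᵁ V ≤ ⊤) (∑ i, cst k ι (tvar k ι i) • psec k s i) = _ from map_sum _ _ _, Finset.sum_smul]
    refine Finset.sum_congr rfl fun i _ => ?_
    show _ = rs ((Scheme.Modules.pullback (proj k ι)).obj M) (le_top : proj k ι ⁻¹ᵁ V ≤ ⊤)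
      (cst k ι (tvar k ι i) • psec k s i)
    rw [rs_smul, mul_smul, Groth.L18.Ample.coeff_pull (proj k ι) (s i) (hf i)]
    rfl
  have hΦ : Φ a = sigma (k := k) f := by
    simp only [a, map_sum, map_mul, hleft, hright, sigma, Algebra.TensorProduct.tmul_mul_tmul, one_mul, mul_one]
  rw [Groth.L03.SurfAmple.zeroScheme_ideal_span (Groth.L18.Ample.isInvertible_pullback _ hM) (member k s)
    (V := ⟨_, hU⟩) (he.pullback (proj k ι) M) ha]
  by_cases hu : IsUnit (sigma (k := k) f)
  · rw [Ideal.span_singleton_eq_top.2 (by rwa [← hΦ, MulEquiv.isUnit_map] at hu)]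
    intro x _; trivial
  · have hfj : IsUnit (f j) := by
      rw [he.inj le_rfl (a := f j) (b := 1) (by rw [rs_self, hf j, one_smul])]
      exact isUnit_one
    obtain ⟨hp, -⟩ := sigma_prime (k := k) hfj hu
    have h2 : Ideal.span {a} = (Ideal.span {sigma (k := k) f}).comap Φ.toRingHom := by
      ext x
      simp only [Ideal.mem_comap, Ideal.mem_span_singleton, RingEquiv.toRingHom_eq_coe, RingHom.coe_coe, ← hΦ]
      exact (map_dvd_iff Φ).symm
    rw [h2]
    haveI := hp
    exact (Ideal.IsPrime.comap _).isRadical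

end Chart

variable (k : Type u) [Field k] {n : ℕ} {X : Scheme.{u}} [X.Over (Spec (CommRingCat.of k))]
  (i : X ⟶ CohB1.ProjSpace n k)

/-- The index set of the coordinates. -/
abbrev J (n : ℕ) : Type u := ULift.{u} (Fin (n + 1))

/-- The field of the generic hyperplane. -/
abbrev K (n : ℕ) : Type u := Kt k (J.{u} n)

/-- The coordinate sections of `O(1)`. -/
def coord (j : J.{u} n) : Coh.structureModule X ⟶ OX i 1 :=
  Groth.L18.Ample.pullHom i (ProjTwist.sect (CohB1.polyGrading n k) ⟨_, ProjSpace.X_mem n k j.down⟩)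

variable {k}

theorem genLocus_coord (j : J.{u} n) :
    CohB1.genLocus (OX i 1) (coord k i j) = i ⁻¹ᵁ Proj.basicOpen (CohB1.polyGrading n k) (MvPolynomial.X j.down) := by
  rw [coord, Groth.L18.Ample.genLocus_pullHom i (ProjTwist.isInvertible_twistProjSpace n k 1)]
  exact congrArg (fun U => i ⁻¹ᵁ U) (ProjTwist.genLocus_sect (CohB1.polyGrading n k) (Groth.L22.Reg.hcov n k) _)

theorem exists_coord (x : X) : ∃ j, x ∈ CohB1.genLocus (OX i 1) (coord k i j) := by
  obtain ⟨j, hj⟩ := ProjSpace.exists_mem_basicOpen_X n k (i x)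
  exact ⟨ULift.up j, by rw [genLocus_coord]; exact hj⟩

variable (k)

instance : Infinite (K k n) :=
  Infinite.of_injective (algebraMap (MvPolynomial (J.{u} n) k) (K k n)) (IsFractionRing.injective _ _)

variable [IsClosedImmersion i] (hi : i ≫ CohB1.ProjSpace.toSpec n k = X ↘ Spec (CommRingCat.of k))

/-- The extended embedding. -/
def iK : XK k (J.{u} n) X ⟶ CohB1.ProjSpace n (K k n) :=
  (Groth.L22.Reg.isPullback_gK (n := n) (k := k) (K := K k n)).lift (proj k (J.{u} n) ≫ i) (pullback.snd _ _)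
    (by rw [Category.assoc, show i ≫ (CohB1.ProjSpace n k ↘ Spec (CommRingCat.of k)) =
      X ↘ Spec (CommRingCat.of k) from hi]; exact pullback.condition)

theorem iK_fst : iK k i hi ≫ Groth.L22.Reg.gK n k (K k n) = proj k (J.{u} n) ≫ i := IsPullback.lift_fst _ _ _ _

theorem iK_snd : iK k i hi ≫ CohB1.ProjSpace.toSpec n (K k n) =
    XK k (J.{u} n) X ↘ Spec (CommRingCat.of (K k n)) := IsPullback.lift_snd _ _ _ _

theorem isPullback_iK : IsPullback (iK k i hi) (proj k (J.{u} n)) (Groth.L22.Reg.gK n k (K k n)) i := by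
  refine IsPullback.of_right (h₁₂ := CohB1.ProjSpace n (K k n) ↘ Spec (CommRingCat.of (K k n)))
    (h₂₂ := CohB1.ProjSpace n k ↘ Spec (CommRingCat.of k))
    (v₁₃ := Spec.map (CommRingCat.ofHom (algebraMap k (K k n)))) ?_ (iK_fst k i hi)
    Groth.L22.Reg.isPullback_gK.flip
  have e1 : iK k i hi ≫ (CohB1.ProjSpace n (K k n) ↘ Spec (CommRingCat.of (K k n))) = pullback.snd _ _ :=
    iK_snd k i hi
  have e2 : i ≫ (CohB1.ProjSpace n k ↘ Spec (CommRingCat.of k)) = X ↘ Spec (CommRingCat.of k) := hi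
  rw [e1, e2]
  exact (IsPullback.of_hasPullback (X ↘ Spec (CommRingCat.of k)) (ext k (J.{u} n))).flip

instance : IsClosedImmersion (iK k i hi) :=
  MorphismProperty.of_isPullback (P := @IsClosedImmersion) (isPullback_iK k i hi).flip inferInstance

/-- The extended twisting modules. -/
theorem nonempty_OX_pullback (d : ℤ) :
    Nonempty ((Scheme.Modules.pullback (proj k (J.{u} n))).obj (OX i d) ≅ OX (iK k i hi) d) := by
  obtain ⟨e⟩ := Groth.L22.Reg.nonempty_pullback_O (n := n) (algebraMap k (K k n)) d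
  exact ⟨(Scheme.Modules.pullbackComp (proj k (J.{u} n)) i).app _ ≪≫
    (Scheme.Modules.pullbackCongr (iK_fst k i hi).symm).app _ ≪≫
    ((Scheme.Modules.pullbackComp (iK k i hi) (Groth.L22.Reg.gK n k (K k n))).app _).symm ≪≫
    (Scheme.Modules.pullback (iK k i hi)).mapIso e⟩

variable [IsProper (X ↘ Spec (CommRingCat.of k))] [IsIntegral X] {d : ℕ}
  (hd : topologicalKrullDim X = ((d + 1 : ℕ) : WithBot ℕ∞))

include hd hi in
/-- The generic hyperplane section is integral of one dimension less. -/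
theorem exists_section : ∃ (_ : IsIntegral (XK k (J.{u} n) X)),
    topologicalKrullDim (XK k (J.{u} n) X) = ((d + 1 : ℕ) : WithBot ℕ∞) ∧
    ∃ (η : XK k (J.{u} n) X) (f : OX (iK k i hi) (-1) ⟶ Coh.structureModule (XK k (J.{u} n) X))
      (h : f ≫ ClSub.toSubscheme (pt η) = 0),
      topologicalKrullDim (closure ({η} : Set (XK k (J.{u} n) X))) = ((d : ℕ) : WithBot ℕ∞) ∧
      (ShortComplex.mk f (ClSub.toSubscheme (pt η)) h).ShortExact := by
  haveI := Groth.L21.RR.isNoetherian_of_proper (X := X) k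
  let ι := J.{u} n
  let g := proj (X := X) k ι
  let pb := Scheme.Modules.pullback g
  let M := OX i 1
  have hM : PicF.IsInvertible M := isInvertible_OX i 1
  let s := coord k i
  haveI : Surjective g := inferInstanceAs (Surjective (pullback.fst (X ↘ Spec (CommRingCat.of k)) (ext k ι)))
  obtain ⟨z₀, hz₀⟩ := g.surjective (genericPoint X)
  haveI : Nonempty (XK k ι X) := ⟨z₀⟩
  haveI hXKi := isIntegral_XK k ι (X := X)
  haveI := Groth.L21.RR.isNoetherian_of_proper (X := XK k ι X) (Kt k ι)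
  have hdX : topologicalKrullDim (closure ({genericPoint X} : Set X)) = ((d + 1 : ℕ) : WithBot ℕ∞) := by
    rw [(genericPoint_spec X).def, ← hd]
    exact IsHomeomorph.topologicalKrullDim_eq _ (Homeomorph.Set.univ X).isHomeomorph
  have hξ : g (genericPoint (XK k ι X)) = genericPoint X := by
    obtain ⟨_, ⟨V, hV, rfl⟩, hzV, -⟩ := X.isBasis_affineOpens.exists_subset_of_mem_open
      (Set.mem_univ (g (genericPoint (XK k ι X)))) isOpen_univ
    haveI : Nonempty V := ⟨⟨_, hzV⟩⟩
    obtain ⟨η, hη, hgη, -, -⟩ := exists_generic_over k ι hV hzV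
    rwa [← (Specializes.antisymm ((genericPoint_spec (XK k ι X)).specializes trivial) hη).eq] at hgη
  have hdK : topologicalKrullDim (XK k ι X) = ((d + 1 : ℕ) : WithBot ℕ∞) := by
    have h := Groth.L22.Cyc.dim_closure_baseChange k (Kt k ι) (X ↘ Spec (CommRingCat.of k)) _ _ g
      (IsPullback.of_hasPullback (X ↘ Spec (CommRingCat.of k)) (ext k ι))
      (z' := genericPoint (XK k ι X)) (fun w hw => (hw.antisymm ((genericPoint_spec (XK k ι X)).specializes trivial)).eq)
      (by rw [hξ]; exact hdX)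
    rw [(genericPoint_spec (XK k ι X)).def] at h
    rw [← h]
    exact (IsHomeomorph.topologicalKrullDim_eq _ (Homeomorph.Set.univ (XK k ι X)).isHomeomorph).symm
  refine ⟨hXKi, hdK, ?_⟩
  let σ := member k s
  let N := pb.obj M
  have hN : PicF.IsInvertible N := Groth.L18.Ample.isInvertible_pullback g hM
  obtain ⟨eN⟩ := nonempty_OX_pullback k i hi 1
  have hNa : CohB1.IsAmple N := Groth.L18.Ample.isAmple_of_iso eN.symm (isAmple_OX_one _)
  obtain ⟨j₀, hj₀⟩ := exists_coord i (genericPoint X)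
  have hση := member_generic k s hM hj₀
  haveI : Mono σ := Groth.L22.Nakai.mono_of_injective (Groth.L18.Ample.isInvertible_structureModule _) σ
    (bijective_stalk_section σ hση).1
  obtain ⟨hD, hDη⟩ := cokernel_facts (Kt k ι) (Groth.L18.Ample.isInvertible_structureModule _) hN σ
  haveI : Coh.IsQCoh N := (Groth.L18.Ample.isCoh_of_isInvertible hN).1
  have hsupp : ∀ z, z ∈ CohB1.support (cokernel σ) ↔ z ∉ CohB1.genLocus _ σ := fun z => by
    rw [← not_iff_not, not_not, Groth.L21.RR.mem_genLocus_iff hN, notMem_support_cokernel_iff]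
    rfl
  have hSc := CohSupport.isClosed_support (cokernel σ) hD.2
  have hd1 : topologicalKrullDim (CohB1.support (cokernel σ)) ≤ ((d : ℕ) : WithBot ℕ∞) :=
    dim_le_of_generic_notMem hSc hDη hdK.le
  have hmaxdim : ∀ w ∈ CohB1.support (cokernel σ), (∀ w' ∈ CohB1.support (cokernel σ), w' ⤳ w → w' = w) →
      topologicalKrullDim (closure ({w} : Set (XK k ι X))) = ((d : ℕ) : WithBot ℕ∞) := by
    intro w hw hmax
    obtain ⟨r, hr, hr'⟩ := dim_closure_eq_add_one (Kt k ι) hN σ (y := genericPoint (XK k ι X)) (z := w) hση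
      (by rw [(genericPoint_spec (XK k ι X)).def]; trivial) ((hsupp w).1 hw)
      (fun w' _ hw' h => hmax w' ((hsupp w').2 hw') h)
    rw [(genericPoint_spec (XK k ι X)).def,
      IsHomeomorph.topologicalKrullDim_eq _ (Homeomorph.Set.univ (XK k ι X)).isHomeomorph, hdK] at hr'
    have : d + 1 = r + 1 := by exact_mod_cast hr'
    rw [hr, show r = d by omega]
  have hne : (CohB1.support (cokernel σ)).Nonempty := by
    rw [Set.nonempty_iff_ne_empty]
    intro h0
    have hpos := altT_ample_pos (Kt k ι) hNa hdK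
    rw [show (fun _ : Fin (d + 1) => N) = Fin.cons N (fun _ : Fin d => N) from
        funext fun l => Fin.cases rfl (fun _ => rfl) l, altT_cons_coker (Kt k ι) hN (fun _ => hN) σ,
      altT, twEuler_of_isZero (Kt k ι) (fun _ => hN) ((Groth.L00.Stk.isZero_iff _).2 fun z => by
        refine @ModuleCat.isZero_of_subsingleton _ _ _ ?_
        exact not_not.1 fun hz => Set.eq_empty_iff_forall_notMem.1 h0 z hz), map_zero] at hpos
    exact lt_irrefl _ hpos
  obtain ⟨w₀, hw₀⟩ := hne
  obtain ⟨η, hηS, -, hηmax⟩ := exists_max_in_closed hSc hw₀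
  have hηd := hmaxdim η hηS hηmax
  have hS : CohB1.support (cokernel σ) = closure {η} := by
    refine Set.Subset.antisymm (fun z hz => ?_) (closure_minimal (Set.singleton_subset_iff.2 hηS) hSc)
    obtain ⟨w, hw, hwz, hwmax⟩ := exists_max_in_closed hSc hz
    obtain ⟨j, hj⟩ := exists_coord i (g w)
    obtain ⟨j', hj'⟩ := exists_coord i (g η)
    obtain ⟨ζ, hζ, hζw, hζη⟩ := exists_member_generic k s ((hsupp w).1 hw) ((hsupp η).1 hηS) hj hj'
    have e1 := hwmax ζ ((hsupp ζ).2 hζ) hζw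
    have e2 := hηmax ζ ((hsupp ζ).2 hζ) hζη
    exact specializes_iff_mem_closure.1 (by rw [← e2, e1]; exact hwz)
  let I := PicF2.zeroScheme N σ
  have hcov : ∀ x : X, ∃ V : X.affineOpens, x ∈ V.1 ∧ ∃ j, V.1 ≤ CohB1.genLocus M (s j) := fun x => by
    obtain ⟨j, hj⟩ := exists_coord i x
    obtain ⟨_, ⟨V, hV, rfl⟩, hxV, hVj⟩ :=
      X.isBasis_affineOpens.exists_subset_of_mem_open hj (CohB1.genLocus M (s j)).2
    exact ⟨⟨V, hV⟩, hxV, j, hVj⟩
  choose V hxV j hVj using hcov
  have hrad : ∀ x, ∃ hU : IsAffineOpen (g ⁻¹ᵁ (V x).1), (I.ideal ⟨_, hU⟩).IsRadical := fun x =>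
    haveI : Nonempty (V x).1 := ⟨⟨x, hxV x⟩⟩
    isRadical_ideal k (V x).2 s hM (hVj x)
  choose hU hR using hrad
  have hI : I = pt η := by
    have h1 : I.radical = I :=
      Scheme.IdealSheafData.ext_of_iSup_eq_top (fun x => ⟨_, hU x⟩)
        (eq_top_iff.2 fun z _ => Opens.mem_iSup.2 ⟨g z, hxV (g z)⟩)
        fun x => by
          rw [Scheme.IdealSheafData.radical_ideal]
          exact (hR x).radical
    rw [← h1, ← Scheme.IdealSheafData.vanishingIdeal_support]
    refine congrArg Scheme.IdealSheafData.vanishingIdeal (Closeds.ext ?_)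
    show (I.support : Set (XK k ι X)) = closure {η}
    rw [Groth.L22.ZeroScheme.support_zeroScheme hN σ, ← hS]
    exact Set.ext fun z => (hsupp z).symm
  obtain ⟨eI⟩ := Groth.L03.SurfAmple.nonempty_tensor_zeroScheme hN σ hση
  rw [show PicF2.zeroScheme N σ = pt η from hI] at eI
  obtain ⟨eA⟩ := nonempty_OX_add (iK k i hi) (show (1 : ℤ) + -1 = 0 by norm_num)
  obtain ⟨e0⟩ := nonempty_OX_zero (iK k i hi)
  let e : OX (iK k i hi) (-1) ≅ ClSub.idealMod (pt η) :=
    (tensorUnitLeft _).symm ≪≫ tensorIso eI.symm (Iso.refl _) ≪≫ tensorAssoc _ _ _ ≪≫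
      tensorIso (Iso.refl _) (tensorIso eN (Iso.refl _) ≪≫ eA ≪≫ e0) ≪≫ tensorUnitRight _
  refine ⟨η, e.hom ≫ ClSub.idealModι (pt η),
    by rw [Category.assoc, show ClSub.idealModι (pt η) ≫ ClSub.toSubscheme (pt η) = 0 from kernel.condition _,
      comp_zero], hηd, ?_⟩
  refine ShortComplex.shortExact_of_iso ?_ (Groth.L21.RR.shortExact_idealSeq (pt η))
  exact ShortComplex.isoMk e.symm (Iso.refl _) (Iso.refl _)
    ((Iso.inv_hom_id_assoc _ _).trans (Category.comp_id _).symm)
    ((Category.id_comp _).trans (Category.comp_id _).symm)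

end Groth.L11.Bdd.Gen
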