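import Groth.Agent.L11.Bdd.Strata
import Groth.Agent.L15.Ref.Tensor
import Groth.Agent.L20.DescLocus.Main

/-!
# Operations on bounded families
-/

set_option autoImplicit false
set_option backward.isDefEq.respectTransparency false
set_option backward.isDefEq.respectTransparency.types false
set_option linter.style.haveILetI false
set_option linter.unusedSectionVars false

universe u

open CategoryTheory CategoryTheory.Limits AlgebraicGeometry TopologicalSpace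

noncomputable section

namespace Groth.L11.Bdd

open Groth.L11.PicFam (res res_fst res_snd isPullback_res fibre_res isPullback_slice)

variable {k : Type u} [Field k] {X W : Scheme.{u}} [X.Over (Spec (CommRingCat.of k))] [W.Over (Spec (CommRingCat.of k))]
  [IsProper (X ↘ Spec (CommRingCat.of k))] [IsProper (W ↘ Spec (CommRingCat.of k))]

/-- A piece moved to another base. -/
theorem Pc.exists_restrict (Φ : Pc k X) {V : Scheme.{u}} (q' : V ⟶ Spec (CommRingCat.of k)) [LocallyOfFiniteType q']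
    (h : V ⟶ Φ.T) (e : h ≫ Φ.q = q') :
    ∃ F : (Pic13.prodK k X q').Modules, Coh.IsCoh F ∧
      ∀ (t : Spec (CommRingCat.of k) ⟶ V) (ht : t ≫ q' = 𝟙 _) (ht' : (t ≫ h) ≫ Φ.q = 𝟙 _),
        Nonempty (Pic13.fibreMod k X q' t ht F ≅ Pic13.fibreMod k X Φ.q (t ≫ h) ht' Φ.F) := by
  subst e
  haveI := Φ.lft
  haveI := isLocallyNoetherian_prod (k := k) (X := X) (h ≫ Φ.q)
  exact ⟨_, Groth.L16.AffineBC.isCoh_pullback (Groth.L11.PicFam.res Φ.q h) Φ.coh, fun t ht ht' => fibre_res Φ.q h Φ.F ht ht' rfl⟩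

/-- Two bounded families on a common base. -/
theorem Bd.bind₂ {P : X.Modules → Prop} (hP : Bd (k := k) P) {Q : W.Modules → Prop} (hQ : Bd (k := k) Q)
    {Y : Scheme.{u}} [Y.Over (Spec (CommRingCat.of k))] (R : X.Modules → W.Modules → Y.Modules → Prop)
    (h : ∀ (T : Scheme.{u}) (q : T ⟶ Spec (CommRingCat.of k)), IsAffine T → LocallyOfFiniteType q →
      ∀ (F : (Pic13.prodK k X q).Modules) (G : (Pic13.prodK k W q).Modules), Coh.IsCoh F → Coh.IsCoh G →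
        Bd (k := k) (fun M : Y.Modules => ∃ (t : Spec (CommRingCat.of k) ⟶ T) (ht : t ≫ q = 𝟙 _) (L : X.Modules)
          (N : W.Modules), Nonempty (Pic13.fibreMod k X q t ht F ≅ L) ∧
            Nonempty (Pic13.fibreMod k W q t ht G ≅ N) ∧ R L N M)) :
    Bd (k := k) (fun M : Y.Modules => ∃ L N, P L ∧ Q N ∧ R L N M) := by
  obtain ⟨m, Φ, hΦ⟩ := hP
  obtain ⟨n, Ψ, hΨ⟩ := hQ
  have key : ∀ ab : Fin m × Fin n,
      Bd (k := k) (fun M : Y.Modules => ∃ L N, (Φ ab.1).Mem L ∧ (Ψ ab.2).Mem N ∧ R L N M) := fun ab => by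
    let A := Φ ab.1
    let B := Ψ ab.2
    haveI := A.aff; haveI := A.lft; haveI := B.aff; haveI := B.lft
    let T := pullback A.q B.q
    let q : T ⟶ Spec (CommRingCat.of k) := pullback.fst A.q B.q ≫ A.q
    haveI : IsAffine T := inferInstance
    haveI : LocallyOfFiniteType q := inferInstanceAs (LocallyOfFiniteType (pullback.fst A.q B.q ≫ A.q))
    obtain ⟨F, hF, hFf⟩ := A.exists_restrict q (pullback.fst _ _) rfl
    obtain ⟨G, hG, hGf⟩ := B.exists_restrict q (pullback.snd _ _) pullback.condition.symm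
    refine (h T q inferInstance inferInstance F G hF hG).mono fun M hM => ⟨M, ?_, ⟨Iso.refl _⟩⟩
    obtain ⟨L, N, ⟨a, ha, ⟨ea⟩⟩, ⟨b, hb, ⟨eb⟩⟩, hR⟩ := hM
    let t : Spec (CommRingCat.of k) ⟶ T := pullback.lift a b (ha.trans hb.symm)
    have ta : t ≫ pullback.fst A.q B.q = a := pullback.lift_fst _ _ _
    have tb : t ≫ pullback.snd A.q B.q = b := pullback.lift_snd _ _ _
    have ht : t ≫ q = 𝟙 _ := by rw [← Category.assoc, ta, ha]
    obtain ⟨e1⟩ := hFf t ht (by rw [ta]; exact ha)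
    obtain ⟨e2⟩ := hGf t ht (by rw [tb]; exact hb)
    have c1 : ∀ (a' : Spec (CommRingCat.of k) ⟶ A.T) (h' : a' ≫ A.q = 𝟙 _), a' = a →
        Nonempty (Pic13.fibreMod k X A.q a' h' A.F ≅ L) := fun a' h' e => by subst e; exact ⟨ea⟩
    have c2 : ∀ (b' : Spec (CommRingCat.of k) ⟶ B.T) (h' : b' ≫ B.q = 𝟙 _), b' = b →
        Nonempty (Pic13.fibreMod k W B.q b' h' B.F ≅ N) := fun b' h' e => by subst e; exact ⟨eb⟩
    exact ⟨t, ht, L, N, ⟨e1 ≪≫ (c1 _ _ ta).some⟩, ⟨e2 ≪≫ (c2 _ _ tb).some⟩, hR⟩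
  refine Bd.iUnion key fun M hM => ?_
  obtain ⟨L, N, hL, hN, hR⟩ := hM
  obtain ⟨a, ha⟩ := hΦ L hL
  obtain ⟨b, hb⟩ := hΨ N hN
  exact ⟨(a, b), L, N, ha, hb, hR⟩

/-- Sums. -/
theorem Bd.biprod {P Q : X.Modules → Prop} (hP : Bd (k := k) P) (hQ : Bd (k := k) Q) :
    Bd (k := k) (fun M : X.Modules => ∃ L N, P L ∧ Q N ∧ Nonempty (L ⊞ N ≅ M)) := by
  refine Bd.bind₂ hP hQ (fun L N M => Nonempty (L ⊞ N ≅ M)) fun T q _ hq F G hF hG => ?_
  haveI := hq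
  haveI := isLocallyNoetherian_prod (k := k) (X := X) q
  refine (Bd.single (⟨T, q, F ⊞ G, inferInstance, hq, Groth.L16.Devissage.isCoh_biprod hF hG⟩ : Pc k X)).mono
    fun M hM => ⟨M, ?_, ⟨Iso.refl _⟩⟩
  obtain ⟨t, ht, L, N, ⟨eL⟩, ⟨eN⟩, ⟨e⟩⟩ := hM
  let σ := Scheme.Modules.pullback (Pic13.sliceAt k X q t ht)
  haveI : σ.Additive := (Scheme.Modules.pullbackPushforwardAdjunction _).left_adjoint_additive
  haveI : PreservesBinaryBiproduct F G σ := preservesBinaryBiproduct_of_preservesBiproduct σ F G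
  exact ⟨t, ht, ⟨σ.mapBiprod F G ≪≫ biprod.mapIso eL eN ≪≫ e⟩⟩

/-- Tensor products with a fixed coherent module. -/
theorem Bd.tensor {P : X.Modules → Prop} (hP : Bd (k := k) P) {N : X.Modules} (hN : Coh.IsCoh N) :
    Bd (k := k) (fun M : X.Modules => ∃ L, P L ∧ Nonempty (CohB1.tensorMod N L ≅ M)) := by
  refine hP.bind (fun L M => Nonempty (CohB1.tensorMod N L ≅ M)) fun Φ => ?_
  haveI := Φ.lft; haveI := Φ.aff
  haveI := Groth.L21.RR.isNoetherian_of_proper (X := X) k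
  haveI := isLocallyNoetherian_prod (k := k) (X := X) Φ.q
  let p := pullback.fst (X ↘ Spec (CommRingCat.of k)) Φ.q
  refine (Bd.single (⟨Φ.T, Φ.q, CohB1.tensorMod ((Scheme.Modules.pullback p).obj N) Φ.F, Φ.aff, Φ.lft,
    Groth.L15.Ref.isCoh_tensorMod (Groth.L16.AffineBC.isCoh_pullback p hN) Φ.coh⟩ : Pc k X)).mono
    fun M hM => ⟨M, ?_, ⟨Iso.refl _⟩⟩
  obtain ⟨L, -, ⟨t, ht, ⟨eL⟩⟩, ⟨e⟩⟩ := hM
  refine ⟨t, ht, ⟨(Groth.L29.DC.PullTensor.pullTensor _ _ _).symm ≪≫ Groth.L00.Tensor.tensorIso ?_ eL ≪≫ e⟩⟩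
  exact (Scheme.Modules.pullbackComp _ p).app N ≪≫ (Scheme.Modules.pullbackCongr (pullback.lift_fst _ _ _)).app N ≪≫
    (Scheme.Modules.pullbackId X).app N

/-- Inverse images. -/
theorem Bd.pullback (g : KMap k W X) {P : X.Modules → Prop} (hP : Bd (k := k) P) :
    Bd (k := k) (fun M : W.Modules => ∃ L, P L ∧ Nonempty ((Scheme.Modules.pullback g.f).obj L ≅ M)) := by
  refine hP.bind (fun L M => Nonempty ((Scheme.Modules.pullback g.f).obj L ≅ M)) fun Φ => ?_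
  haveI := Φ.lft; haveI := Φ.aff
  haveI := isLocallyNoetherian_prod (k := k) (X := X) Φ.q
  haveI := isLocallyNoetherian_prod (k := k) (X := W) Φ.q
  refine (Bd.single (⟨Φ.T, Φ.q, (Scheme.Modules.pullback (mapK g Φ.q)).obj Φ.F, Φ.aff, Φ.lft,
    Groth.L16.AffineBC.isCoh_pullback _ Φ.coh⟩ : Pc k W)).mono fun M hM => ⟨M, ?_, ⟨Iso.refl _⟩⟩
  obtain ⟨L, -, ⟨t, ht, ⟨eL⟩⟩, ⟨e⟩⟩ := hM
  exact ⟨t, ht, ⟨(Groth.L20.DescLocus.sqIso _ _ _ _ (slice_mapK g Φ.q t ht) Φ.F) ≪≫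
    (Scheme.Modules.pullback g.f).mapIso eL ≪≫ e⟩⟩

/-- To bound a family given by the points of a base it suffices to do so on the pieces of a cover. -/
theorem Covers.bd {T : Scheme.{u}} {q : T ⟶ Spec (CommRingCat.of k)}
    {P : ∀ (V : Scheme.{u}) (h : V ⟶ T) (t : Spec (CommRingCat.of k) ⟶ V), t ≫ h ≫ q = 𝟙 _ → Prop}
    [LocallyOfFiniteType q]
    (hc : Covers q P) {S : (t : Spec (CommRingCat.of k) ⟶ T) → t ≫ q = 𝟙 _ → X.Modules → Prop}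
    (h : ∀ (V : Scheme.{u}) (h : V ⟶ T), IsAffine V → LocallyOfFiniteType (h ≫ q) →
      Bd (k := k) (fun M : X.Modules => ∃ (t : Spec (CommRingCat.of k) ⟶ V) (ht : t ≫ h ≫ q = 𝟙 _),
        P V h t ht ∧ S (t ≫ h) ((Category.assoc _ _ _).trans ht) M)) :
    Bd (k := k) (fun M : X.Modules => ∃ (t : Spec (CommRingCat.of k) ⟶ T) (ht : t ≫ q = 𝟙 _), S t ht M) := by
  obtain ⟨m, V, hm, hV, hlift⟩ := hc
  refine Bd.iUnion (fun j => h (V j) (hm j) (hV j).1 (haveI := (hV j).2; inferInstance)) fun M hM => ?_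
  obtain ⟨t, ht, hS⟩ := hM
  obtain ⟨j, t', ht', he, hP⟩ := hlift t ht
  refine ⟨j, t', ht', hP, ?_⟩
  subst he
  exact hS

/-- Direct images. -/
theorem Bd.push (g : KMap k W X) {P : W.Modules → Prop} (hP : Bd (k := k) P) :
    Bd (k := k) (fun M : X.Modules => ∃ L, P L ∧ Nonempty ((Scheme.Modules.pushforward g.f).obj L ≅ M)) := by
  refine hP.bind (fun L M => Nonempty ((Scheme.Modules.pushforward g.f).obj L ≅ M)) fun Φ => ?_
  haveI := Φ.lft; haveI := Φ.aff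
  haveI := isLocallyNoetherian_prod (k := k) (X := W) Φ.q
  let S : (t : Spec (CommRingCat.of k) ⟶ Φ.T) → t ≫ Φ.q = 𝟙 _ → X.Modules → Prop := fun t ht M =>
    Nonempty ((Scheme.Modules.pushforward g.f).obj (Pic13.fibreMod k W Φ.q t ht Φ.F) ≅ M)
  refine Bd.mono (P := fun M => ∃ t ht, S t ht M) ?_ fun M hM => ⟨M, ?_, ⟨Iso.refl _⟩⟩
  swap
  · obtain ⟨L, -, ⟨t, ht, ⟨eL⟩⟩, ⟨e⟩⟩ := hM
    exact ⟨t, ht, ⟨(Scheme.Modules.pushforward g.f).mapIso eL ≪≫ e⟩⟩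
  refine (covers_flat Φ.q Φ.F Φ.coh).bd fun V h _ hl => ?_
  by_cases hfl : FlatMod.IsFlatOver (pullback.snd (W ↘ Spec (CommRingCat.of k)) (h ≫ Φ.q))
      ((Scheme.Modules.pullback (res Φ.q h)).obj Φ.F)
  swap
  · exact ⟨0, Fin.elim0, fun M ⟨_, _, hP, _⟩ => absurd hP hfl⟩
  haveI := hl
  let G := (Scheme.Modules.pullback (res Φ.q h)).obj Φ.F
  haveI := isLocallyNoetherian_prod (k := k) (X := W) (h ≫ Φ.q)
  have hG : Coh.IsCoh G := Groth.L16.AffineBC.isCoh_pullback _ Φ.coh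
  haveI : CompactSpace V := inferInstance
  haveI : QuasiCompact (h ≫ Φ.q) := inferInstance
  let S' : (t : Spec (CommRingCat.of k) ⟶ V) → t ≫ h ≫ Φ.q = 𝟙 _ → X.Modules → Prop := fun t ht M =>
    S (t ≫ h) ((Category.assoc _ _ _).trans ht) M
  refine Bd.mono (P := fun M => ∃ t ht, S' t ht M) ?_
    fun M ⟨t, ht, _, hS⟩ => ⟨M, ⟨t, ht, hS⟩, ⟨Iso.refl _⟩⟩
  refine (covers_good g (h ≫ Φ.q) G hG hfl).bd fun V' h' hV' hl' => ?_
  haveI := hl'; haveI := hV'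
  haveI := isLocallyNoetherian_prod (k := k) (X := X) (h' ≫ h ≫ Φ.q)
  haveI := isLocallyNoetherian_prod (k := k) (X := W) (h' ≫ h ≫ Φ.q)
  haveI := isProper_mapK g (h' ≫ h ≫ Φ.q)
  let G' := (Scheme.Modules.pullback (res (h ≫ Φ.q) h')).obj G
  refine (Bd.single (⟨V', h' ≫ h ≫ Φ.q, (Scheme.Modules.pushforward (mapK g (h' ≫ h ≫ Φ.q))).obj G', hV', hl',
    Groth.L16.Exist.isCoh_pushforward _ (Groth.L16.AffineBC.isCoh_pullback _ hG)⟩ : Pc k X)).mono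
    fun M hM => ⟨M, ?_, ⟨Iso.refl _⟩⟩
  obtain ⟨t, ht, hbc, ⟨e⟩⟩ := hM
  obtain ⟨e1⟩ := fibre_res (h ≫ Φ.q) h' G ht ((Category.assoc _ _ _).trans ht) rfl
  obtain ⟨e2⟩ := fibre_res Φ.q h Φ.F (t := t ≫ h') ((Category.assoc _ _ _).trans ht)
    ((Category.assoc _ _ _).trans ((Category.assoc _ _ _).trans ht)) rfl
  haveI : IsIso (CohBC.bc0 (mapK g (h' ≫ h ≫ Φ.q)) (Pic13.sliceAt k X (h' ≫ h ≫ Φ.q) t ht) g.f
    (Pic13.sliceAt k W (h' ≫ h ≫ Φ.q) t ht) (slice_mapK g (h' ≫ h ≫ Φ.q) t ht) G') := hbc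
  exact ⟨t, ht, ⟨asIso (CohBC.bc0 (mapK g (h' ≫ h ≫ Φ.q)) (Pic13.sliceAt k X (h' ≫ h ≫ Φ.q) t ht) g.f
    (Pic13.sliceAt k W (h' ≫ h ≫ Φ.q) t ht) (slice_mapK g (h' ≫ h ≫ Φ.q) t ht) G') ≪≫
    (Scheme.Modules.pushforward g.f).mapIso (e1 ≪≫ e2) ≪≫ e⟩⟩

end Groth.L11.Bdd
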