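import Groth.Agent.L11.Bdd.Embed
import Groth.Agent.L11.NumOrth.TauProj
import Groth.Agent.L17.ProjFormula
import Groth.Agent.L22.EnrSev.Twist

/-!
# Numerically trivial invertible modules on a proper scheme form a bounded family
-/

set_option autoImplicit false
set_option backward.isDefEq.respectTransparency false
set_option backward.isDefEq.respectTransparency.types false
set_option linter.style.haveILetI false
set_option linter.unusedSectionVars false

universe u

open CategoryTheory CategoryTheory.Limits AlgebraicGeometry TopologicalSpace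

noncomputable section

namespace Groth.L11.Bdd

open Groth.L11.NumOrth (NT)
open Groth.L00.Tensor (tensorRightF tensorIso tensorComm tensorUnitLeft)

variable {k : Type u} [Field k] {X : Scheme.{u}} [X.Over (Spec (CommRingCat.of k))]
  [IsProper (X ↘ Spec (CommRingCat.of k))]

/-- Kernels of all morphisms between two bounded families, the second pushed forward. -/
theorem Bd.kernels (D : PP k X) {PA : X.Modules → Prop} (hA : Bd (k := k) PA) {PH : D.W.Modules → Prop}
    (hH : Bd (k := k) PH) :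
    Bd (k := k) (fun K : X.Modules => ∃ A N, PA A ∧ PH N ∧
      ∃ φ : A ⟶ (Scheme.Modules.pushforward D.g).obj N, Nonempty (kernel φ ≅ K)) := by
  obtain ⟨O, hO⟩ := D.exists_ample
  refine Bd.bind₂ hA hH (fun A N K => ∃ φ : A ⟶ (Scheme.Modules.pushforward D.g).obj N, Nonempty (kernel φ ≅ K))
    fun T q hT hq F G hF hG => ?_
  haveI := hT; haveI := hq
  refine (bd_hom_kernel D.map q hO hF hG).mono fun K hK => ⟨K, ?_, ⟨Iso.refl _⟩⟩
  obtain ⟨t, ht, A, N, ⟨eA⟩, ⟨eN⟩, φ, ⟨e⟩⟩ := hK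
  exact ⟨t, ht, eA.hom ≫ φ ≫ (Scheme.Modules.pushforward D.g).map eN.inv,
    ⟨kernelIsIsoComp _ _ ≪≫ kernelCompMono _ _ ≪≫ e⟩⟩

variable (k X) in
/-- A module whose numerically trivial twists are bounded. -/
def Src (A : X.Modules) : Prop :=
  Bd (k := k) (fun M : X.Modules => ∃ L, NT k L ∧ Nonempty (CohB1.tensorMod A L ≅ M))

variable (k X) in
/-- A module into whose twists the kernels of the morphisms from a bounded family are bounded. -/
def Tgt (B : X.Modules) : Prop :=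
  ∀ PA : X.Modules → Prop, Bd (k := k) PA → Bd (k := k) (fun K : X.Modules => ∃ A L, PA A ∧ NT k L ∧
    ∃ φ : A ⟶ CohB1.tensorMod B L, Nonempty (kernel φ ≅ K))

/-- The projection formula for invertible modules. -/
theorem projection {W : Scheme.{u}} (g : W ⟶ X) (G : W.Modules) {L : X.Modules} (hL : PicF.IsInvertible L) :
    Nonempty (CohB1.tensorMod ((Scheme.Modules.pushforward g).obj G) L ≅
      (Scheme.Modules.pushforward g).obj (CohB1.tensorMod G ((Scheme.Modules.pullback g).obj L))) := by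
  haveI := Groth.L17.ProjFormula.isIso_θ g L G (Groth.L16.Existence.isFinLocFree_of_isInvertible hL)
  exact ⟨tensorComm _ _ ≪≫ asIso (Groth.L17.ClosedPush.θ g G L) ≪≫
    (Scheme.Modules.pushforward g).mapIso (tensorComm _ _)⟩

variable [IsAlgClosed k]

/-- Numerically trivial modules on a projective scheme over `X`. -/
theorem PP.bd_NT (D : PP k X) : Bd (k := k) (fun L : D.W.Modules => NT k L) :=
  haveI := D.closed
  Bd.of_isBounded (Groth.L11.NumOrth.isBounded_NT k D.i D.hi)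

/-- The twists of a module on a projective scheme over `X` by pulled back modules. -/
theorem PP.bd_twist (D : PP k X) {G : D.W.Modules} (hG : Coh.IsCoh G) :
    Bd (k := k) (fun M : D.W.Modules => ∃ L, NT k L ∧
      Nonempty (CohB1.tensorMod G ((Scheme.Modules.pullback D.g).obj L) ≅ M)) :=
  (D.bd_NT.tensor hG).mono fun M ⟨_, hL, e⟩ => ⟨M, ⟨_, hL.pullback D.g rfl, e⟩, ⟨Iso.refl _⟩⟩

theorem src_piece (D : PP k X) (G : D.W.Modules) (hG : Coh.IsCoh G) :
    Src k X ((Scheme.Modules.pushforward D.g).obj G) := by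
  refine ((D.bd_twist hG).push D.map).mono fun M hM => ⟨M, ?_, ⟨Iso.refl _⟩⟩
  obtain ⟨L, hL, ⟨e⟩⟩ := hM
  exact ⟨_, ⟨L, hL, ⟨Iso.refl _⟩⟩, ⟨(projection D.g G hL.1).some.symm ≪≫ e⟩⟩

theorem tgt_piece (D : PP k X) (G : D.W.Modules) (hG : Coh.IsCoh G) :
    Tgt k X ((Scheme.Modules.pushforward D.g).obj G) := fun PA hPA => by
  refine (Bd.kernels D hPA (D.bd_twist hG)).mono fun K hK => ⟨K, ?_, ⟨Iso.refl _⟩⟩
  obtain ⟨A, L, hA, hL, φ, ⟨e⟩⟩ := hK
  exact ⟨A, _, hA, ⟨L, hL, ⟨Iso.refl _⟩⟩, φ ≫ (projection D.g G hL.1).some.hom, ⟨kernelCompMono _ _ ≪≫ e⟩⟩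

theorem isZero_tensor {A : X.Modules} (hA : IsZero A) (L : X.Modules) : IsZero (CohB1.tensorMod A L) :=
  (tensorRightF L).map_isZero hA

theorem src_zero {Z : X.Modules} (hZ : IsZero Z) : Src k X Z := by
  haveI := Groth.L21.RR.isNoetherian_of_proper (X := X) k
  haveI : IsProper (𝟙 (Spec (CommRingCat.of k))) := inferInstance
  haveI := isLocallyNoetherian_prod (k := k) (X := X) (𝟙 (Spec (CommRingCat.of k)))
  haveI : CompactSpace (Pic13.prodK k X (𝟙 (Spec (CommRingCat.of k)))) :=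
    QuasiCompact.compactSpace_of_compactSpace (pullback.snd (X ↘ Spec (CommRingCat.of k)) (𝟙 _))
  haveI : IsNoetherian (Pic13.prodK k X (𝟙 (Spec (CommRingCat.of k)))) := {}
  let p := pullback.fst (X ↘ Spec (CommRingCat.of k)) (𝟙 (Spec (CommRingCat.of k)))
  refine (Bd.single (⟨_, 𝟙 _, (Scheme.Modules.pullback p).obj Z, inferInstance, inferInstance,
    Groth.L16.Devissage.isCoh_of_isZero ((Scheme.Modules.pullback p).map_isZero hZ)⟩ : Pc k X)).mono fun M hM =>
      ⟨M, ⟨𝟙 _, Category.comp_id _, ⟨IsZero.iso ((Scheme.Modules.pullback _).map_isZero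
        ((Scheme.Modules.pullback p).map_isZero hZ)) ?_⟩⟩, ⟨Iso.refl _⟩⟩
  obtain ⟨L, -, ⟨e⟩⟩ := hM
  exact (isZero_tensor hZ L).of_iso e.symm

theorem src_sum {A B : X.Modules} (hA : Src k X A) (hB : Src k X B) : Src k X (A ⊞ B) := by
  refine (hA.biprod hB).mono fun M hM => ⟨M, ?_, ⟨Iso.refl _⟩⟩
  obtain ⟨L, hL, ⟨e⟩⟩ := hM
  haveI : PreservesBinaryBiproduct A B (tensorRightF L) := preservesBinaryBiproduct_of_preservesBiproduct _ A B
  exact ⟨_, _, ⟨L, hL, ⟨Iso.refl _⟩⟩, ⟨L, hL, ⟨Iso.refl _⟩⟩, ⟨((tensorRightF L).mapBiprod A B).symm ≪≫ e⟩⟩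

theorem tgt_zero {Z : X.Modules} (hZ : IsZero Z) : Tgt k X Z := fun PA hPA => by
  refine hPA.mono fun K hK => ?_
  obtain ⟨A, L, hA, -, φ, ⟨e⟩⟩ := hK
  haveI : IsIso (kernel.ι φ) := by
    obtain rfl : φ = 0 := (isZero_tensor hZ L).eq_of_tgt _ _
    infer_instance
  exact ⟨A, hA, ⟨(asIso (kernel.ι φ)).symm ≪≫ e⟩⟩

theorem tgt_sum {A B : X.Modules} (hA : Tgt k X A) (hB : Tgt k X B) : Tgt k X (A ⊞ B) := fun PA hPA => by
  refine (hB _ (hA PA hPA)).mono fun K hK => ⟨K, ?_, ⟨Iso.refl _⟩⟩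
  obtain ⟨C, L, hC, hL, φ, ⟨e⟩⟩ := hK
  haveI : PreservesBinaryBiproduct A B (tensorRightF L) := preservesBinaryBiproduct_of_preservesBiproduct _ A B
  let d := (tensorRightF L).mapBiprod A B
  let a := φ ≫ d.hom ≫ biprod.fst
  let b := φ ≫ d.hom ≫ biprod.snd
  refine ⟨kernel a, L, ⟨C, L, hC, hL, a, ⟨Iso.refl _⟩⟩, hL, kernel.ι a ≫ b, ⟨?_ ≪≫ e⟩⟩
  have h1 : (kernel.ι (kernel.ι a ≫ b) ≫ kernel.ι a) ≫ φ = 0 := by
    rw [← cancel_mono d.hom, zero_comp]
    refine biprod.hom_ext _ _ ?_ ?_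
    · simp only [zero_comp, Category.assoc]
      rw [kernel.condition]
      exact comp_zero
    · simp only [zero_comp, Category.assoc]
      exact kernel.condition (kernel.ι a ≫ b)
  have h2 : kernel.ι φ ≫ a = 0 := by simp only [a, kernel.condition_assoc, zero_comp]
  have h3 : kernel.lift a (kernel.ι φ) h2 ≫ kernel.ι a ≫ b = 0 := by
    rw [kernel.lift_ι_assoc]
    simp only [b, kernel.condition_assoc, zero_comp]
  exact
    { hom := kernel.lift φ _ h1
      inv := kernel.lift _ _ h3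
      hom_inv_id := by
        rw [← cancel_mono (kernel.ι (kernel.ι a ≫ b)), ← cancel_mono (kernel.ι a)]
        simp
      inv_hom_id := by
        rw [← cancel_mono (kernel.ι φ)]
        simp }

variable (k X) in
/-- Numerically trivial invertible modules on a proper scheme form a bounded family. -/
theorem bd_NT : Bd (k := k) (fun L : X.Modules => NT k L) := by
  haveI := Groth.L21.RR.isNoetherian_of_proper (X := X) k
  have hO : Coh.IsCoh (Coh.structureModule X) := Groth.L16.CohClosedPush.isCoh_structure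
  obtain ⟨A, u, ⟨hAs, hAc⟩, hu⟩ := exists_mono_closed (k := k) hO (fun A => Src k X A ∧ Coh.IsCoh A)
    (fun Z hZ => ⟨src_zero hZ, Groth.L16.Devissage.isCoh_of_isZero hZ⟩)
    (fun A B hA hB => ⟨src_sum hA.1 hB.1, Groth.L16.Devissage.isCoh_biprod hA.2 hB.2⟩)
    (fun D N hN => ⟨src_piece D N hN, haveI := D.proper; Groth.L16.Exist.isCoh_pushforward D.g hN⟩)
  haveI := hu
  obtain ⟨B, v, hBt, hv⟩ := exists_mono_closed (k := k)
    (Groth.L16.CohKernel.isCoh_kernel_cokernel hO hAc u).2 (Tgt k X) (fun Z hZ => tgt_zero hZ)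
    (fun A B => tgt_sum) tgt_piece
  haveI := hv
  refine (hBt _ hAs).mono fun L hL => ⟨L, ?_, ⟨Iso.refl _⟩⟩
  obtain ⟨L', hL', ⟨e⟩⟩ := hL.exists_inverse
  haveI := Groth.L22.PDual.isEquivalence_tensorRightF e
  refine ⟨_, L, ⟨L, hL, ⟨Iso.refl _⟩⟩, hL, (tensorRightF L).map (cokernel.π u ≫ v), ⟨?_⟩⟩
  let h1 : kernel (cokernel.π u) ≅ Coh.structureModule X :=
    (Abelian.monoIsKernelOfCokernel _ (colimit.isColimit (parallelPair u 0))).conePointUniqueUpToIso
      (limit.isLimit _) |>.symm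
  exact (PreservesKernel.iso (tensorRightF L) (cokernel.π u ≫ v)).symm ≪≫
    (tensorRightF L).mapIso (kernelCompMono _ _ ≪≫ h1) ≪≫ tensorUnitLeft L

end Groth.L11.Bdd
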