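import Groth.Agent.L11.Bdd.Basic
import Groth.Agent.L11.NumOrth.PicFam
import Groth.Agent.L02.PicProper.Points
import Groth.Agent.L02.PicLft.Main
import Groth.Agent.L16.ProperFinite

/-!
# Bounded families and quasi-compact opens of the relative Picard scheme
-/

set_option autoImplicit false
set_option backward.isDefEq.respectTransparency false
set_option backward.isDefEq.respectTransparency.types false
set_option linter.style.haveILetI false
set_option linter.unusedSectionVars false

universe u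

open CategoryTheory CategoryTheory.Limits AlgebraicGeometry TopologicalSpace

noncomputable section

namespace Groth.L11.Bdd.RelPic

open Groth.L02.PicEtale Groth.L02.PicProper

variable (k : Type u) [Field k] (X : Scheme.{u}) [X.Over (Spec (CommRingCat.of k))]

/-- The base point. -/
abbrev pt0 : Over (Spec (CommRingCat.of k)) := Over.mk (𝟙 (Spec (CommRingCat.of k)))

/-- The class of a module over the base point. -/
abbrev cls (L : X.Modules) : PicF.Cl (PicF.XT (X ↘ Spec (CommRingCat.of k)) (pt0 k)) :=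
  PicF.pullCl (pullback.fst (X ↘ Spec (CommRingCat.of k)) (𝟙 (Spec (CommRingCat.of k)))) (PicF.cl L)

theorem isInvertibleCl_cls {L : X.Modules} (hL : PicF.IsInvertible L) : PicF.IsInvertibleCl (cls k X L) :=
  PicLoc.isInvertibleCl_pullCl _ (isInvertibleCl_cl hL)

/-- The fibre at a point is the pullback of the class along the point. -/
theorem cls_fibre {T : Over (Spec (CommRingCat.of k))} (t : pt0 k ⟶ T)
    (M : (PicF.XT (X ↘ Spec (CommRingCat.of k)) T).Modules) :
    cls k X (Pic13.fibreMod k X T.hom t.left (by simpa using Over.w t) M) =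
      PicF.pullCl (PicF.XTmap (X ↘ Spec (CommRingCat.of k)) t) (PicF.cl M) := by
  let s := Pic13.sliceAt k X T.hom t.left (by simpa using Over.w t)
  have e : PicF.XTmap (X ↘ Spec (CommRingCat.of k)) t =
      pullback.fst (X ↘ Spec (CommRingCat.of k)) (𝟙 (Spec (CommRingCat.of k))) ≫ s := by
    apply pullback.hom_ext
    · rw [XTmap_fst, Category.assoc, show s ≫ pullback.fst _ _ = 𝟙 X from pullback.lift_fst _ _ _]
      exact (Category.comp_id _).symm
    · rw [Category.assoc, show s ≫ pullback.snd _ _ = (X ↘ Spec (CommRingCat.of k)) ≫ t.left from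
        pullback.lift_snd _ _ _, ← Category.assoc, pullback.condition, Category.comp_id]
      exact XTmap_snd _ t
  rw [e, pullCl_comp]
  rfl

variable {k X}

theorem cls_inj {L L' : X.Modules} (h : cls k X L = cls k X L') : Nonempty (L ≅ L') := by
  let s : X ⟶ PicF.XT (X ↘ Spec (CommRingCat.of k)) (pt0 k) :=
    pullback.lift (𝟙 X) (X ↘ Spec (CommRingCat.of k)) (by rw [Category.id_comp]; exact (Category.comp_id _).symm)
  have h' := congrArg (PicF.pullCl s) h
  rw [cls, cls, ← pullCl_comp, ← pullCl_comp,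
    show s ≫ pullback.fst (X ↘ Spec (CommRingCat.of k)) (𝟙 (Spec (CommRingCat.of k))) = 𝟙 X from pullback.lift_fst _ _ _,
    PicLoc.pullCl_id, PicLoc.pullCl_id] at h'
  exact nonempty_iso_of_cl_eq h'

variable [IsAlgClosed k] [IsProper (X ↘ Spec (CommRingCat.of k))] {P : Over (Spec (CommRingCat.of k))}
  {φ : ∀ T : Over (Spec (CommRingCat.of k)), PicF.Cl (PicF.XT (X ↘ Spec (CommRingCat.of k)) T) → (T ⟶ P)}
  (hP : PicRel.IsRelPic (X ↘ Spec (CommRingCat.of k)) P φ)

/-- A finite extension of an algebraically closed field is trivial. -/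
theorem exists_inv (L : Type u) [Field L] [Algebra k L] [Module.Finite k L] :
    ∃ ψ : L →+* k, ψ.comp (algebraMap k L) = RingHom.id k := by
  have hb := IsAlgClosed.algebraMap_bijective_of_isIntegral (k := k) (K := L)
  let e := RingEquiv.ofBijective (algebraMap k L) hb
  exact ⟨e.symm.toRingHom, RingHom.ext fun x => e.symm_apply_apply x⟩

include hP in
theorem cls_eq_of_point {c c' : PicF.Cl (PicF.XT (X ↘ Spec (CommRingCat.of k)) (pt0 k))}
    (hc : PicF.IsInvertibleCl c) (hc' : PicF.IsInvertibleCl c') (e : φ (pt0 k) c = φ (pt0 k) c') : c = c' := by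
  obtain ⟨L, _, _, _, he⟩ := exists_eq_field hP (𝟙 (Spec (CommRingCat.of k))) hc hc' e
  obtain ⟨ψ, hψ⟩ := exists_inv (k := k) L
  let b : pt0 k ⟶ fpt (Spec.map (CommRingCat.ofHom (algebraMap k L)) ≫ 𝟙 (Spec (CommRingCat.of k))) :=
    Over.homMk (Spec.map (CommRingCat.ofHom ψ)) (by
      show Spec.map _ ≫ Spec.map _ ≫ 𝟙 _ = 𝟙 _
      rw [Category.comp_id, ← Spec.map_comp, ← CommRingCat.ofHom_comp, hψ]
      exact Spec.map_id _)
  have h := congrArg (PicF.pullCl (PicF.XTmap (X ↘ Spec (CommRingCat.of k)) b)) he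
  rw [pullCl_XTmap_comp, pullCl_XTmap_comp] at h
  have e' : b ≫ bmap (algebraMap k L) (𝟙 (Spec (CommRingCat.of k))) = 𝟙 (pt0 k) := Over.OverMorphism.ext (by
    show Spec.map _ ≫ Spec.map _ = 𝟙 _
    rw [← Spec.map_comp, ← CommRingCat.ofHom_comp, hψ]
    exact Spec.map_id _)
  rw [e'] at h
  have e1 : PicF.XTmap (X ↘ Spec (CommRingCat.of k)) (𝟙 (pt0 k)) = 𝟙 _ := by
    apply pullback.hom_ext
    · rw [XTmap_fst, Category.id_comp]
    · rw [Category.id_comp]
      exact (XTmap_snd _ _).trans (Category.comp_id _)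
  rwa [e1, PicLoc.pullCl_id, PicLoc.pullCl_id] at h

/-- A point of the target lifts along an etale map hitting it. -/
theorem exists_lift_point {W : Over (Spec (CommRingCat.of k))} {U : Over (Spec (CommRingCat.of k))} (w : W ⟶ U)
    [Etale w.left] (u : pt0 k ⟶ U) {z : W.left} {x : (pt0 k).left} (hz : w.left z = u.left x) :
    ∃ t : pt0 k ⟶ W, t ≫ w = u := by
  obtain ⟨a, -, ha⟩ := Scheme.Pullback.exists_preimage_pullback (f := w.left) (g := u.left) z x hz
  let V : Over (Spec (CommRingCat.of k)) := Over.mk (pullback.snd w.left u.left)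
  let v : V ⟶ fpt (𝟙 (Spec (CommRingCat.of k))) := Over.homMk (pullback.snd w.left u.left) (Category.comp_id _)
  haveI : Nonempty V.left := ⟨a⟩
  haveI : Etale v.left := inferInstanceAs (Etale (pullback.snd w.left u.left))
  obtain ⟨L, _, _, _, p, hp⟩ := exists_finite_point (𝟙 (Spec (CommRingCat.of k))) v
  obtain ⟨ψ, hψ⟩ := exists_inv (k := k) L
  have hs : Spec.map (CommRingCat.ofHom ψ) ≫ Spec.map (CommRingCat.ofHom (algebraMap k L)) = 𝟙 _ := by
    rw [← Spec.map_comp, ← CommRingCat.ofHom_comp, hψ]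
    exact Spec.map_id _
  let s : (pt0 k).left ⟶ V.left := Spec.map (CommRingCat.ofHom ψ) ≫ p.left
  have hsv : s ≫ pullback.snd w.left u.left = 𝟙 _ := by
    have h1 : p.left ≫ pullback.snd w.left u.left = Spec.map (CommRingCat.ofHom (algebraMap k L)) :=
      congrArg CommaMorphism.left hp
    show (_ ≫ p.left) ≫ _ = _
    rw [Category.assoc, h1, hs]
    rfl
  have e : s ≫ pullback.fst w.left u.left ≫ w.left = u.left := by
    rw [pullback.condition, ← Category.assoc, hsv, Category.id_comp]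
  exact ⟨Over.homMk (s ≫ pullback.fst w.left u.left)
    (by rw [← Over.w w, Category.assoc, reassoc_of% e]; exact Over.w u), Over.OverMorphism.ext (by
      show (s ≫ pullback.fst w.left u.left) ≫ w.left = u.left
      rw [Category.assoc, e])⟩

include hP

theorem exists_open_of_isBounded (Q : X.Modules → Prop) (hQ : ∀ L, Q L → PicF.IsInvertible L)
    (hb : Pic13.IsBounded k X Q) :
    ∃ U : P.left.Opens, IsCompact (U : Set P.left) ∧
      ∀ L, Q L → Set.range (φ (pt0 k) (cls k X L)).left.base ⊆ (U : Set P.left) := by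
  obtain ⟨m, Φ, hΦ⟩ := Groth.L11.PicFam.exists_fams hQ hb
  let G : ∀ j, Over.mk (Φ j).q ⟶ P := fun j => φ (Over.mk (Φ j).q) (PicF.cl (Φ j).M)
  have hK : IsCompact (⋃ j, Set.range (G j).left.base) := isCompact_iUnion fun j => by
    haveI := (Φ j).qc
    haveI : CompactSpace (Over.mk (Φ j).q).left := QuasiCompact.compactSpace_of_compactSpace (Φ j).q
    exact isCompact_range (G j).left.continuous
  obtain ⟨s, hs⟩ := hK.elim_finite_subcover (fun V : P.left.affineOpens => (V.1 : Set P.left)) (fun V => V.1.2)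
    fun x _ => by
      obtain ⟨_, ⟨V, hV, rfl⟩, hxV, -⟩ := P.left.isBasis_affineOpens.exists_subset_of_mem_open (Set.mem_univ x) isOpen_univ
      exact Set.mem_iUnion.2 ⟨⟨V, hV⟩, hxV⟩
  refine ⟨⨆ V : s, (V.1.1 : P.left.Opens), ?_, fun L hL => ?_⟩
  · rw [Opens.coe_iSup]
    exact isCompact_iUnion fun V => V.1.2.isCompact
  obtain ⟨j, t, ht, ⟨e⟩⟩ := hΦ L hL
  let t' : pt0 k ⟶ Over.mk (Φ j).q := Over.homMk t ht
  have h1 : cls k X L = PicF.pullCl (PicF.XTmap _ t') (PicF.cl (Φ j).M) := by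
    rw [← cls_fibre k X t' (Φ j).M]
    exact congrArg (PicF.pullCl _) (Quot.sound ⟨e.symm⟩)
  rw [h1, hP.natural _ _ t' _ (isInvertibleCl_cl (Φ j).inv)]
  rintro _ ⟨x, rfl⟩
  obtain ⟨V, hV, hxV⟩ := Set.mem_iUnion₂.1 (hs (Set.mem_iUnion.2 ⟨j, t x, rfl⟩))
  rw [Opens.coe_iSup]
  exact Set.mem_iUnion.2 ⟨⟨V, hV⟩, hxV⟩

theorem isBounded_of_open (Q : X.Modules → Prop) (hQ : ∀ L, Q L → PicF.IsInvertible L) {U : P.left.Opens}
    (hU : IsCompact (U : Set P.left)) (hmem : ∀ L, Q L → Set.range (φ (pt0 k) (cls k X L)).left.base ⊆ (U : Set P.left)) :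
    Pic13.IsBounded k X Q := by
  classical
  haveI := Groth.L02.PicLft.locallyOfFinitePresentation hP
  haveI : LocallyOfFiniteType P.hom := inferInstance
  let T : Over (Spec (CommRingCat.of k)) := Over.mk (U.ι ≫ P.hom)
  let g : T ⟶ P := Over.homMk U.ι rfl
  choose V v z M hv hvz hM hMφ using fun x : T.left => exists_class hP g x
  have hW : ∀ x : T.left, ∃ W : (V x).left.affineOpens, z x ∈ W.1 := fun x => by
    obtain ⟨_, ⟨W, hW, rfl⟩, hxW, -⟩ :=
      (V x).left.isBasis_affineOpens.exists_subset_of_mem_open (Set.mem_univ (z x)) isOpen_univ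
    exact ⟨⟨W, hW⟩, hxW⟩
  choose W hzW using hW
  haveI : ∀ x, Etale (v x).left := hv
  haveI : CompactSpace T.left := isCompact_iff_compactSpace.1 hU
  obtain ⟨s, hs⟩ := isCompact_univ.elim_finite_subcover (fun x : T.left => (v x).left.base '' (W x).1)
    (fun x => (v x).left.isOpenMap _ (W x).1.2) fun x _ => Set.mem_iUnion.2 ⟨x, z x, hzW x, hvz x⟩
  let Wo : T.left → Over (Spec (CommRingCat.of k)) := fun x => Over.mk ((W x).1.ι ≫ (V x).hom)
  let wo : ∀ x, Wo x ⟶ V x := fun x => Over.homMk (W x).1.ι rfl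
  have hft : ∀ x, LocallyOfFiniteType (Wo x).hom := fun x => by
    show LocallyOfFiniteType ((W x).1.ι ≫ (V x).hom)
    rw [← Over.w (v x)]
    show LocallyOfFiniteType ((W x).1.ι ≫ (v x).left ≫ U.ι ≫ P.hom)
    infer_instance
  refine Bd.isBounded (Bd.iUnion (P := fun x : ↥s => fun L : X.Modules =>
    ∃ (t : pt0 k ⟶ Wo x.1), Nonempty (Pic13.fibreMod k X (Wo x.1).hom t.left (by simpa using Over.w t)
      ((Scheme.Modules.pullback (PicF.XTmap _ (wo x.1))).obj (M x.1)) ≅ L))
    (fun x => ?_) fun L hL => ?_)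
  · haveI := hft x.1
    haveI : IsAffine (Wo x.1).left := (W x.1).2
    haveI : QuasiCompact (Wo x.1).hom :=
      (quasiCompact_iff_compactSpace (f := (Wo x.1).hom)).2 inferInstance
    haveI : IsLocallyNoetherian (PicF.XT (X ↘ Spec (CommRingCat.of k)) (Wo x.1)) :=
      Groth.L11.Bdd.isLocallyNoetherian_prod (k := k) (X := X) (Wo x.1).hom
    refine Bd.of_isBounded ⟨(Wo x.1).left, (Wo x.1).hom, inferInstance, inferInstance,
      (Scheme.Modules.pullback (PicF.XTmap _ (wo x.1))).obj (M x.1), Groth.L16.ProperFinite.isCoh_of_isInvertible (Groth.L18.Ample.isInvertible_pullback _ (hM x.1)), ?_⟩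
    rintro L ⟨t, ht⟩
    exact ⟨t.left, by simpa using Over.w t, ht⟩
  · let p := φ (pt0 k) (cls k X L)
    have hp : Set.range p.left.base ⊆ Set.range U.ι.base := by
      rw [Scheme.Opens.range_ι]; exact hmem L hL
    let u : pt0 k ⟶ T := Over.homMk (IsOpenImmersion.lift U.ι p.left hp)
      (by show IsOpenImmersion.lift U.ι p.left hp ≫ U.ι ≫ P.hom = _
          rw [IsOpenImmersion.lift_fac_assoc]; exact Over.w p)
    have hu : u ≫ g = p := Over.OverMorphism.ext (IsOpenImmersion.lift_fac U.ι p.left hp)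
    let pt : (pt0 k).left := IsLocalRing.closedPoint k
    obtain ⟨x, hx, z', hz', hzx⟩ := Set.mem_iUnion₂.1 (hs (Set.mem_univ (u.left pt)))
    haveI : Etale (wo x ≫ v x).left := inferInstanceAs (Etale ((W x).1.ι ≫ (v x).left))
    obtain ⟨t, ht⟩ := exists_lift_point (wo x ≫ v x) u (z := (⟨z', hz'⟩ : (W x).1)) (x := pt) hzx
    refine ⟨⟨x, hx⟩, t, ?_⟩
    let L₁ := Pic13.fibreMod k X (Wo x).hom t.left (by simpa using Over.w t)
      ((Scheme.Modules.pullback (PicF.XTmap _ (wo x))).obj (M x))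
    have hL₁ : PicF.IsInvertible L₁ :=
      Groth.L18.Ample.isInvertible_pullback _ (Groth.L18.Ample.isInvertible_pullback _ (hM x))
    refine cls_inj (cls_eq_of_point hP (isInvertibleCl_cls k X hL₁) (isInvertibleCl_cls k X (hQ L hL)) ?_)
    show φ (pt0 k) (cls k X L₁) = p
    rw [cls_fibre k X t, hP.natural _ _ t _ (isInvertibleCl_cl (Groth.L18.Ample.isInvertible_pullback _ (hM x))),
      natural' hP (wo x) (hM x), hMφ x, ← hu, ← ht, Category.assoc, Category.assoc]

end Groth.L11.Bdd.RelPic
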