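import Groth.Agent.L11.Bdd.Coeff

/-!
# Sharp bounds for twists of nonpositive degree on a surface
-/

set_option autoImplicit false
set_option backward.isDefEq.respectTransparency false
set_option linter.style.haveILetI false
set_option linter.unusedSectionVars false

universe u

open CategoryTheory CategoryTheory.Limits AlgebraicGeometry TopologicalSpace

noncomputable section

namespace Groth.L11.Bdd.Gen

open Groth.L22.Inter Groth.L22.Nef Groth.L22.Big Groth.L03.Euler Groth.L16 Groth.L11.NumOrth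
open Groth.L00.Tensor (tensorIso tensorAssoc tensorComm tensorUnitRight tensorUnitLeft)
open Groth.L18.Ample (isInvertible_pullback isInvertible_tensorPow)
open Groth.L18.GenLoc (isInvertible_tensor)
open Groth.L16.CohLinear (hmap overLin delta exact_hmap_hmap exact_delta_hmap)

attribute [local irreducible] Curv2.euler

/-- Three terms of an exact sequence. -/
theorem finrank_exact_le {K : Type*} [Field K] {P Q R : Type*} [AddCommGroup P] [Module K P] [AddCommGroup Q]
    [Module K Q] [AddCommGroup R] [Module K R] [Module.Finite K P] [Module.Finite K Q] [Module.Finite K R]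
    (f : P →ₗ[K] Q) (g : Q →ₗ[K] R) (h : Function.Exact f g) :
    Module.finrank K Q ≤ Module.finrank K P + Module.finrank K R := by
  rw [← g.finrank_range_add_finrank_ker, LinearMap.exact_iff.1 h]
  have h1 := f.finrank_range_le
  have h2 := Submodule.finrank_le (LinearMap.range g)
  omega

section Seq

variable (k : Type u) [Field k] {X : Scheme.{u}} [X.Over (Spec (CommRingCat.of k))]
  [IsProper (X ↘ Spec (CommRingCat.of k))] {S : ShortComplex X.Modules} (hS : S.ShortExact)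
  (h₁ : Coh.IsCoh S.X₁) (h₂ : Coh.IsCoh S.X₂) (h₃ : Coh.IsCoh S.X₃)

include hS h₁ h₂ h₃

theorem finrank_middle_le (q : ℕ) : Module.finrank k (Coh.HH X S.X₂ q) ≤
    Module.finrank k (Coh.HH X S.X₁ q) + Module.finrank k (Coh.HH X S.X₃ q) := by
  haveI := ProperFinite.finite_HH k h₁ q
  haveI := ProperFinite.finite_HH k h₂ q
  haveI := ProperFinite.finite_HH k h₃ q
  exact finrank_exact_le (overLin k (hmap S.f q)) (overLin k (hmap S.g q)) (exact_hmap_hmap hS q)

theorem finrank_left_le (q : ℕ) : Module.finrank k (Coh.HH X S.X₁ (q + 1)) ≤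
    Module.finrank k (Coh.HH X S.X₃ q) + Module.finrank k (Coh.HH X S.X₂ (q + 1)) := by
  haveI := ProperFinite.finite_HH k h₁ (q + 1)
  haveI := ProperFinite.finite_HH k h₂ (q + 1)
  haveI := ProperFinite.finite_HH k h₃ q
  exact finrank_exact_le (overLin k (delta hS q)) (overLin k (hmap S.f (q + 1))) (exact_delta_hmap hS q)

end Seq

/-- `H¹` decreases when the quotient has no higher cohomology. -/
theorem h1_decrease {k : Type u} [Field k] {n : ℕ} {X : Scheme.{u}} [X.Over (Spec (CommRingCat.of k))]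
    [IsProper (X ↘ Spec (CommRingCat.of k))] (i : X ⟶ CohB1.ProjSpace n k) [IsClosedImmersion i]
    (hi : i ≫ CohB1.ProjSpace.toSpec n k = X ↘ Spec (CommRingCat.of k))
    {F G : X.Modules} (hF : Coh.IsCoh F) (hG : Coh.IsCoh G) (f : Pic13.twistOn k i F (-1) ⟶ F) (g : F ⟶ G)
    (hfg : f ≫ g = 0) (hS : (ShortComplex.mk f g hfg).ShortExact) (hGm : ∀ m, Pic13.IsMRegular k i G m) (j : ℤ) :
    Module.finrank k (Coh.HH X (Pic13.twistOn k i F j) 1) ≤ Module.finrank k (Coh.HH X (Pic13.twistOn k i F (j - 1)) 1) - 1 := by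
  obtain ⟨e⟩ := Groth.L22.Reg.nonempty_push_twist i F (-1)
  have hP := Groth.L22.Reg.shortExact_push i hS
  haveI := hP.mono_f
  haveI := hP.epi_g
  let ι := e.hom ≫ (Coh.push i).map f
  haveI : Mono ((Coh.push i).map f) := hP.mono_f
  haveI : Mono ι := inferInstanceAs (Mono (e.hom ≫ (Coh.push i).map f))
  let c : cokernel ι ≅ (Coh.push i).obj G :=
    cokernelEpiComp e.hom ((Coh.push i).map f) ≪≫
      IsColimit.coconePointUniqueUpToIso (cokernelIsCokernel ((Coh.push i).map f)) hP.gIsCokernel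
  have hr := Groth.L22.Reg.regular_iso c.symm ((Groth.L22.Reg.regular_push_iff i hi hG).1 (hGm j))
  have hP' := Groth.L22.Reg.isCoh_push_closed i hF
  rw [Groth.L22.Reg.h1_push i hi hF, Groth.L22.Reg.h1_push i hi hF]
  by_cases h0 : Groth.L22.Reg.h1 ((Coh.push i).obj F) (j - 1) = 0
  · have := Groth.L22.Reg.h1_le ι hP' hr (show j - 1 ≤ j by omega)
    omega
  · have := Groth.L22.Reg.h1_lt ι hP' hr le_rfl h0
    omega

/-- The arithmetic of the three chains. -/
theorem chain_bounds (s : ℕ) (z c a₁ a₂ : ℤ → ℕ) (hs : c (-1) = s) (hdec : ∀ j, c j ≤ c (j - 1) - 1)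
    (hz : ∀ j : ℤ, j < 0 → z j = 0)
    (hstep : ∀ j : ℤ, a₁ (j - 1) ≤ z j + a₁ j ∧ a₁ j ≤ a₁ (j - 1) + c j ∧ a₂ (j - 1) ≤ c j + a₂ j)
    (htop : a₂ ((s : ℤ) - 2) = 0) (htop1 : s = 0 → a₂ (-1) = 0) :
    (∀ m : ℤ, 2 * (a₁ m : ℤ) ≤ 2 * a₁ (-1) + s * (s - 1)) ∧ 2 * (a₂ (-1) : ℤ) ≤ (s : ℤ) * (s - 1) := by
  have hcs : ∀ t : ℕ, c (-1 + (t : ℤ)) ≤ s - t := by
    intro t
    induction t with
    | zero => simp [hs]
    | succ t ih =>
      have h' := hdec (-1 + ((t + 1 : ℕ) : ℤ))
      rw [show -1 + ((t + 1 : ℕ) : ℤ) - 1 = -1 + (t : ℤ) by push_cast; ring] at h'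
      omega
  have hlow : ∀ t : ℕ, t ≤ s → 2 * (a₁ (-1 + (t : ℤ)) : ℤ) ≤ 2 * a₁ (-1) + t * (2 * s - t - 1) := by
    intro t
    induction t with
    | zero => simp
    | succ t ih =>
      intro ht
      have h1 := (hstep (-1 + ((t + 1 : ℕ) : ℤ))).2.1
      rw [show -1 + ((t + 1 : ℕ) : ℤ) - 1 = -1 + (t : ℤ) by push_cast; ring] at h1
      have h4 : (c (-1 + ((t + 1 : ℕ) : ℤ)) : ℤ) ≤ (s : ℤ) - (t + 1) := by
        have := hcs (t + 1)
        omega
      have h5 : (a₁ (-1 + ((t + 1 : ℕ) : ℤ)) : ℤ) ≤ a₁ (-1 + (t : ℤ)) + c (-1 + ((t + 1 : ℕ) : ℤ)) := by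
        exact_mod_cast h1
      have h6 := ih (by omega)
      push_cast at h4 h5 ⊢
      linarith
  have hhigh : ∀ t : ℕ, s ≤ t → a₁ (-1 + (t : ℤ)) ≤ a₁ (-1 + (s : ℤ)) := by
    intro t ht
    induction t, ht using Nat.le_induction with
    | base => exact le_rfl
    | succ t ht ih =>
      have h1 := (hstep (-1 + ((t + 1 : ℕ) : ℤ))).2.1
      rw [show -1 + ((t + 1 : ℕ) : ℤ) - 1 = -1 + (t : ℤ) by push_cast; ring] at h1
      have h2 := hcs (t + 1)
      omega
  have hdown : ∀ t : ℕ, a₁ (-1 - (t : ℤ)) ≤ a₁ (-1) := by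
    intro t
    induction t with
    | zero => simp
    | succ t ih =>
      have h1 := (hstep (-1 - (t : ℤ))).1
      rw [hz _ (by omega), show -1 - (t : ℤ) - 1 = -1 - ((t + 1 : ℕ) : ℤ) by push_cast; ring] at h1
      omega
  have htwo : ∀ t : ℕ, t + 1 ≤ s → 2 * (a₂ ((s : ℤ) - 2 - (t : ℤ)) : ℤ) ≤ (t : ℤ) * (t + 1) := by
    intro t
    induction t with
    | zero => intro _; rw [Nat.cast_zero, sub_zero, htop]; simp
    | succ t ih =>
      intro hts
      have h1 := (hstep ((s : ℤ) - 2 - (t : ℤ))).2.2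
      rw [show (s : ℤ) - 2 - (t : ℤ) - 1 = (s : ℤ) - 2 - ((t + 1 : ℕ) : ℤ) by push_cast; ring] at h1
      have h2 := hcs (s - 1 - t)
      rw [show -1 + ((s - 1 - t : ℕ) : ℤ) = (s : ℤ) - 2 - (t : ℤ) by omega] at h2
      have h4 : (c ((s : ℤ) - 2 - (t : ℤ)) : ℤ) ≤ (t : ℤ) + 1 := by omega
      have h5 : (a₂ ((s : ℤ) - 2 - ((t + 1 : ℕ) : ℤ)) : ℤ) ≤ c ((s : ℤ) - 2 - (t : ℤ)) + a₂ ((s : ℤ) - 2 - (t : ℤ)) := by
        exact_mod_cast h1
      have h6 := ih (by omega)
      push_cast at h5 ⊢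
      linarith
  have hsq : ∀ t : ℕ, t ≤ s → (t : ℤ) * (2 * s - t - 1) ≤ s * (s - 1) := fun t ht => by
    have : (0 : ℤ) ≤ ((s : ℤ) - t) * ((s : ℤ) - t - 1) := by
      rcases eq_or_lt_of_le ht with rfl | ht'
      · simp
      · exact mul_nonneg (by omega) (by omega)
    linarith
  refine ⟨fun m => ?_, ?_⟩
  · rcases le_total (-1) m with hm | hm
    · obtain ⟨t, rfl⟩ : ∃ t : ℕ, m = -1 + t := ⟨(m + 1).toNat, by omega⟩
      rcases le_total t s with ht | ht
      · linarith [hlow t ht, hsq t ht]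
      · have h1 : (a₁ (-1 + (t : ℤ)) : ℤ) ≤ a₁ (-1 + (s : ℤ)) := by exact_mod_cast hhigh t ht
        linarith [hlow s le_rfl, hsq s le_rfl]
    · obtain ⟨t, rfl⟩ : ∃ t : ℕ, m = -1 - t := ⟨(-1 - m).toNat, by omega⟩
      have h1 : (a₁ (-1 - (t : ℤ)) : ℤ) ≤ a₁ (-1) := by exact_mod_cast hdown t
      have h2 := hsq 0 (Nat.zero_le _)
      simp only [Nat.cast_zero, zero_mul] at h2
      linarith
  · rcases Nat.eq_zero_or_pos s with h | h
    · rw [htop1 h, h]; simp
    · have h1 := htwo (s - 1) (by omega)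
      rw [show (s : ℤ) - 2 - ((s - 1 : ℕ) : ℤ) = -1 by omega] at h1
      refine h1.trans (le_of_eq ?_)
      rw [Nat.cast_sub (show 1 ≤ s by omega)]
      push_cast
      ring

/-- The bounds from a section, over any field. -/
theorem sharp_section {K : Type u} [Field K] [Infinite K] {n : ℕ} {X : Scheme.{u}} [X.Over (Spec (CommRingCat.of K))]
    [IsProper (X ↘ Spec (CommRingCat.of K))] (i : X ⟶ CohB1.ProjSpace n K) [IsClosedImmersion i]
    (hi : i ≫ CohB1.ProjSpace.toSpec n K = X ↘ Spec (CommRingCat.of K))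
    (hd : topologicalKrullDim X ≤ ((2 : ℕ) : WithBot ℕ∞)) (η : X) {f : OX i (-1) ⟶ Coh.structureModule X}
    {h : f ≫ ClSub.toSubscheme (pt η) = 0} (hS : (ShortComplex.mk f (ClSub.toSubscheme (pt η)) h).ShortExact)
    (hηd : topologicalKrullDim (closure ({η} : Set X)) = ((1 : ℕ) : WithBot ℕ∞))
    {L' : X.Modules} (hL' : PicF.IsInvertible L') (l hh g₀ : ℚ) (hhpos : 0 < hh) (hdeg : l ≤ 0)
    (hχ : ∀ j : ℤ, letI := overPt (k := K) η;
      ((chi (iC i η) (res η L') j : ℤ) : ℚ) = l + ((j - 1 : ℤ) : ℚ) * hh + g₀)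
    (hχO : letI := overPt (k := K) η;
      (Curv2.euler K (pt η).subscheme (Coh.structureModule (pt η).subscheme) : ℚ) = g₀ - hh)
    (a : Fin 3 → ℤ) (ha1 : (a 1 : ℚ) = l - 2 * hh + g₀) (hm1 : chi i L' (-1) = a 0)
    (h0X : h0 K (Pic13.twistOn K i L' (-1)) = 0) :
    (∀ m : ℤ, (Module.finrank K (Coh.HH X (Pic13.twistOn K i L' m) 1) : ℤ) ≤ a 1 * (a 1 + 1) - a 0) ∧
      a 0 ≤ a 1 * (a 1 + 1) := by
  classical
  haveI := Groth.L21.RR.isNoetherian_of_proper (X := X) K
  let C := (pt η).subscheme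
  letI := overPt (k := K) η
  haveI : IsIntegral C := isIntegral_pt _
  haveI : IsProper (C ↘ Spec (CommRingCat.of K)) :=
    inferInstanceAs (IsProper ((pt η).subschemeι ≫ (X ↘ Spec (CommRingCat.of K))))
  haveI := Groth.L21.RR.isNoetherian_of_proper (X := C) K
  have hdC : topologicalKrullDim C = ((1 : ℕ) : WithBot ℕ∞) := by
    rw [← dim_closure_image (pt η).subschemeι, genericPoint_pt]; exact hηd
  have hiC : iC i η ≫ CohB1.ProjSpace.toSpec n K = C ↘ Spec (CommRingCat.of K) := by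
    show ((pt η).subschemeι ≫ i) ≫ _ = _
    rw [Category.assoc, hi]
    rfl
  let NC : ℤ → C.Modules := fun j => Pic13.twistOn K (iC i η) (res η L') j
  have hN : ∀ j, PicF.IsInvertible (NC j) := fun j =>
    isInvertible_tensor (isInvertible_pullback _ hL') (isInvertible_OX _ j)
  -- no sections in negative degree
  have hneg : ∀ j : ℤ, j < 0 → h0 K (NC j) = 0 := fun j hj => by
    refine Nat.eq_zero_of_not_pos fun hpos => ?_
    obtain ⟨S, hS', ⟨e₁⟩, ⟨e₂⟩, c₁, c₂, c₃, h3⟩ := curve_seq K hdC.le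
      (Groth.L18.Ample.isInvertible_structureModule C) (hN j) (by rwa [h0_iso K (tensorUnitRight (NC j))])
      (Groth.L18.Ample.isInvertible_structureModule C) (tensorUnitLeft _)
    have he := euler_add (k := K) hS' c₁ c₂ c₃
    rw [euler_iso e₁, euler_iso e₂, show Curv2.euler K C S.X₃ = (h0 K S.X₃ : ℤ) by
      rw [euler_eq_sum (k := K) (N := 1) (fun q hq => subsingleton_HH_of_support K c₃ h3 (by omega)), h0_def]
      simp] at he
    have h' := hχ j
    change ((Curv2.euler K C (NC j) : ℤ) : ℚ) = _ at h'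
    rw [he] at h'
    push_cast at h'
    rw [hχO] at h'
    have : (j : ℚ) ≤ -1 := by exact_mod_cast (show j ≤ -1 by omega)
    have := mul_le_mul_of_nonneg_right this hhpos.le
    linarith [Nat.cast_nonneg (α := ℚ) (h0 K S.X₃)]
  -- the speciality on the curve
  let c : ℤ → ℕ := fun j => Module.finrank K (Coh.HH C (NC j) 1)
  have hc1 : (c (-1) : ℤ) = -a 1 := by
    have h' := hχ (-1)
    change ((Curv2.euler K C (NC (-1)) : ℤ) : ℚ) = _ at h'
    rw [euler_curve K hdC.le, hneg (-1) (by omega)] at h'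
    push_cast at h'
    exact_mod_cast (show ((c (-1) : ℕ) : ℚ) = -(a 1 : ℚ) by simp only [c]; linarith)
  have hcdec : ∀ j, c j ≤ c (j - 1) - 1 := by
    have hLC : Coh.IsCoh (res η L') := Groth.L18.Ample.isCoh_of_isInvertible (isInvertible_pullback _ hL')
    obtain ⟨G, f', g', hfg, hS', hG, hGd⟩ := exists_hyperplane (iC i η) hLC
      (d := 1) ((topologicalKrullDim_subspace_le C _).trans hdC.le)
    refine fun j => h1_decrease (iC i η) hiC hLC hG f' g' hfg hS' (fun m q hq => ?_) j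
    refine subsingleton_HH_of_support K (Groth.L22.Reg.isCoh_twistOn (iC i η) hG _) (d := 0) ?_ hq
    rw [show CohB1.support (Pic13.twistOn K (iC i η) G (m - q)) = CohB1.support G from
      support_tensor (isInvertible_OX _ _) G]
    exact dim_succ_iff.1 hGd
  let s : ℕ := c (-1)
  have hcs : ∀ t : ℕ, c (-1 + (t : ℤ)) ≤ s - t := by
    intro t
    induction t with
    | zero => simp [s]
    | succ t ih =>
      have h' := hcdec (-1 + ((t + 1 : ℕ) : ℤ))
      rw [show -1 + ((t + 1 : ℕ) : ℤ) - 1 = -1 + (t : ℤ) by push_cast; ring] at h'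
      omega
  -- the long exact sequences on the surface
  let a₁ : ℤ → ℕ := fun j => Module.finrank K (Coh.HH X (Pic13.twistOn K i L' j) 1)
  let a₂ : ℤ → ℕ := fun j => Module.finrank K (Coh.HH X (Pic13.twistOn K i L' j) 2)
  have hc : Coh.IsCoh L' := Groth.L18.Ample.isCoh_of_isInvertible hL'
  obtain ⟨f', g', h', hS'⟩ := exists_seq i η hS hL'
  have hstep : ∀ j : ℤ, a₁ (j - 1) ≤ h0 K (NC j) + a₁ j ∧ a₁ j ≤ a₁ (j - 1) + c j ∧ a₂ (j - 1) ≤ c j + a₂ j :=
    fun j => by
    obtain ⟨f₂, g₂, h₂, hS₂⟩ := exists_twist_seq i hS' j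
    have b1 := Groth.L22.Reg.isCoh_twistOn i hc (j - 1)
    have b2 := Groth.L22.Reg.isCoh_twistOn i hc j
    have b3 := Groth.L22.Reg.isCoh_twistOn i (Groth.L03.Euler.isCoh_tensor hL' (pt_facts η).1) j
    have e : ∀ q, Module.finrank K
        (Coh.HH X (Pic13.twistOn K i (CohB1.tensorMod (ClSub.quotMod (pt η)) L') j) q) =
          Module.finrank K (Coh.HH C (NC j) q) := finrank_restrict i η hL' j
    refine ⟨?_, ?_, ?_⟩
    · rw [h0_def, ← e 0]
      exact finrank_left_le (S := ShortComplex.mk f₂ g₂ h₂) K hS₂ b1 b2 b3 0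
    · exact (finrank_middle_le (S := ShortComplex.mk f₂ g₂ h₂) K hS₂ b1 b2 b3 1).trans
        (le_of_eq (congrArg (a₁ (j - 1) + ·) (e 1)))
    · exact (finrank_left_le (S := ShortComplex.mk f₂ g₂ h₂) K hS₂ b1 b2 b3 1).trans
        (le_of_eq (congrArg (· + a₂ j) (e 1)))
  have hregC : Pic13.IsMRegular K i (CohB1.tensorMod (ClSub.quotMod (pt η)) L') (s : ℤ) := fun q hq => by
    have hcG := Groth.L22.Reg.isCoh_twistOn i (Groth.L03.Euler.isCoh_tensor hL' (pt_facts η).1) ((s : ℤ) - q)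
    haveI := ProperFinite.finite_HH K hcG q
    refine (Module.finrank_zero_iff (R := K)).1 ?_
    rw [finrank_restrict i η hL' ((s : ℤ) - q) q]
    rcases eq_or_lt_of_le hq with rfl | hq2
    · have := hcs s
      rw [show -1 + (s : ℤ) = (s : ℤ) - ((1 : ℕ) : ℤ) by push_cast; ring] at this
      rw [Nat.sub_self, Nat.le_zero] at this
      exact this
    · haveI := subsingleton_HH_of_dim hdC.le (NC ((s : ℤ) - q)) hq2
      exact Module.finrank_zero_of_subsingleton
  have ha2top : a₂ ((s : ℤ) - 2) = 0 := by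
    haveI := (bounds i hi L' _ hc (Groth.L03.Euler.isCoh_tensor hL' (pt_facts η).1) f' g' h' hS'
      (s : ℤ) hregC).1 2 ((s : ℤ) - 2) le_rfl (by omega)
    exact Module.finrank_zero_of_subsingleton
  -- arithmetic along the three chains
  have htop1 : s = 0 → a₂ (-1) = 0 := fun hs => by
    haveI := (bounds i hi L' _ hc (Groth.L03.Euler.isCoh_tensor hL' (pt_facts η).1) f' g' h' hS'
      (s : ℤ) hregC).1 2 (-1) le_rfl (by omega)
    exact Module.finrank_zero_of_subsingleton
  obtain ⟨hall, h2m1⟩ := chain_bounds s (fun j => h0 K (NC j)) c a₁ a₂ rfl hcdec hneg hstep ha2top htop1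
  -- the middle value
  have hmid : (a₁ (-1) : ℤ) + a 0 = a₂ (-1) := by
    have he : Curv2.euler K X (Pic13.twistOn K i L' (-1)) = a 0 :=
      hm1
    rw [euler_eq_sum (k := K) (N := 3) (fun q hq => subsingleton_HH_of_dim hd _ (by omega)),
      Finset.sum_range_succ, Finset.sum_range_succ, Finset.sum_range_one] at he
    rw [h0_def] at h0X
    rw [h0X] at he
    simp only [a₁, a₂]
    push_cast at he ⊢
    linarith
  have hq : a 1 * (a 1 + 1) = (s : ℤ) * (s - 1) := by
    rw [show a 1 = -(s : ℤ) by have : (s : ℤ) = -a 1 := hc1; omega]; ring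
  have hA := hall
  refine ⟨fun m => ?_, ?_⟩
  · have h1 := hA m
    rw [hq]
    simp only [a₁, a₂] at h1 hmid h2m1
    linarith
  · rw [hq]
    have h1 := Int.natCast_nonneg (a₁ (-1))
    have h2 := Int.natCast_nonneg (a₂ (-1))
    linarith

section Main

variable {k : Type u} [Field k] {n : ℕ} {X : Scheme.{u}} [X.Over (Spec (CommRingCat.of k))]
  [IsProper (X ↘ Spec (CommRingCat.of k))] (i : X ⟶ CohB1.ProjSpace n k)
  (hi : i ≫ CohB1.ProjSpace.toSpec n k = X ↘ Spec (CommRingCat.of k)) [IsIntegral X]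
  (hd : topologicalKrullDim X = ((2 : ℕ) : WithBot ℕ∞)) [IsClosedImmersion i]

include hd

/-- The coefficients of a twist through the degree. -/
theorem coeff_eq {L : X.Modules} (hL : PicF.IsInvertible L) (a : Fin 3 → ℤ)
    (ha : ∀ m : ℕ, chi i L m = ∑ j : Fin 3, a j * ((m + j).choose j : ℤ)) :
    (a 2 : ℚ) = ii k (OX i 1) (OX i 1) ∧
    (a 1 : ℚ) = ii k L (OX i 1) - 2 * a 2 + (Curv2.euler k X (OX i 1) - Curv2.euler k X (Coh.structureModule X)) := by
  have h0 := ha 0
  have h1 := ha 1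
  have h2 := ha 2
  simp [Fin.sum_univ_three, Nat.choose_one_right] at h0 h1 h2
  norm_num [Nat.choose] at h0 h1 h2
  have s0 := chi_succ i hd hL 0
  have s1 := chi_succ i hd hL 1
  norm_num at s0 s1
  rw [h0, h1] at s0
  rw [h1, h2] at s1
  push_cast at s0 s1
  constructor <;> linarith

include hi

/-- Bounds for a twist of nonpositive degree. -/
theorem sharp {L : X.Modules} (hL : PicF.IsInvertible L) (hdeg : ii k L (OX i 1) ≤ 0) (a : Fin 3 → ℤ)
    (ha : ∀ m : ℕ, chi i L m = ∑ j : Fin 3, a j * ((m + j).choose j : ℤ)) :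
    (∀ m : ℤ, (Module.finrank k (Coh.HH X (Pic13.twistOn k i L m) 1) : ℤ) ≤ a 1 * (a 1 + 1) * a 2 - a 0) ∧
      a 0 ≤ a 1 * (a 1 + 1) := by
  classical
  haveI := Groth.L21.RR.isNoetherian_of_proper (X := X) k
  set H := OX i 1
  have hH : CohB1.IsAmple H := isAmple_OX_one i
  set hh := ii k H H
  have hhpos : 0 < hh := ii_ample_pos k hd.le hd hH
  set l := ii k L H
  set g₀ : ℚ := (Curv2.euler k X H : ℚ) - Curv2.euler k X (Coh.structureModule X)
  obtain ⟨ha2, ha1⟩ := coeff_eq i hd hL a ha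
  have hm1 : chi i L (-1) = a 0 := by
    have h0 := ha 0
    simp [Fin.sum_univ_three] at h0
    have s := chi_succ i hd hL (-1)
    norm_num at s
    rw [h0] at s
    push_cast at s
    exact_mod_cast (show (chi i L (-1) : ℚ) = a 0 by linarith)
  -- the generic section
  obtain ⟨hXK, hdK, η, f, h, hηd, hS⟩ := exists_section k i hi (d := 1) hd
  haveI := hXK
  let g := proj (X := X) k (J.{u} n)
  let i' := iK k i hi
  haveI := Groth.L21.RR.isNoetherian_of_proper (X := XK k (J.{u} n) X) (K k n)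
  let C := (pt η).subscheme
  letI := overPt (k := K k n) η
  haveI : IsIntegral C := isIntegral_pt _
  haveI : IsProper (C ↘ Spec (CommRingCat.of (K k n))) :=
    inferInstanceAs (IsProper ((pt η).subschemeι ≫ (XK k (J.{u} n) X ↘ Spec (CommRingCat.of (K k n)))))
  haveI := Groth.L21.RR.isNoetherian_of_proper (X := C) (K k n)
  have hdC : topologicalKrullDim C = ((1 : ℕ) : WithBot ℕ∞) := by
    rw [← dim_closure_image (pt η).subschemeι, genericPoint_pt]; exact hηd
  have hiC : iC i' η ≫ CohB1.ProjSpace.toSpec n (K k n) = C ↘ Spec (CommRingCat.of (K k n)) := by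
    show ((pt η).subschemeι ≫ i') ≫ _ = _
    rw [Category.assoc, iK_snd k i hi]
    rfl
  let L' := (Scheme.Modules.pullback g).obj L
  have hL' : PicF.IsInvertible L' := isInvertible_pullback g hL
  -- Euler characteristics on the curve
  have hχ : ∀ (M : X.Modules), PicF.IsInvertible M → ∀ j : ℤ,
      ((chi (iC i' η) (res η ((Scheme.Modules.pullback g).obj M)) j : ℤ) : ℚ) =
        ii k M H + ((j - 1 : ℤ) : ℚ) * hh + g₀ := fun M hM j => by
    rw [chi_restrict i' η hS (isInvertible_pullback g hM), chi_ext i hi (Groth.L18.Ample.isCoh_of_isInvertible hM),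
      chi_ext i hi (Groth.L18.Ample.isCoh_of_isInvertible hM), Int.cast_sub]
    have h := chi_succ i hd hM (j - 1)
    rw [show j - 1 + 1 = j by omega] at h
    linarith
  have hχO : (Curv2.euler (K k n) C (Coh.structureModule C) : ℚ) = g₀ - hh := by
    have h := hχ _ (Groth.L18.Ample.isInvertible_structureModule X) 0
    obtain ⟨e⟩ := nonempty_twist_zero (iC i' η) (res η ((Scheme.Modules.pullback g).obj (Coh.structureModule X)))
    rw [chi, euler_iso (e ≪≫ (Scheme.Modules.pullback _).mapIso (Groth.L29.LocFree.pullbackUnitIso g) ≪≫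
      Groth.L29.LocFree.pullbackUnitIso _), show ii k (Coh.structureModule X) H = 0 from altT_unit k _] at h
    rw [h]; push_cast; ring
  have h0X : h0 (K k n) (Pic13.twistOn (K k n) i' L' (-1)) = 0 := by
    obtain ⟨eO⟩ := nonempty_OX_pullback k i hi (-1)
    obtain ⟨e⟩ := nonempty_pullback_twist i g i' L eO
    rw [← h0_iso (K k n) e, show h0 (K k n) ((Scheme.Modules.pullback g).obj (Pic13.twistOn k i L (-1))) =
      h0 k (Pic13.twistOn k i L (-1)) from by
        rw [h0_def, h0_def]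
        exact Groth.L21.RR.h_pullback (k := k) (K := K k n) g
          (IsPullback.of_hasPullback (X ↘ Spec (CommRingCat.of k)) (ext k (J.{u} n)))
          (Groth.L22.Reg.isCoh_twistOn i (Groth.L18.Ample.isCoh_of_isInvertible hL) _) 0]
    refine Nat.eq_zero_of_not_pos fun hpos => ?_
    obtain ⟨σ, hσ⟩ := exists_nonzero_of_h0 k (N := Pic13.twistOn k i L (-1)) hpos
    have hE : PicF.IsInvertible (Pic13.twistOn k i L (-1)) := isInvertible_tensor hL (isInvertible_OX i _)
    have hlt : ii k (Pic13.twistOn k i L (-1)) H < 0 := by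
      show ii k (CohB1.tensorMod L (OX i (-1))) H < 0
      rw [ii_tensor k hd.le hL (isInvertible_OX i _) (isInvertible_OX i _), ii_OX i hd]
      push_cast
      linarith
    rcases ii_effective k hd.le hE hH σ hσ with h | h
    · linarith
    · linarith [h _ (isInvertible_OX i 1)]
  obtain ⟨hb, hb0⟩ := sharp_section i' (iK_snd k i hi) hdK.le η hS hηd hL' l hh g₀ hhpos hdeg (hχ L hL) hχO a
    (by rw [ha1, ha2]) ((chi_ext i hi (Groth.L18.Ample.isCoh_of_isInvertible hL) (-1)).trans hm1) h0X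
  refine ⟨fun m => le_trans ?_ (le_trans (hb m) ?_), hb0⟩
  · obtain ⟨eO⟩ := nonempty_OX_pullback k i hi m
    obtain ⟨e⟩ := nonempty_pullback_twist i g i' L eO
    rw [← finrank_HH_of_iso e 1]
    exact le_of_eq (by exact_mod_cast (Groth.L21.RR.h_pullback (k := k) (K := K k n) g
      (IsPullback.of_hasPullback (X ↘ Spec (CommRingCat.of k)) (ext k (J.{u} n)))
      (Groth.L22.Reg.isCoh_twistOn i (Groth.L18.Ample.isCoh_of_isInvertible hL) _) 1).symm)
  · have h2 : 0 ≤ a 1 * (a 1 + 1) := by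
      rcases le_or_gt 0 (a 1) with h' | h'
      · exact mul_nonneg h' (by omega)
      · exact mul_nonneg_of_nonpos_of_nonpos h'.le (by omega)
    have : (0 : ℚ) < (a 2 : ℚ) := ha2 ▸ hhpos
    have h3 : (0 : ℤ) < a 2 := by exact_mod_cast this
    nlinarith [mul_nonneg h2 (show (0 : ℤ) ≤ a 2 - 1 by omega)]

end Main

end Groth.L11.Bdd.Gen
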