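import Groth.Agent.L11.Bdd.Sharp

/-!
# The lower bound of the constant coefficient
-/

set_option autoImplicit false
set_option backward.isDefEq.respectTransparency false
set_option linter.style.haveILetI false
set_option linter.unusedSectionVars false

universe u

open CategoryTheory CategoryTheory.Limits AlgebraicGeometry TopologicalSpace

noncomputable section

namespace Groth.L11.Bdd.Gen

open Groth.L22.Inter Groth.L22.Nef Groth.L22.Big Groth.L03.Euler Groth.L16 Groth.L11.NumOrth
open Groth.L00.Tensor (tensorIso tensorAssoc tensorComm tensorUnitRight tensorUnitLeft)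
open Groth.L18.GenLoc (isInvertible_tensor)

attribute [local irreducible] Curv2.euler

variable {k : Type u} [Field k] {n : ℕ} {X : Scheme.{u}} [X.Over (Spec (CommRingCat.of k))]
  [IsProper (X ↘ Spec (CommRingCat.of k))] (i : X ⟶ CohB1.ProjSpace n k)
  (hi : i ≫ CohB1.ProjSpace.toSpec n k = X ↘ Spec (CommRingCat.of k)) [IsIntegral X]
  (hd : topologicalKrullDim X = ((2 : ℕ) : WithBot ℕ∞)) [IsClosedImmersion i]

include hd

/-- The Hilbert polynomial of a twist in every degree. -/
theorem chi_quad {M : X.Modules} (hM : PicF.IsInvertible M) (b₁ : ℚ)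
    (hb : b₁ = ii k M (OX i 1) - 2 * ii k (OX i 1) (OX i 1) +
      (Curv2.euler k X (OX i 1) - Curv2.euler k X (Coh.structureModule X))) (j : ℤ) :
    2 * (chi i M j : ℚ) = 2 * chi i M (-1) + 2 * b₁ * ((j : ℚ) + 1) +
      ii k (OX i 1) (OX i 1) * (((j : ℚ) + 1) * ((j : ℚ) + 2)) := by
  induction j using Int.inductionOn' (b := -1) with
  | zero => push_cast; ring
  | succ j _ ih =>
    rw [chi_succ i hd hM j]
    push_cast
    rw [hb] at ih ⊢
    linarith
  | pred j _ ih =>
    have h := chi_succ i hd hM (j - 1)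
    rw [show j - 1 + 1 = j by omega] at h
    push_cast at h ⊢
    rw [hb] at ih ⊢
    linarith

include hi

/-- The lower bound. -/
theorem coeff_zero_lower {L L' : X.Modules} (hL : PicF.IsInvertible L) (hL' : PicF.IsInvertible L')
    (hLL' : Nonempty (CohB1.tensorMod L L' ≅ Coh.structureModule X)) (δ : ℤ) (hδ : ii k L (OX i 1) = δ) (hδ0 : δ ≤ 0)
    (a : Fin 3 → ℤ) (ha : ∀ m : ℕ, chi i L m = ∑ j : Fin 3, a j * ((m + j).choose j : ℤ))
    (e : Fin 3 → ℤ) (he : ∀ m : ℕ, chi i (Coh.structureModule X) m = ∑ j : Fin 3, e j * ((m + j).choose j : ℤ)) :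
    2 * ii k L L + 4 * (e 0 : ℚ) + 2 * (2 * (e 1 : ℚ) - a 1) * δ + (2 * (e 2 : ℚ) - a 2) * (δ * (δ + 1)) -
        2 * (((δ * (e 2 - 1) + e 1) * (δ * (e 2 - 1) + e 1 + 1) : ℤ) : ℚ) ≤ 2 * (a 0 : ℚ) := by
  classical
  haveI := Groth.L21.RR.isNoetherian_of_proper (X := X) k
  obtain ⟨eL⟩ := hLL'
  let O := Coh.structureModule X
  have hO := Groth.L18.Ample.isInvertible_structureModule X
  set H := OX i 1
  have hH := isInvertible_OX i 1
  obtain ⟨ha2, ha1⟩ := coeff_eq i hd hL a ha
  obtain ⟨he2, he1⟩ := coeff_eq i hd hO e he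
  rw [show ii k O H = 0 from altT_unit k _] at he1
  rw [hδ] at ha1
  have hL'H : ii k L' H = -(δ : ℚ) := by
    have h0 : ii k (CohB1.tensorMod L L') H = 0 := (ii_congr k eL H).trans (altT_unit k _)
    rw [ii_tensor k hd.le hL hL' hH, hδ] at h0
    linarith
  have hLL : ii k L L' = -ii k L L := by
    have h0 : ii k (CohB1.tensorMod L L') L = 0 := (ii_congr k eL L).trans (altT_unit k _)
    rw [ii_tensor k hd.le hL hL' hL, ii_comm k L' L] at h0
    linarith
  have hz : ∀ M, PicF.IsInvertible M → (chi i M 0 : ℚ) = Curv2.euler k X M := fun M _ => by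
    obtain ⟨e0⟩ := nonempty_twist_zero i M
    rw [chi, euler_iso e0]
  have hRR : (chi i L 0 : ℚ) + chi i L' 0 = 2 * chi i O 0 + ii k L L := by
    have h1 : ∀ A : X.Modules, altT k (fun _ : Fin 1 => L') A =
        (Curv2.euler k X (CohB1.tensorMod A L') : ℚ) - Curv2.euler k X A := fun A => by
      rw [altT_succ, altT_zero_eq, altT_zero_eq]
    have h2 := ii_eq_sub k L L'
    rw [h1, h1, euler_iso (tensorUnitLeft L'), euler_iso eL, hLL] at h2
    rw [hz L hL, hz L' hL', hz O hO]
    linarith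
  have qL := chi_quad i hd hL _ rfl
  have qL' := chi_quad i hd hL' _ rfl
  have qO := chi_quad i hd hO _ rfl
  rw [show ii k O H = 0 from altT_unit k _] at qO
  rw [hδ] at qL
  rw [hL'H] at qL'
  have hLm1 : (chi i L (-1) : ℚ) = a 0 := by
    have h0 := ha 0
    simp [Fin.sum_univ_three] at h0
    have q := qL 0
    rw [h0] at q
    push_cast at q
    linarith
  have hOm1 : (chi i O (-1) : ℚ) = e 0 := by
    have h0 := he 0
    simp [Fin.sum_univ_three] at h0
    have q := qO 0
    rw [h0] at q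
    push_cast at q
    linarith
  -- the twist of the inverse
  let M := Pic13.twistOn k i L' δ
  have hM : PicF.IsInvertible M := isInvertible_tensor hL' (isInvertible_OX i δ)
  have hMH : ii k M H = (δ : ℚ) * ((e 2 : ℚ) - 1) := by
    show ii k (CohB1.tensorMod L' (OX i δ)) H = _
    rw [ii_tensor k hd.le hL' (isInvertible_OX i δ) hH, ii_OX i hd, hL'H, he2]
    ring
  have he2pos : (1 : ℤ) ≤ e 2 := by
    have : (0 : ℚ) < (e 2 : ℚ) := he2 ▸ ii_ample_pos k hd.le hd (isAmple_OX_one i)
    have : (0 : ℤ) < e 2 := by exact_mod_cast this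
    omega
  have qM := chi_quad i hd hM _ rfl
  rw [hMH, ← he2] at qM
  let b : Fin 3 → ℤ := ![chi i M (-1), δ * (e 2 - 1) + e 1, e 2]
  have hb : ∀ m : ℕ, chi i M m = ∑ j : Fin 3, b j * ((m + j).choose j : ℤ) := by
    intro m
    refine Int.cast_inj (α := ℚ) |>.1 ?_
    have q := qM m
    simp [Fin.sum_univ_three, b, Nat.choose_one_right, Nat.cast_choose_two]
    push_cast at q ⊢
    rw [he1]
    linarith
  have hdegM : ii k M (OX i 1) ≤ 0 := by
    rw [hMH]
    exact mul_nonpos_of_nonpos_of_nonneg (by exact_mod_cast hδ0) (by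
      have : (1 : ℚ) ≤ (e 2 : ℚ) := by exact_mod_cast he2pos
      linarith)
  have hb0 := (sharp i hi hd hM hdegM b hb).2
  simp only [b, Matrix.cons_val_zero, Matrix.cons_val_one] at hb0
  have hcast : (chi i M (-1) : ℚ) ≤ (((δ * (e 2 - 1) + e 1) * (δ * (e 2 - 1) + e 1 + 1) : ℤ) : ℚ) := by
    exact_mod_cast hb0
  have hMm1 : chi i M (-1) = chi i L' (δ - 1) := by
    obtain ⟨et⟩ := nonempty_twist_twist i L' (show δ + -1 = δ - 1 by omega)
    exact euler_iso et
  rw [hMm1] at hcast
  have a' := qL' (δ - 1)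
  have b' := qL' 0
  have c' := qL 0
  have d' := qO 0
  push_cast at a' b' c' d'
  rw [hLm1] at c'
  rw [hOm1] at d'
  rw [← he2] at a' b' c' d'
  have haa : (a 2 : ℚ) = e 2 := ha2.trans he2.symm
  have ha1' : (a 1 : ℚ) = δ + e 1 := by rw [ha1, he1, haa]; ring
  rw [ha1', haa]
  rw [show ((Curv2.euler k X H : ℚ) - Curv2.euler k X O) = (e 1 : ℚ) + 2 * e 2 by rw [he1]; ring] at a' b' c' d'
  ring_nf at a' b' c' d' hcast hRR ⊢
  linarith

end Groth.L11.Bdd.Gen
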