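import Groth.Agent.L11.Bdd.Member
import Groth.Agent.L22.Big.SurfaceMain
import Groth.Agent.L22.Big.Support
import Groth.Agent.L11.Bdd.Degree
import Groth.Agent.L22.Reg.Closed
import Groth.Agent.L22.Reg.Bound
import Groth.Agent.L22.Reg.PnGen
import Groth.Agent.L17.SerreCriterion

/-!
# The top Hilbert coefficients bound degree and self-intersection
-/

set_option autoImplicit false
set_option backward.isDefEq.respectTransparency false
set_option linter.style.haveILetI false
set_option linter.unusedSectionVars false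

universe u

open CategoryTheory CategoryTheory.Limits AlgebraicGeometry TopologicalSpace

noncomputable section

namespace Groth.L11.Bdd.Gen

open Groth.L22.Inter Groth.L22.Nef Groth.L22.Big Groth.L03.Euler Groth.L16 Groth.L11.NumOrth
open Groth.L00.Tensor (tensorIso tensorAssoc tensorComm tensorUnitRight tensorUnitLeft)
open Groth.L18.Ample (isInvertible_pullback isInvertible_tensorPow)
open Groth.L18.GenLoc (isInvertible_tensor)

attribute [local irreducible] Curv2.euler

/-- Backward difference. -/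
def D1 (f : ℤ → ℤ) : ℤ → ℤ := fun j => f j - f (j - 1)

section General

variable {k : Type u} [Field k] {n : ℕ} {X : Scheme.{u}} [X.Over (Spec (CommRingCat.of k))]
  [IsProper (X ↘ Spec (CommRingCat.of k))] (i : X ⟶ CohB1.ProjSpace n k) [IsClosedImmersion i]
  (hi : i ≫ CohB1.ProjSpace.toSpec n k = X ↘ Spec (CommRingCat.of k))

/-- The Euler characteristics of the twists. -/
def chi (L : X.Modules) (j : ℤ) : ℤ := Curv2.euler k X (Pic13.twistOn k i L j)

include hi in
/-- Cohomology bounds from a hyperplane sequence over any field. -/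
theorem bounds (F G : X.Modules) (hF : Coh.IsCoh F) (hG : Coh.IsCoh G)
    (f : Pic13.twistOn k i F (-1) ⟶ F) (g : F ⟶ G) (hfg : f ≫ g = 0) (hS : (ShortComplex.mk f g hfg).ShortExact)
    (m : ℤ) (hGm : Pic13.IsMRegular k i G m) :
    (∀ (q : ℕ) (n' : ℤ), 2 ≤ q → m - q ≤ n' → Subsingleton (Coh.HH X (Pic13.twistOn k i F n') q)) ∧
    Pic13.IsMRegular k i F (m + Module.finrank k (Coh.HH X (Pic13.twistOn k i F (m - 1)) 1)) := by
  obtain ⟨e⟩ := Groth.L22.Reg.nonempty_push_twist i F (-1)
  have hP := Groth.L22.Reg.shortExact_push i hS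
  haveI := hP.mono_f
  haveI := hP.epi_g
  let ι := e.hom ≫ (Coh.push i).map f
  haveI : Mono ((Coh.push i).map f) := hP.mono_f
  haveI : Mono ι := inferInstanceAs (Mono (e.hom ≫ (Coh.push i).map f))
  let c : cokernel ι ≅ (Coh.push i).obj G :=
    cokernelEpiComp e.hom ((Coh.push i).map f) ≪≫
      IsColimit.coconePointUniqueUpToIso (cokernelIsCokernel ((Coh.push i).map f)) hP.gIsCokernel
  have hr := Groth.L22.Reg.regular_iso c.symm ((Groth.L22.Reg.regular_push_iff i hi hG).1 hGm)
  have hP' := Groth.L22.Reg.isCoh_push_closed i hF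
  refine ⟨fun q n' hq hn' => (Groth.L22.Reg.subsingleton_twist_iff i hi hF n' q).2
      (Groth.L22.Reg.subsingleton_ge_two ι hP' hr hq hn'), ?_⟩
  rw [Groth.L22.Reg.h1_push i hi hF]
  exact (Groth.L22.Reg.regular_push_iff i hi hF).2 (Groth.L22.Reg.regular_hyp ι hP' hr)

include hi in
/-- A regular twist is globally generated, over any field. -/
theorem gg_of_regular {F : X.Modules} (hF : Coh.IsCoh F) {m : ℤ} (h : Pic13.IsMRegular k i F m) :
    Curv2.IsGloballyGenerated (Pic13.twistOn k i F m) := by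
  have hr := (Groth.L22.Reg.regular_push_iff i hi hF).1 h
  haveI : Coh.IsQCoh (Pic13.twistOn k i F m) := (Groth.L22.Reg.isCoh_twistOn i hF m).1
  obtain ⟨e⟩ := Groth.L22.Reg.nonempty_push_twist i F m
  exact Groth.L22.Reg.isGloballyGenerated_of_push i (Groth.L18.Ample.isGloballyGenerated_of_iso e
    (hr.isGloballyGenerated (Groth.L22.Reg.isCoh_push_closed i hF) le_rfl))

theorem nonempty_pullback_twist {Y : Scheme.{u}} {k' : Type u} [Field k'] {n' : ℕ} (g : Y ⟶ X)
    (i' : Y ⟶ CohB1.ProjSpace n' k') (L : X.Modules) {a b : ℤ}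
    (e : (Scheme.Modules.pullback g).obj (OX i a) ≅ OX i' b) :
    Nonempty ((Scheme.Modules.pullback g).obj (Pic13.twistOn k i L a) ≅
      Pic13.twistOn k' i' ((Scheme.Modules.pullback g).obj L) b) :=
  ⟨(Groth.L29.DC.PullTensor.pullTensor g L _).symm ≪≫ tensorIso (Iso.refl _) e⟩

end General

/-! ### Integral curves -/

section Curve

variable (k : Type u) [Field k] {C : Scheme.{u}} [C.Over (Spec (CommRingCat.of k))]
  [IsProper (C ↘ Spec (CommRingCat.of k))] [IsIntegral C]
  (hdim : topologicalKrullDim C ≤ ((1 : ℕ) : WithBot ℕ∞))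

include hdim

theorem euler_curve {M : C.Modules} : Curv2.euler k C M =
    (h0 k M : ℤ) - (Module.finrank k (Coh.HH C M 1) : ℤ) := by
  haveI := Groth.L21.RR.isNoetherian_of_proper (X := C) k
  rw [euler_eq_sum (k := k) (N := 2) (fun q hq => subsingleton_HH_of_dim hdim M (by omega)), h0_def,
    Finset.sum_range_succ, Finset.sum_range_one]
  ring

theorem curve_seq {A N : C.Modules} (hA : PicF.IsInvertible A) (hN : PicF.IsInvertible N)
    (hpos : 0 < h0 k (CohB1.tensorMod N A)) {B : C.Modules} (hB : PicF.IsInvertible B)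
    (e : CohB1.tensorMod A B ≅ Coh.structureModule C) :
    ∃ S : ShortComplex C.Modules, S.ShortExact ∧ Nonempty (S.X₁ ≅ B) ∧ Nonempty (S.X₂ ≅ N) ∧
      Coh.IsCoh S.X₁ ∧ Coh.IsCoh S.X₂ ∧ Coh.IsCoh S.X₃ ∧
      topologicalKrullDim (CohB1.support S.X₃) ≤ ((0 : ℕ) : WithBot ℕ∞) := by
  haveI := Groth.L21.RR.isNoetherian_of_proper (X := C) k
  obtain ⟨s, hs⟩ := exists_nonzero_of_h0 k hpos
  have hNA := isInvertible_tensor hN hA
  have hη := Groth.L22.CurveAmple.genericPoint_mem_genLocus hNA hs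
  haveI : Mono s := Groth.L22.Nakai.mono_of_injective (Groth.L18.Ample.isInvertible_structureModule C) s
    (bijective_stalk_section s hη).1
  let e₁ : CohB1.tensorMod (CohB1.tensorMod N A) B ≅ N := tensorAssoc N A B ≪≫ tensorIso (Iso.refl N) e ≪≫ tensorUnitRight N
  obtain ⟨hD, hDη⟩ := cokernel_facts k (Groth.L18.Ample.isInvertible_structureModule C) hNA s
  have hS : (ShortComplex.mk s (cokernel.π s) (cokernel.condition s)).ShortExact :=
    { exact := ShortComplex.exact_cokernel s }
  refine ⟨_, shortExact_tensor hB hS, ⟨tensorUnitLeft B⟩, ⟨e₁⟩,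
    Groth.L03.Euler.isCoh_tensor hB CohClosedPush.isCoh_structure,
    Groth.L03.Euler.isCoh_tensor hB (Groth.L18.Ample.isCoh_of_isInvertible hNA),
    Groth.L03.Euler.isCoh_tensor hB hD, ?_⟩
  refine le_trans (le_of_eq ?_) (dim_le_of_generic_notMem (n := 0) (CohSupport.isClosed_support _ hD.2) hDη hdim)
  exact congrArg (fun T : Set C => topologicalKrullDim T) (support_tensor hB (cokernel s))

/-- Sections on a curve are bounded by the degree. -/
theorem h0_le_curve {N : C.Modules} (hN : PicF.IsInvertible N) :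
    (h0 k N : ℤ) ≤ h0 k (Coh.structureModule C) + |Curv2.euler k C N - Curv2.euler k C (Coh.structureModule C)| := by
  haveI := Groth.L21.RR.isNoetherian_of_proper (X := C) k
  have hO := Groth.L18.Ample.isInvertible_structureModule C
  rcases Nat.eq_zero_or_pos (h0 k N) with h | h
  · rw [h]; positivity
  obtain ⟨S, hS, ⟨e₁⟩, ⟨e₂⟩, c₁, c₂, c₃, h3⟩ := curve_seq k hdim hO hN
    (by rwa [h0_iso k (tensorUnitRight N)]) hO (tensorUnitLeft _)
  have hadd := h0_le_add k hS c₁ c₂ c₃
  rw [h0_iso k e₁, h0_iso k e₂] at hadd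
  have hq : Curv2.euler k C S.X₃ = (h0 k S.X₃ : ℤ) := by
    rw [euler_eq_sum (k := k) (N := 1) (fun q hq => subsingleton_HH_of_support k c₃ h3 (by omega)), h0_def]
    simp
  have he := euler_add (k := k) hS c₁ c₂ c₃
  rw [euler_iso e₁, euler_iso e₂, hq] at he
  have hadd' : (h0 k N : ℤ) ≤ h0 k (Coh.structureModule C) + h0 k S.X₃ := by exact_mod_cast hadd
  rw [he, add_sub_cancel_left, abs_of_nonneg (Int.natCast_nonneg _)]
  exact hadd'

/-- Enough degree kills `H¹` on a curve. -/
theorem h1_zero_curve {A B N : C.Modules} (hA : PicF.IsInvertible A) (hB : PicF.IsInvertible B)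
    (hN : PicF.IsInvertible N) (e : CohB1.tensorMod A B ≅ Coh.structureModule C)
    (hB1 : Subsingleton (Coh.HH C B 1)) (hpos : 0 < Curv2.euler k C (CohB1.tensorMod N A)) :
    Subsingleton (Coh.HH C N 1) := by
  haveI := Groth.L21.RR.isNoetherian_of_proper (X := C) k
  rw [euler_curve k hdim] at hpos
  obtain ⟨S, hS, ⟨e₁⟩, ⟨e₂⟩, c₁, c₂, c₃, h3⟩ := curve_seq k hdim hA hN (by omega) hB e
  exact (Groth.L22.Reg.subsingleton_congr_iso e₂ 1).1 (Groth.L17.Serre.subsingleton_of_shortExact hS
    ((Groth.L22.Reg.subsingleton_congr_iso e₁ 1).2 hB1) (subsingleton_HH_of_support k c₃ h3 one_pos))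

end Curve

/-! ### A hyperplane section -/

section Section

variable {k : Type u} [Field k] {n : ℕ} {X : Scheme.{u}} [X.Over (Spec (CommRingCat.of k))]
  [IsProper (X ↘ Spec (CommRingCat.of k))] (i : X ⟶ CohB1.ProjSpace n k)

/-- A short exact sequence of twists. -/
theorem exists_twist_seq {F G : X.Modules} {f : Pic13.twistOn k i F (-1) ⟶ F} {g : F ⟶ G} {h : f ≫ g = 0}
    (hS : (ShortComplex.mk f g h).ShortExact) (j : ℤ) :
    ∃ (f' : Pic13.twistOn k i F (j - 1) ⟶ Pic13.twistOn k i F j)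
      (g' : Pic13.twistOn k i F j ⟶ Pic13.twistOn k i G j) (h' : f' ≫ g' = 0),
      (ShortComplex.mk f' g' h').ShortExact := by
  have hT := shortExact_tensor (isInvertible_OX i j) hS
  obtain ⟨e⟩ := nonempty_twist_twist i F (show -1 + j = j - 1 by omega)
  refine ⟨e.inv ≫ (Groth.L00.Tensor.tensorRightF (OX i j)).map f,
    (Groth.L00.Tensor.tensorRightF (OX i j)).map g,
    by rw [Category.assoc, ← Functor.map_comp, h, Functor.map_zero, comp_zero], ?_⟩
  refine ShortComplex.shortExact_of_iso ?_ hT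
  exact ShortComplex.isoMk e (Iso.refl _) (Iso.refl _)
    ((Iso.hom_inv_id_assoc _ _).trans (Category.comp_id _).symm)
    ((Category.id_comp _).trans (Category.comp_id _).symm)

variable [IsClosedImmersion i] (η : X) {f : OX i (-1) ⟶ Coh.structureModule X}
  {h : f ≫ ClSub.toSubscheme (pt η) = 0} (hS : (ShortComplex.mk f (ClSub.toSubscheme (pt η)) h).ShortExact)

/-- The embedding of the subscheme at a point. -/
abbrev iC : (pt η).subscheme ⟶ CohB1.ProjSpace n k := (pt η).subschemeι ≫ i

/-- The restriction to the subscheme at a point. -/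
abbrev res (L : X.Modules) : (pt η).subscheme.Modules := (Scheme.Modules.pullback (pt η).subschemeι).obj L

/-- The structure of the subscheme at a point. -/
abbrev overPt : (pt η).subscheme.Over (Spec (CommRingCat.of k)) :=
  ⟨(pt η).subschemeι ≫ (X ↘ Spec (CommRingCat.of k))⟩

theorem finrank_restrict {L : X.Modules} (hL : PicF.IsInvertible L) (j : ℤ) (q : ℕ) :
    Module.finrank k (Coh.HH X (Pic13.twistOn k i (CohB1.tensorMod (ClSub.quotMod (pt η)) L) j) q) =
      @Module.finrank k (Coh.HH (pt η).subscheme (Pic13.twistOn k (iC i η) (res η L) j) q) _ _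
        (letI := overPt (k := k) η; inferInstance) := by
  letI := overPt (k := k) η
  haveI := Groth.L21.RR.isNoetherian_of_proper (X := X) k
  haveI : IsLocallyNoetherian (pt η).subscheme := LocallyOfFiniteType.isLocallyNoetherian (pt η).subschemeι
  haveI : X.IsSeparated := ⟨by rw [← terminal.comp_from (X ↘ Spec (CommRingCat.of k))]; infer_instance⟩
  have hE := isInvertible_tensor hL (isInvertible_OX i j)
  rw [show Module.finrank k (Coh.HH X (Pic13.twistOn k i (CohB1.tensorMod (ClSub.quotMod (pt η)) L) j) q) =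
    Module.finrank k (Coh.HH X (CohB1.tensorMod ((Coh.push (pt η).subschemeι).obj
      (Coh.structureModule (pt η).subscheme)) (CohB1.tensorMod L (OX i j))) q) from
      finrank_HH_of_iso (tensorAssoc _ L (OX i j)) q,
    finrank_push k (pt η).subschemeι rfl hE _ CohClosedPush.isCoh_structure.1 q]
  exact finrank_HH_of_iso (tensorUnitLeft _ ≪≫
    (Groth.L29.DC.PullTensor.pullTensor (pt η).subschemeι L (OX i j)).symm ≪≫
    tensorIso (Iso.refl _) ((Scheme.Modules.pullbackComp (pt η).subschemeι i).app _)) q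

theorem euler_restrict {L : X.Modules} (hL : PicF.IsInvertible L) (j : ℤ) :
    Curv2.euler k X (Pic13.twistOn k i (CohB1.tensorMod (ClSub.quotMod (pt η)) L) j) =
      letI := overPt (k := k) η
      chi (iC i η) (res η L) j := by
  letI := overPt (k := k) η
  haveI := Groth.L21.RR.isNoetherian_of_proper (X := X) k
  haveI : IsProper ((pt η).subscheme ↘ Spec (CommRingCat.of k)) :=
    inferInstanceAs (IsProper ((pt η).subschemeι ≫ (X ↘ Spec (CommRingCat.of k))))
  haveI := Groth.L21.RR.isNoetherian_of_proper (X := (pt η).subscheme) k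
  obtain ⟨N, hN⟩ := Groth.L03.Euler.exists_bound (k := k) (X := X)
  obtain ⟨M, hM⟩ := Groth.L03.Euler.exists_bound (k := k) (X := (pt η).subscheme)
  show _ = Curv2.euler k (pt η).subscheme (Pic13.twistOn k (iC i η) (res η L) j)
  have c1 := (Groth.L22.Reg.isCoh_twistOn i (Groth.L03.Euler.isCoh_tensor hL (pt_facts η).1) j).1
  have c2 := (Groth.L22.Reg.isCoh_twistOn (iC i η) (Groth.L18.Ample.isCoh_of_isInvertible
    (isInvertible_pullback (pt η).subschemeι hL)) j).1
  rw [euler_eq_sum (k := k) (N := max N M) (fun q hq => hN _ c1 q (le_trans (le_max_left _ _) hq)),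
    euler_eq_sum (k := k) (N := max N M) (fun q hq => hM _ c2 q (le_trans (le_max_right _ _) hq))]
  exact Finset.sum_congr rfl fun q _ => by rw [finrank_restrict i η hL j q]

include hS

/-- The sequence of the section twisted by an invertible module. -/
theorem exists_seq {L : X.Modules} (hL : PicF.IsInvertible L) :
    ∃ (f' : Pic13.twistOn k i L (-1) ⟶ L)
      (g' : L ⟶ CohB1.tensorMod (ClSub.quotMod (pt η)) L) (h' : f' ≫ g' = 0),
      (ShortComplex.mk f' g' h').ShortExact := by
  have hT := shortExact_tensor hL hS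
  let e₁ := tensorComm (OX i (-1)) L
  let e₂ := tensorUnitLeft L
  refine ⟨e₁.inv ≫ (Groth.L00.Tensor.tensorRightF L).map f ≫ e₂.hom,
    e₂.inv ≫ (Groth.L00.Tensor.tensorRightF L).map (ClSub.toSubscheme (pt η)),
    by rw [Category.assoc, Category.assoc, Iso.hom_inv_id_assoc, ← Functor.map_comp, h, Functor.map_zero,
      comp_zero], ?_⟩
  refine ShortComplex.shortExact_of_iso ?_ hT
  exact ShortComplex.isoMk e₁ e₂ (Iso.refl _) (Iso.hom_inv_id_assoc _ _)
    ((Iso.hom_inv_id_assoc _ _).trans (Category.comp_id _).symm)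

theorem chi_restrict {L : X.Modules} (hL : PicF.IsInvertible L) (j : ℤ) :
    (letI := overPt (k := k) η; chi (iC i η) (res η L) j) = chi i L j - chi i L (j - 1) := by
  haveI := Groth.L21.RR.isNoetherian_of_proper (X := X) k
  obtain ⟨f', g', h', hS'⟩ := exists_seq i η hS hL
  obtain ⟨f₂, g₂, h₂, hS₂⟩ := exists_twist_seq i hS' j
  have hc := Groth.L18.Ample.isCoh_of_isInvertible hL
  have he := euler_add (k := k) (S := ShortComplex.mk f₂ g₂ h₂) hS₂ (Groth.L22.Reg.isCoh_twistOn i hc (j - 1))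
    (Groth.L22.Reg.isCoh_twistOn i hc j)
    (Groth.L22.Reg.isCoh_twistOn i (Groth.L03.Euler.isCoh_tensor hL (pt_facts η).1) j)
  rw [← euler_restrict i η hL j]
  unfold chi
  linarith

/-- Intersection numbers through the section. -/
theorem altT_section {r : ℕ} {R : Fin r → X.Modules} (hR : ∀ l, PicF.IsInvertible (R l))
    (hd : topologicalKrullDim X ≤ ((r + 1 : ℕ) : WithBot ℕ∞)) :
    altT k (Fin.cons (OX i 1) R) (Coh.structureModule X) = altT k R (ClSub.quotMod (pt η)) := by
  haveI := Groth.L21.RR.isNoetherian_of_proper (X := X) k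
  have hO := CohClosedPush.isCoh_structure (X := X)
  have hm1 := Groth.L18.Ample.isCoh_of_isInvertible (isInvertible_OX i (-1))
  haveI : Mono f := hS.mono_f
  haveI : Epi (ClSub.toSubscheme (pt η)) := hS.epi_g
  have hmap := altT_map k hR hm1 hO f
  have hker : altT k R (kernel f) = 0 := by
    rw [altT, twEuler_of_isZero k hR (isZero_kernel_of_mono f), map_zero]
  let c : cokernel f ≅ ClSub.quotMod (pt η) :=
    IsColimit.coconePointUniqueUpToIso (cokernelIsCokernel f) hS.gIsCokernel
  rw [hker, altT_iso k R c] at hmap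
  obtain ⟨ea⟩ := nonempty_OX_add i (show (-1 : ℤ) + 1 = 0 by norm_num)
  obtain ⟨e0⟩ := nonempty_OX_zero i
  have h1 : altT k (Fin.cons (OX i 1) R) (OX i (-1)) =
      altT k R (Coh.structureModule X) - altT k R (OX i (-1)) := by
    rw [altT_cons, altT_iso k R (ea ≪≫ e0)]
  have h2 : altT k (Fin.cons (OX i 1) R) (OX i (-1)) = altT k (Fin.cons (OX i 1) R) (Coh.structureModule X) := by
    let R' : Fin (r + 1) → X.Modules := Fin.cons (OX i 1) R
    have hR' : ∀ l, PicF.IsInvertible (R' l) := Fin.cases (by simpa [R'] using isInvertible_OX i 1) fun l => by simpa [R'] using hR l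
    have h3 := altT_eq_zero k (L := Fin.cons (OX i (-1)) R') (Fin.cases (by simpa using isInvertible_OX i (-1)) fun l => by simpa using hR' l)
      hO ((add_le_add_left ((topologicalKrullDim_subspace_le X _).trans hd) 1).trans (by norm_cast))
    rw [altT_cons, altT_iso k R' (tensorUnitLeft (OX i (-1)))] at h3
    linarith
  linarith

end Section

/-! ### Surfaces -/

section Surface

variable {k : Type u} [Field k] {n : ℕ} {X : Scheme.{u}} [X.Over (Spec (CommRingCat.of k))]
  [IsProper (X ↘ Spec (CommRingCat.of k))] (i : X ⟶ CohB1.ProjSpace n k)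
  (hi : i ≫ CohB1.ProjSpace.toSpec n k = X ↘ Spec (CommRingCat.of k))

include hi in
/-- Euler characteristics survive the field extension. -/
theorem chi_ext {L : X.Modules} (hL : Coh.IsCoh L) (j : ℤ) [IsClosedImmersion i] :
    chi (iK k i hi) ((Scheme.Modules.pullback (proj (X := X) k (J.{u} n))).obj L) j = chi i L j := by
  obtain ⟨eO⟩ := nonempty_OX_pullback k i hi j
  obtain ⟨e⟩ := nonempty_pullback_twist i (proj (X := X) k (J.{u} n)) (iK k i hi) L eO
  rw [chi, chi, ← euler_iso e]
  exact Groth.L21.RR.euler_pullback (k := k) (K := K k n) (proj (X := X) k (J.{u} n))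
    (IsPullback.of_hasPullback (X ↘ Spec (CommRingCat.of k)) (ext k (J.{u} n))) (Groth.L22.Reg.isCoh_twistOn i hL j)

variable [IsIntegral X] (hd : topologicalKrullDim X = ((2 : ℕ) : WithBot ℕ∞)) [IsClosedImmersion i]

include hd

theorem ii_OX (j : ℤ) : ii k (OX i j) (OX i 1) = (j : ℚ) * ii k (OX i 1) (OX i 1) := by
  have h1 := isInvertible_OX i 1
  have hnat : ∀ t : ℕ, ii k (OX i (t : ℤ)) (OX i 1) = (t : ℚ) * ii k (OX i 1) (OX i 1) := fun t => by
    obtain ⟨e⟩ := nonempty_pow_OX i t
    rw [← ii_congr k e, ii_pow k hd.le h1 h1]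
  rcases j.eq_nat_or_neg with ⟨t, rfl | rfl⟩
  · rw [hnat]; push_cast; rfl
  · obtain ⟨ea⟩ := nonempty_OX_add i (show -(t : ℤ) + t = 0 by omega)
    obtain ⟨e0⟩ := nonempty_OX_zero i
    have h : ii k (CohB1.tensorMod (OX i (-(t : ℤ))) (OX i (t : ℤ))) (OX i 1) = 0 :=
      (ii_congr k (ea ≪≫ e0) _).trans (altT_unit k _)
    rw [ii_tensor k hd.le (isInvertible_OX i _) (isInvertible_OX i _) h1, hnat] at h
    push_cast
    linarith

theorem chi_succ {L : X.Modules} (hL : PicF.IsInvertible L) (j : ℤ) :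
    ((chi i L (j + 1) : ℤ) : ℚ) = chi i L j + ii k L (OX i 1) + j * ii k (OX i 1) (OX i 1) +
      (Curv2.euler k X (OX i 1) - Curv2.euler k X (Coh.structureModule X)) := by
  haveI := Groth.L21.RR.isNoetherian_of_proper (X := X) k
  let H := OX i 1
  let Lj := Pic13.twistOn k i L j
  have h1 : ∀ A : X.Modules, altT k (fun _ : Fin 1 => H) A =
      (Curv2.euler k X (CohB1.tensorMod A H) : ℚ) - Curv2.euler k X A := fun A => by
    rw [altT_succ, altT_zero_eq, altT_zero_eq]
  have h2 := ii_eq_sub k Lj H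
  rw [h1, h1] at h2
  have e : Curv2.euler k X (CohB1.tensorMod Lj H) = chi i L (j + 1) := by
    obtain ⟨e⟩ := nonempty_twist_twist i L (show j + 1 = j + 1 from rfl)
    exact euler_iso e
  rw [e, show Curv2.euler k X (CohB1.tensorMod (Coh.structureModule X) H) = Curv2.euler k X H from
    euler_iso (tensorUnitLeft H)] at h2
  have h3 : ii k Lj H = ii k L H + j * ii k H H := by
    show ii k (CohB1.tensorMod L (OX i j)) H = _
    rw [ii_tensor k hd.le hL (isInvertible_OX i j) (isInvertible_OX i 1), ii_OX i hd]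
  rw [h3] at h2
  show ((chi i L (j + 1) : ℤ) : ℚ) = (Curv2.euler k X Lj : ℚ) + _ + _ + _
  linarith

include hi

/-- The surface case. -/
theorem topThree_zero (c : ℤ) (B : ℚ) : ∃ B' : ℚ, ∀ L : X.Modules, PicF.IsInvertible L →
    |(chi i L c : ℚ)| ≤ B → |(chi i L (c + 1) : ℚ)| ≤ B →
    |ii k L (OX i 1)| ≤ B' ∧ -B' ≤ ii k L L := by
  classical
  haveI := Groth.L21.RR.isNoetherian_of_proper (X := X) k
  set H := OX i 1
  have hH : CohB1.IsAmple H := isAmple_OX_one i
  set hh := ii k H H
  have hhpos : 0 < hh := ii_ample_pos k hd.le hd hH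
  set g₀ : ℚ := (Curv2.euler k X H : ℚ) - Curv2.euler k X (Coh.structureModule X)
  let P : X.Modules → Prop := fun L => PicF.IsInvertible L ∧ |(chi i L c : ℚ)| ≤ B ∧ |(chi i L (c + 1) : ℚ)| ≤ B
  -- the degree
  let Bl : ℚ := 2 * B + |c * hh| + |g₀|
  have hl : ∀ L, P L → |ii k L H| ≤ Bl := fun L ⟨hL, h0, h1⟩ => by
    have := chi_succ i hd hL c
    have a0 := abs_le.1 h0
    have a1 := abs_le.1 h1
    have a2 := abs_le.1 (le_refl |(c : ℚ) * hh|)
    have a3 := abs_le.1 (le_refl |g₀|)
    rw [abs_le]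
    constructor <;> linarith
  have hf : ∀ j : ℤ, ∃ Bj : ℚ, ∀ L, P L → |(chi i L j : ℚ)| ≤ Bj := by
    intro j
    induction j using Int.inductionOn' (b := c) with
    | zero => exact ⟨B, fun L hL => hL.2.1⟩
    | succ j _ ih =>
      obtain ⟨Bj, hBj⟩ := ih
      refine ⟨Bj + Bl + |j * hh| + |g₀|, fun L hL => ?_⟩
      rw [chi_succ i hd hL.1 j]
      exact (abs_add_le _ _).trans (add_le_add ((abs_add_le _ _).trans (add_le_add ((abs_add_le _ _).trans
        (add_le_add (hBj L hL) (hl L hL))) le_rfl)) le_rfl)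
    | pred j _ ih =>
      obtain ⟨Bj, hBj⟩ := ih
      refine ⟨Bj + Bl + |(j - 1 : ℤ) * hh| + |g₀|, fun L hL => ?_⟩
      have h := chi_succ i hd hL.1 (j - 1)
      rw [show j - 1 + 1 = j by omega] at h
      rw [show ((chi i L (j - 1) : ℤ) : ℚ) = (chi i L j : ℚ) + -ii k L H + -(((j - 1 : ℤ) : ℚ) * hh) + -g₀ by linarith]
      refine (abs_add_le _ _).trans (add_le_add ((abs_add_le _ _).trans (add_le_add ((abs_add_le _ _).trans
        (add_le_add (hBj L hL) ?_)) ?_)) ?_) <;> rw [abs_neg]
      exact hl L hL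
  -- the generic section
  obtain ⟨hXK, hdK, η, f, h, hηd, hS⟩ := exists_section k i hi (d := 1) hd
  haveI := hXK
  let g := proj (X := X) k (J.{u} n)
  let i' := iK k i hi
  haveI := Groth.L21.RR.isNoetherian_of_proper (X := XK k (J.{u} n) X) (K k n)
  let C := (pt η).subscheme
  letI := overPt (k := K k n) η
  haveI : IsIntegral C := isIntegral_pt _
  haveI : IsProper (C ↘ Spec (CommRingCat.of (K k n))) :=
    inferInstanceAs (IsProper ((pt η).subschemeι ≫ (XK k (J.{u} n) X ↘ Spec (CommRingCat.of (K k n)))))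
  haveI := Groth.L21.RR.isNoetherian_of_proper (X := C) (K k n)
  have hC1 : topologicalKrullDim C ≤ ((1 : ℕ) : WithBot ℕ∞) := by
    rw [← dim_closure_image (pt η).subschemeι, genericPoint_pt]; exact hηd.le
  have hiC : iC i' η ≫ CohB1.ProjSpace.toSpec n (K k n) = C ↘ Spec (CommRingCat.of (K k n)) := by
    show ((pt η).subschemeι ≫ i') ≫ _ = _
    rw [Category.assoc, iK_snd k i hi]
    rfl
  let L' : X.Modules → (XK k (J.{u} n) X).Modules := fun L => (Scheme.Modules.pullback g).obj L
  have hL' : ∀ L, P L → PicF.IsInvertible (L' L) := fun L hL => isInvertible_pullback g hL.1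
  have hN : ∀ L, P L → ∀ j, PicF.IsInvertible (Pic13.twistOn (K k n) (iC i' η) (res η (L' L)) j) := fun L hL j =>
    isInvertible_tensor (isInvertible_pullback _ (hL' L hL)) (isInvertible_OX _ j)
  have hχC : ∀ L, P L → ∀ j : ℤ, (chi (iC i' η) (res η (L' L)) j : ℚ) =
      ii k L H + ((j - 1 : ℤ) : ℚ) * hh + g₀ := fun L hL j => by
    rw [chi_restrict i' η hS (hL' L hL), chi_ext i hi (Groth.L18.Ample.isCoh_of_isInvertible hL.1),
      chi_ext i hi (Groth.L18.Ample.isCoh_of_isInvertible hL.1), Int.cast_sub]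
    have h := chi_succ i hd hL.1 (j - 1)
    rw [show j - 1 + 1 = j by omega] at h
    linarith
  -- sections at every twist
  obtain ⟨J0, hJ0⟩ := exists_nat_gt (Bl / hh)
  rw [div_lt_iff₀ hhpos] at hJ0
  have hsec : ∀ j : ℤ, ∃ b : ℤ, ∀ L, P L → (h0 (K k n) (Pic13.twistOn (K k n) i' (L' L) j) : ℤ) ≤ b := by
    have hdown : ∀ L, P L → ∀ j : ℤ, (h0 (K k n) (Pic13.twistOn (K k n) i' (L' L) (j - 1)) : ℤ) ≤
        h0 (K k n) (Pic13.twistOn (K k n) i' (L' L) j) ∧
        (h0 (K k n) (Pic13.twistOn (K k n) i' (L' L) j) : ℤ) ≤ h0 (K k n) (Pic13.twistOn (K k n) i' (L' L) (j - 1)) +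
          h0 (K k n) (Pic13.twistOn (K k n) (iC i' η) (res η (L' L)) j) := fun L hL j => by
      obtain ⟨f', g', h', hS'⟩ := exists_seq i' η hS (hL' L hL)
      obtain ⟨f₂, g₂, h₂, hS₂⟩ := exists_twist_seq i' hS' j
      have hc := Groth.L18.Ample.isCoh_of_isInvertible (hL' L hL)
      have a2 := Groth.L22.Reg.isCoh_twistOn i' hc j
      have h3 : h0 (K k n) (Pic13.twistOn (K k n) i' (CohB1.tensorMod (ClSub.quotMod (pt η)) (L' L)) j) =
          h0 (K k n) (Pic13.twistOn (K k n) (iC i' η) (res η (L' L)) j) := by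
        rw [h0_def, h0_def]; exact finrank_restrict i' η (hL' L hL) j 0
      constructor
      · exact_mod_cast h0_le_of_shortExact (S := ShortComplex.mk f₂ g₂ h₂) (K k n) hS₂ a2
      · rw [← h3]
        exact_mod_cast h0_le_add (S := ShortComplex.mk f₂ g₂ h₂) (K k n) hS₂
          (Groth.L22.Reg.isCoh_twistOn i' hc (j - 1)) a2
          (Groth.L22.Reg.isCoh_twistOn i' (Groth.L03.Euler.isCoh_tensor (hL' L hL) (pt_facts η).1) j)
    intro j
    induction j using Int.inductionOn' (b := -(J0 : ℤ)) with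
    | zero =>
      refine ⟨0, fun L hL => ?_⟩
      obtain ⟨eO⟩ := nonempty_OX_pullback k i hi (-(J0 : ℤ))
      obtain ⟨e⟩ := nonempty_pullback_twist i g i' L eO
      rw [← h0_iso (K k n) e, show h0 (K k n) ((Scheme.Modules.pullback g).obj (Pic13.twistOn k i L (-(J0 : ℤ)))) =
        h0 k (Pic13.twistOn k i L (-(J0 : ℤ))) from by
          rw [h0_def, h0_def]
          exact Groth.L21.RR.h_pullback (k := k) (K := K k n) g
            (IsPullback.of_hasPullback (X ↘ Spec (CommRingCat.of k)) (ext k (J.{u} n)))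
            (Groth.L22.Reg.isCoh_twistOn i (Groth.L18.Ample.isCoh_of_isInvertible hL.1) _) 0]
      refine le_of_not_gt fun hpos => ?_
      have hE : PicF.IsInvertible (Pic13.twistOn k i L (-(J0 : ℤ))) :=
        isInvertible_tensor hL.1 (isInvertible_OX i _)
      obtain ⟨s, hs⟩ := exists_nonzero_of_h0 k (N := Pic13.twistOn k i L (-(J0 : ℤ))) (by exact_mod_cast hpos)
      have hneg : ii k (Pic13.twistOn k i L (-(J0 : ℤ))) H < 0 := by
        show ii k (CohB1.tensorMod L (OX i (-(J0 : ℤ)))) H < 0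
        rw [ii_tensor k hd.le hL.1 (isInvertible_OX i _) (isInvertible_OX i _), ii_OX i hd]
        have := (abs_le.1 (hl L hL)).2
        push_cast
        linarith
      rcases ii_effective k hd.le hE hH s hs with h | h
      · linarith
      · linarith [h _ (isInvertible_OX i 1)]
    | succ j _ ih =>
      obtain ⟨b, hb⟩ := ih
      refine ⟨b + (h0 (K k n) (Coh.structureModule C) +
        (⌈Bl + |(j : ℚ) * hh| + |g₀|⌉ + |Curv2.euler (K k n) C (Coh.structureModule C)|)), fun L hL => ?_⟩
      have h1 := (hdown L hL (j + 1)).2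
      rw [show j + 1 - 1 = j by omega] at h1
      refine h1.trans (add_le_add (hb L hL) ((h0_le_curve (K k n) hC1 (hN L hL (j + 1))).trans (add_le_add le_rfl ?_)))
      refine (abs_sub _ _).trans (add_le_add ?_ le_rfl)
      have hc := hχC L hL (j + 1)
      rw [show j + 1 - 1 = j by omega] at hc
      refine Int.cast_le (R := ℚ) |>.1 (le_trans ?_ (Int.le_ceil _))
      rw [Int.cast_abs]
      show |(chi (iC i' η) (res η (L' L)) (j + 1) : ℚ)| ≤ _
      rw [hc]
      exact (abs_add_le _ _).trans (add_le_add ((abs_add_le _ _).trans (add_le_add (hl L hL) le_rfl)) le_rfl)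
    | pred j _ ih =>
      obtain ⟨b, hb⟩ := ih
      exact ⟨b, fun L hL => (hdown L hL j).1.trans (hb L hL)⟩
  -- uniform regularity of the restrictions
  obtain ⟨b, hb⟩ := Groth.L16.ProjSpace.exists_vanishing n (K k n)
    ((Coh.push (iC i' η)).obj (Coh.structureModule C))
    (Groth.L22.Reg.isCoh_push_closed _ CohClosedPush.isCoh_structure)
  have hB1 : Subsingleton (Coh.HH C (OX (iC i' η) (b : ℤ)) 1) := by
    refine (Groth.L22.Reg.subsingleton_congr_iso (tensorUnitLeft (OX (iC i' η) (b : ℤ))) 1).1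
      ((Groth.L22.Reg.subsingleton_twist_iff (iC i' η) hiC CohClosedPush.isCoh_structure (b : ℤ) 1).2 ?_)
    exact (Groth.L22.Reg.subsingleton_congr_iso (tensorComm _ _) 1).1 (hb b le_rfl 1 one_pos)
  obtain ⟨J1, hJ1⟩ := exists_nat_gt ((Bl + |g₀|) / hh)
  rw [div_lt_iff₀ hhpos] at hJ1
  set m : ℤ := (b : ℤ) + J1 + 2
  have hreg : ∀ L, P L → Pic13.IsMRegular (K k n) i' (CohB1.tensorMod (ClSub.quotMod (pt η)) (L' L)) m := by
    intro L hL q hq
    have hc := Groth.L22.Reg.isCoh_twistOn i' (Groth.L03.Euler.isCoh_tensor (hL' L hL) (pt_facts η).1) (m - q)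
    haveI := ProperFinite.finite_HH (K k n) hc q
    refine (Module.finrank_zero_iff (R := K k n)).1 ?_
    rw [finrank_restrict i' η (hL' L hL) (m - q) q]
    suffices Subsingleton (Coh.HH C (Pic13.twistOn (K k n) (iC i' η) (res η (L' L)) (m - q)) q) from
      Module.finrank_zero_of_subsingleton
    rcases eq_or_lt_of_le hq with rfl | hq2
    · obtain ⟨eA⟩ := nonempty_OX_add (iC i' η) (show -(b : ℤ) + b = 0 by omega)
      obtain ⟨e0⟩ := nonempty_OX_zero (iC i' η)
      refine h1_zero_curve (K k n) hC1 (isInvertible_OX _ (-(b : ℤ))) (isInvertible_OX _ (b : ℤ)) (hN L hL _)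
        (eA ≪≫ e0) hB1 ?_
      obtain ⟨et⟩ := nonempty_twist_twist (iC i' η) (res η (L' L))
        (show m - ((1 : ℕ) : ℤ) + -(b : ℤ) = (J1 : ℤ) + 1 by simp only [m]; push_cast; ring)
      refine Int.cast_pos (R := ℚ) |>.1 (lt_of_lt_of_le ?_ (le_of_eq (congrArg Int.cast (euler_iso et).symm)))
      show (0 : ℚ) < (chi (iC i' η) (res η (L' L)) ((J1 : ℤ) + 1) : ℚ)
      rw [hχC L hL, add_sub_cancel_right, Int.cast_natCast]
      linarith [(abs_le.1 (hl L hL)).1, neg_abs_le g₀]
    · exact subsingleton_HH_of_dim hC1 _ hq2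
  -- uniform regularity on the surface
  obtain ⟨b₀, hb₀⟩ := hsec (m - 1)
  obtain ⟨Bf, hBf⟩ := hf (m - 1)
  let D : ℕ := (b₀ + ⌈Bf⌉).toNat
  have hM : ∀ L, P L → ∃ t : ℕ, t ≤ D ∧ Pic13.IsMRegular (K k n) i' (L' L) (m + t) := fun L hL => by
    obtain ⟨f', g', h', hS'⟩ := exists_seq i' η hS (hL' L hL)
    have hc := Groth.L18.Ample.isCoh_of_isInvertible (hL' L hL)
    obtain ⟨h2, hr⟩ := bounds i' (iK_snd k i hi) (L' L) _ hc (Groth.L03.Euler.isCoh_tensor (hL' L hL) (pt_facts η).1)
      f' g' h' hS' m (hreg L hL)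
    refine ⟨_, ?_, hr⟩
    have he : Curv2.euler (K k n) (XK k (J.{u} n) X) (Pic13.twistOn (K k n) i' (L' L) (m - 1)) =
        (h0 (K k n) (Pic13.twistOn (K k n) i' (L' L) (m - 1)) : ℤ) -
          Module.finrank (K k n) (Coh.HH (XK k (J.{u} n) X) (Pic13.twistOn (K k n) i' (L' L) (m - 1)) 1) := by
      haveI : Subsingleton (Coh.HH (XK k (J.{u} n) X) (Pic13.twistOn (K k n) i' (L' L) (m - 1)) 2) :=
        h2 2 (m - 1) le_rfl (by omega)
      rw [euler_eq_sum (k := K k n) (N := 3) (fun q hq => subsingleton_HH_of_dim hdK.le _ (by omega)), h0_def,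
        Finset.sum_range_succ, Finset.sum_range_succ, Finset.sum_range_one, Module.finrank_zero_of_subsingleton
          (M := Coh.HH (XK k (J.{u} n) X) (Pic13.twistOn (K k n) i' (L' L) (m - 1)) 2)]
      push_cast
      ring
    rw [show Curv2.euler (K k n) (XK k (J.{u} n) X) (Pic13.twistOn (K k n) i' (L' L) (m - 1)) = chi i L (m - 1) from
      chi_ext i hi (Groth.L18.Ample.isCoh_of_isInvertible hL.1) (m - 1)] at he
    have a := hb₀ L hL
    have a' : -⌈Bf⌉ ≤ chi i L (m - 1) := by
      refine Int.cast_le (R := ℚ) |>.1 ?_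
      push_cast
      linarith [(abs_le.1 (hBf L hL)).1, Int.le_ceil Bf]
    simp only [D]
    omega
  -- the self-intersection
  refine ⟨max Bl (2 * (|(m : ℚ)| + D + 1) * Bl + (|(m : ℚ)| + D + 1) ^ 2 * hh), fun L hL h0 h1 => ?_⟩
  have hP : P L := ⟨hL, h0, h1⟩
  refine ⟨(hl L hP).trans (le_max_left _ _), ?_⟩
  obtain ⟨t, ht, hr⟩ := hM L hP
  have hgg := gg_of_regular i' (iK_snd k i hi) (Groth.L18.Ample.isCoh_of_isInvertible (hL' L hP)) hr
  let M : ℤ := m + t + 1
  let E := CohB1.tensorMod L (OX i M)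
  have hEi : PicF.IsInvertible E := isInvertible_tensor hL (isInvertible_OX i M)
  have hE : CohB1.IsAmple ((Scheme.Modules.pullback g).obj E) := by
    obtain ⟨eO⟩ := nonempty_OX_pullback k i hi M
    obtain ⟨e⟩ := nonempty_pullback_twist i g i' L eO
    obtain ⟨e'⟩ := nonempty_twist_twist i' (L' L) (show m + (t : ℤ) + 1 = M from rfl)
    exact Groth.L18.Ample.isAmple_of_iso (tensorComm _ _ ≪≫ e' ≪≫ e.symm)
      (isAmple_gg_tensor (isAmple_OX_one i') (isInvertible_tensor (hL' L hP) (isInvertible_OX i' _)) hgg)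
  have hpos : 0 ≤ ii k E E := by
    have hO := CohClosedPush.isCoh_structure (X := X)
    have hx := altT_XK k (J.{u} n) hd.le hdK.le (r := 2) (M := fun _ => E) (fun _ => hEi) hO
      ((topologicalKrullDim_subspace_le X _).trans hd.le)
    rw [← altT_iso (K k n) _ (Groth.L29.LocFree.pullbackUnitIso g).symm] at hx
    have h2 := altT_ample_pos (K k n) hE hdK
    rw [hx, show (fun _ : Fin 2 => E) = ![E, E] from funext fun i => by fin_cases i <;> rfl, ii_vec] at h2
    exact h2.le
  have hEH : ii k E E = ii k L L + 2 * (M : ℚ) * ii k L H + (M : ℚ) ^ 2 * hh := by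
    have hM1 := isInvertible_OX i M
    have e1 : ∀ A, PicF.IsInvertible A → ii k E A = ii k L A + ii k (OX i M) A := fun A hA =>
      ii_tensor k hd.le hL hM1 hA
    have e2 : ii k (OX i M) L = (M : ℚ) * ii k L H := by
      have : ∀ j : ℤ, ii k (OX i j) L = (j : ℚ) * ii k L H := by
        have hnat : ∀ t : ℕ, ii k (OX i (t : ℤ)) L = (t : ℚ) * ii k L H := fun t => by
          obtain ⟨e⟩ := nonempty_pow_OX i t
          rw [← ii_congr k e, ii_pow k hd.le (isInvertible_OX i 1) hL, ii_comm k H L]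
        intro j
        rcases j.eq_nat_or_neg with ⟨t, rfl | rfl⟩
        · rw [hnat]; push_cast; rfl
        · obtain ⟨ea⟩ := nonempty_OX_add i (show -(t : ℤ) + t = 0 by omega)
          obtain ⟨e0⟩ := nonempty_OX_zero i
          have h : ii k (CohB1.tensorMod (OX i (-(t : ℤ))) (OX i (t : ℤ))) L = 0 :=
            (ii_congr k (ea ≪≫ e0) _).trans (altT_unit k _)
          rw [ii_tensor k hd.le (isInvertible_OX i _) (isInvertible_OX i _) hL, hnat] at h
          push_cast
          linarith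
      exact this M
    have e3 : ii k (OX i M) H = (M : ℚ) * hh := ii_OX i hd M
    rw [e1 E hEi, ii_comm k L E, e1 L hL, ii_comm k (OX i M) E, e1 (OX i M) hM1, ii_comm k L (OX i M), e2]
    have e4 : ii k (OX i M) (OX i M) = (M : ℚ) ^ 2 * hh := by
      have : ∀ t : ℕ, ii k (OX i M) (OX i (t : ℤ)) = (t : ℚ) * ((M : ℚ) * hh) := fun t => by
        obtain ⟨e⟩ := nonempty_pow_OX i t
        rw [ii_comm, ← ii_congr k e, ii_pow k hd.le (isInvertible_OX i 1) hM1, ii_comm k H, e3]
      rcases M.eq_nat_or_neg with ⟨t, hT | hT⟩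
      · conv_lhs => arg 3; rw [hT]
        rw [this, hT]; push_cast; ring
      · obtain ⟨ea⟩ := nonempty_OX_add i (show M + (t : ℤ) = 0 by omega)
        obtain ⟨e0⟩ := nonempty_OX_zero i
        have h : ii k (CohB1.tensorMod (OX i M) (OX i (t : ℤ))) (OX i M) = 0 :=
          (ii_congr k (ea ≪≫ e0) _).trans (altT_unit k _)
        rw [ii_tensor k hd.le hM1 (isInvertible_OX i _) hM1, ii_comm k (OX i (t : ℤ)), this] at h
        have hT' : (M : ℚ) = -(t : ℚ) := by rw [hT]; push_cast; rfl
        rw [hT'] at h ⊢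
        linarith
    rw [e4]
    ring
  have hMb : |(M : ℚ)| ≤ |(m : ℚ)| + D + 1 := by
    simp only [M]
    push_cast
    have : (t : ℚ) ≤ D := by exact_mod_cast ht
    refine (abs_add_le _ _).trans ?_
    rw [abs_one]
    refine add_le_add ((abs_add_le _ _).trans ?_) le_rfl
    rw [Nat.abs_cast]
    linarith
  have hBl : 0 ≤ Bl := (abs_nonneg _).trans (hl L hP)
  have hA : 2 * (M : ℚ) * ii k L H ≤ 2 * (|(m : ℚ)| + D + 1) * Bl := by
    refine le_trans (le_abs_self _) ?_
    rw [abs_mul, abs_mul, abs_two]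
    exact mul_le_mul (mul_le_mul_of_nonneg_left hMb two_pos.le) (hl L hP) (abs_nonneg _) (by positivity)
  have hB' : (M : ℚ) ^ 2 * hh ≤ (|(m : ℚ)| + D + 1) ^ 2 * hh := by
    refine mul_le_mul_of_nonneg_right ?_ hhpos.le
    rw [← sq_abs]
    exact pow_le_pow_left₀ (abs_nonneg _) hMb 2
  linarith [le_max_right Bl (2 * (|(m : ℚ)| + D + 1) * Bl + (|(m : ℚ)| + D + 1) ^ 2 * hh)]

end Surface

/-- The top differences of the Euler characteristic bound degree and self-intersection. -/
theorem topThree : ∀ (s : ℕ) (k : Type u) [Field k] (X : Scheme.{u}) [X.Over (Spec (CommRingCat.of k))]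
    [IsProper (X ↘ Spec (CommRingCat.of k))] [IsIntegral X] {n : ℕ} (i : X ⟶ CohB1.ProjSpace n k) [IsClosedImmersion i],
    i ≫ CohB1.ProjSpace.toSpec n k = X ↘ Spec (CommRingCat.of k) →
    topologicalKrullDim X = ((s + 2 : ℕ) : WithBot ℕ∞) → ∀ (c : ℤ) (B : ℚ), ∃ B' : ℚ, ∀ L : X.Modules, PicF.IsInvertible L →
      |((D1^[s] (chi i L)) c : ℚ)| ≤ B → |((D1^[s] (chi i L)) (c + 1) : ℚ)| ≤ B →
      |dg k s (OX i 1) L| ≤ B' ∧ -B' ≤ pr k s (OX i 1) L L := by
  intro s
  induction s with
  | zero =>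
    intro k _ X _ _ _ n i _ hi hd c B
    obtain ⟨B', hB'⟩ := topThree_zero i hi hd c B
    refine ⟨B', fun L hL h0 h1 => ?_⟩
    rw [show pr k 0 (OX i 1) L L = ii k L L from congrArg (fun R : Fin 1 → X.Modules => altT k (Fin.cons L R)
      (Coh.structureModule X)) (funext fun l => Fin.cases rfl (fun j => j.elim0) l)]
    exact hB' L hL h0 h1
  | succ s ih =>
    intro k _ X _ _ _ n i _ hi hd c B
    haveI := Groth.L21.RR.isNoetherian_of_proper (X := X) k
    obtain ⟨hXK, hdK, η, f, h, hηd, hS⟩ := exists_section k i hi (d := s + 2) hd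
    haveI := hXK
    let g := proj (X := X) k (J.{u} n)
    let i' := iK k i hi
    haveI := Groth.L21.RR.isNoetherian_of_proper (X := XK k (J.{u} n) X) (K k n)
    letI := overPt (k := K k n) η
    haveI : IsIntegral (pt η).subscheme := isIntegral_pt _
    haveI : IsProper ((pt η).subscheme ↘ Spec (CommRingCat.of (K k n))) :=
      inferInstanceAs (IsProper ((pt η).subschemeι ≫ (XK k (J.{u} n) X ↘ Spec (CommRingCat.of (K k n)))))
    have hiC : iC i' η ≫ CohB1.ProjSpace.toSpec n (K k n) =
        (pt η).subscheme ↘ Spec (CommRingCat.of (K k n)) := by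
      show ((pt η).subschemeι ≫ i') ≫ _ = _
      rw [Category.assoc, iK_snd k i hi]
      rfl
    have hdC : topologicalKrullDim (pt η).subscheme = ((s + 2 : ℕ) : WithBot ℕ∞) := by
      rw [← dim_closure_image (pt η).subschemeι, genericPoint_pt]; exact hηd
    obtain ⟨B', hB'⟩ := ih (K k n) (pt η).subscheme (iC i' η) hiC hdC c B
    refine ⟨B', fun L hL h0 h1 => ?_⟩
    let L' := (Scheme.Modules.pullback g).obj L
    have hL' : PicF.IsInvertible L' := isInvertible_pullback g hL
    have hχ : chi (iC i' η) (res η L') = D1 (chi i L) := funext fun j => by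
      rw [chi_restrict i' η hS hL', chi_ext i hi (Groth.L18.Ample.isCoh_of_isInvertible hL),
        chi_ext i hi (Groth.L18.Ample.isCoh_of_isInvertible hL)]
      rfl
    rw [Function.iterate_succ_apply, ← hχ] at h0 h1
    obtain ⟨hdg, hpr⟩ := hB' (res η L') (isInvertible_pullback _ hL') h0 h1
    -- intersection numbers upstairs
    have key : ∀ R : Fin (s + 2) → X.Modules, (∀ l, PicF.IsInvertible (R l)) →
        altT (K k n) (fun l => res η ((Scheme.Modules.pullback g).obj (R l))) (Coh.structureModule (pt η).subscheme) =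
          altT k (Fin.cons (OX i 1) R) (Coh.structureModule X) := by
      intro R hR
      have hR' : ∀ l, PicF.IsInvertible ((Scheme.Modules.pullback g).obj (R l)) := fun l => isInvertible_pullback g (hR l)
      rw [altT_push_eq (K k n) (pt η).subschemeι rfl hdC hR', genericPoint_pt, ← altT_section i' η hS hR' hdK.le]
      have hx := altT_XK k (J.{u} n) hd.le hdK.le (M := Fin.cons (OX i 1) R)
        (Fin.cases (by simpa using isInvertible_OX i 1) fun l => by simpa using hR l)
        (CohClosedPush.isCoh_structure (X := X)) ((topologicalKrullDim_subspace_le X _).trans hd.le)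
      rw [← altT_iso (K k n) _ (Groth.L29.LocFree.pullbackUnitIso g).symm] at hx
      rw [← hx]
      obtain ⟨eH⟩ := nonempty_OX_pullback k i hi 1
      exact Groth.L22.Nef.altT_congr (K k n) (Fin.cases ⟨eH.symm⟩ fun l => ⟨Iso.refl _⟩) _
    obtain ⟨eH⟩ := nonempty_OX_pullback k i hi 1
    let eC : res η ((Scheme.Modules.pullback g).obj (OX i 1)) ≅ OX (iC i' η) 1 :=
      (Scheme.Modules.pullback (pt η).subschemeι).mapIso eH ≪≫ (Scheme.Modules.pullbackComp (pt η).subschemeι i').app _
    constructor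
    · refine le_trans (le_of_eq (congrArg abs ?_)) hdg
      have h2 := key (Fin.cons L fun _ => OX i 1) (Fin.cases (by simpa using hL) fun _ => by simpa using isInvertible_OX i 1)
      rw [altT_swap k (OX i 1) L, show (Fin.cons (OX i 1) fun _ : Fin (s + 1) => OX i 1 : Fin (s + 2) → X.Modules) =
        fun _ => OX i 1 from funext fun l => Fin.cases rfl (fun _ => rfl) l] at h2
      exact h2.symm.trans (Groth.L22.Nef.altT_congr (K k n) (Fin.cases ⟨Iso.refl _⟩ fun _ => ⟨eC⟩) _)
    · refine hpr.trans (le_of_eq ?_)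
      have h2 := key (Fin.cons L (Fin.cons L fun _ => OX i 1))
        (Fin.cases (by simpa using hL) (Fin.cases (by simpa using hL) fun _ => by simpa using isInvertible_OX i 1))
      rw [pr_succ k s (OX i 1) L] at h2
      rw [← h2]
      exact Groth.L22.Nef.altT_congr (K k n) (Fin.cases ⟨Iso.refl _⟩ (Fin.cases ⟨Iso.refl _⟩ fun _ => ⟨eC.symm⟩)) _

end Groth.L11.Bdd.Gen
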