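import Groth.Agent.L11.Bdd.Regular
import Groth.Agent.L11.NumOrth.Chi
import Groth.Agent.L22.Nef.Slot

/-!
# Invertible modules whose twists are ample: uniform regularity in dimension at most two
-/

set_option autoImplicit false
set_option backward.isDefEq.respectTransparency false
set_option linter.style.haveILetI false
set_option linter.unusedSectionVars false

universe u

open CategoryTheory CategoryTheory.Limits AlgebraicGeometry TopologicalSpace

noncomputable section

namespace Groth.L11.Bdd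

open Groth.L16 Groth.L22.Nef Groth.L22.Inter Groth.L03.Euler Groth.L22.Big Groth.L11.NumOrth
open Groth.L00.Tensor (tensorMap tensorIso tensorAssoc tensorComm tensorUnitRight tensorUnitLeft)

variable (k : Type u) [Field k] [IsAlgClosed k] {n : ℕ} {X : Scheme.{u}} [X.Over (Spec (CommRingCat.of k))]
  [IsProper (X ↘ Spec (CommRingCat.of k))] (i : X ⟶ CohB1.ProjSpace n k) [IsClosedImmersion i]
  (P : X.Modules → Prop)

/-- Bounded sections below a dimension. -/
def BddP (d : ℕ) : Prop :=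
  ∀ F : X.Modules, Coh.IsCoh F → topologicalKrullDim (CohB1.support F) + 1 ≤ (d : WithBot ℕ∞) →
    ∀ j : ℤ, ∃ B : ℕ, ∀ L, P L → h0 k (Pic13.twistOn k i (CohB1.tensorMod F L) j) ≤ B

/-- A twist of all members has nonpositive degree on every curve. -/
def DegLE (j₀ : ℤ) : Prop :=
  ∀ L, P L → ∀ y : X, topologicalKrullDim (closure ({y} : Set X)) = (1 : ℕ) →
    altT k (fun _ : Fin 1 => CohB1.tensorMod L (OX i j₀)) (ClSub.quotMod (pt y)) ≤ 0

/-- Some twist of the members has bounded sections on every integral closed subscheme. -/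
def SecLE : Prop :=
  ∀ (Z : Scheme.{u}) (z : Z ⟶ X) [IsClosedImmersion z] [IsIntegral Z],
    ∃ (j₀ : ℤ) (B : ℕ), ∀ L, P L →
      h0 k (Pic13.twistOn k i (CohB1.tensorMod ((Coh.push z).obj (Coh.structureModule Z)) L) j₀) ≤ B

/-- Nonpositive degrees on the curves of a closed integral subscheme bound the sections on it. -/
theorem h0_push_le {Z : Scheme.{u}} (z : Z ⟶ X) [IsClosedImmersion z] [IsIntegral Z] {L : X.Modules}
    (hL : PicF.IsInvertible L) (j₀ : ℤ)
    (hdeg : ∀ y : Z, topologicalKrullDim (closure ({y} : Set Z)) = (1 : ℕ) →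
      altT k (fun _ : Fin 1 => CohB1.tensorMod L (OX i j₀)) (ClSub.quotMod (pt (z y))) ≤ 0) :
    h0 k (Pic13.twistOn k i (CohB1.tensorMod ((Coh.push z).obj (Coh.structureModule Z)) L) j₀) ≤
      @h0 k _ Z ⟨z ≫ (X ↘ Spec (CommRingCat.of k))⟩ (Coh.structureModule Z) := by
    haveI : IsLocallyNoetherian X := LocallyOfFiniteType.isLocallyNoetherian (X ↘ Spec (CommRingCat.of k))
    haveI : IsLocallyNoetherian Z := LocallyOfFiniteType.isLocallyNoetherian z
    letI : Z.Over (Spec (CommRingCat.of k)) := ⟨z ≫ (X ↘ Spec (CommRingCat.of k))⟩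
    haveI : IsProper (Z ↘ Spec (CommRingCat.of k)) :=
      inferInstanceAs (IsProper (z ≫ (X ↘ Spec (CommRingCat.of k))))
    let O := (Coh.push z).obj (Coh.structureModule Z)
    let E := CohB1.tensorMod L (OX i j₀)
    have hE : PicF.IsInvertible E := Groth.L18.GenLoc.isInvertible_tensor hL (isInvertible_OX i _)
    haveI : X.IsSeparated := ⟨by rw [← terminal.comp_from (X ↘ Spec (CommRingCat.of k))]; infer_instance⟩
    have e1 : h0 k (Pic13.twistOn k i (CohB1.tensorMod O L) j₀) =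
        h0 k ((Scheme.Modules.pullback z).obj E) := by
      rw [h0_iso k (show Pic13.twistOn k i (CohB1.tensorMod O L) j₀ ≅ CohB1.tensorMod O E from
        tensorAssoc O L _), h0_def, h0_def, finrank_push k z rfl hE (Coh.structureModule Z)
        CohClosedPush.isCoh_structure.1 0]
      exact finrank_HH_of_iso (tensorUnitLeft _) 0
    rw [e1]
    refine h0_le_of_deg_nonpos (Groth.L18.Ample.isInvertible_pullback z hE) fun y hy => ?_
    rw [deg_pullback_closed k z rfl hE y hy]
    exact hdeg y hy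

theorem secLE_of_degLE {j₀ : ℤ} (hj₀ : DegLE k i P j₀) (hP : ∀ L, P L → PicF.IsInvertible L) : SecLE k i P :=
  fun Z z _ _ => ⟨j₀, _, fun L hL => h0_push_le k i z (hP L hL) j₀ fun y hy =>
    hj₀ L hL (z y) (by rw [dim_closure_map z.isClosedEmbedding, hy])⟩

variable (hP : ∀ L, P L → PicF.IsInvertible L) {F G : X.Modules} {f : Pic13.twistOn k i F (-1) ⟶ F} {g : F ⟶ G}
  {h : f ≫ g = 0}

include hP

/-- Bounded sections at one twist propagate to every twist. -/
theorem bdd_of_one (hF : Coh.IsCoh F) (hG : Coh.IsCoh G) (hS : (ShortComplex.mk f g h).ShortExact)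
    (hGB : ∀ j : ℤ, ∃ B : ℕ, ∀ L, P L → h0 k (Pic13.twistOn k i (CohB1.tensorMod G L) j) ≤ B)
    {j₀ : ℤ} (h₀ : ∃ B : ℕ, ∀ L, P L → h0 k (Pic13.twistOn k i (CohB1.tensorMod F L) j₀) ≤ B) (j : ℤ) :
    ∃ B : ℕ, ∀ L, P L → h0 k (Pic13.twistOn k i (CohB1.tensorMod F L) j) ≤ B := by
  have up : ∀ t : ℕ, ∃ B : ℕ, ∀ L, P L → h0 k (Pic13.twistOn k i (CohB1.tensorMod F L) (j₀ + t)) ≤ B := by
    intro t
    induction t with
    | zero => simpa using h₀
    | succ t ih =>
      obtain ⟨B, hB⟩ := ih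
      obtain ⟨C, hC⟩ := hGB (j₀ + ((t + 1 : ℕ) : ℤ))
      refine ⟨B + C, fun L hL => ?_⟩
      have h1 := (h0_step k i hF hG hS (hP L hL) (j₀ + ((t + 1 : ℕ) : ℤ))).2.1
      rw [show j₀ + ((t + 1 : ℕ) : ℤ) - 1 = j₀ + t by push_cast; ring] at h1
      exact h1.trans (Nat.add_le_add (hB L hL) (hC L hL))
  rcases le_total j₀ j with hj | hj
  · obtain ⟨t, rfl⟩ : ∃ t : ℕ, j = j₀ + t := ⟨(j - j₀).toNat, by omega⟩
    exact up t
  · obtain ⟨B, hB⟩ := h₀
    refine ⟨B, fun L hL => le_trans ?_ (hB L hL)⟩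
    have := h0_mono_twist k i hF hG hS (hP L hL) j₀ (j₀ - j).toNat
    rwa [show j₀ - ((j₀ - j).toNat : ℤ) = j by omega] at this


/-- Bounded sections one dimension up. -/
theorem bddP_succ (hsec : SecLE k i P) {d : ℕ} (ih : BddP k i P d) : BddP k i P (d + 1) := by
  haveI := Groth.L21.RR.isNoetherian_of_proper (X := X) k
  intro M hM hd
  refine Devissage.devissage_ideals
    (fun M : X.Modules => topologicalKrullDim (CohB1.support M) + 1 ≤ ((d + 1 : ℕ) : WithBot ℕ∞) →
      ∀ j : ℤ, ∃ B : ℕ, ∀ L, P L → h0 k (Pic13.twistOn k i (CohB1.tensorMod M L) j) ≤ B)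
    ?_ ?_ ?_ ?_ hM hd
  · rintro A B ⟨e⟩ hA hB j
    have hsub : CohB1.support A ⊆ CohB1.support B := Groth.L21.Mod.support_mono e.hom
    obtain ⟨C, hC⟩ := hA ((add_le_add_left (topologicalKrullDim_set_mono hsub) 1).trans hB) j
    exact ⟨C, fun L hL => (h0_iso k (tensorIso (tensorIso e (Iso.refl L)) (Iso.refl _))).symm.trans_le (hC L hL)⟩
  · intro A hA _ j
    refine ⟨0, fun L hL => ?_⟩
    have hz : IsZero (Pic13.twistOn k i (CohB1.tensorMod A L) j) :=
      (Groth.L00.Tensor.tensorRightF (OX i j)).map_isZero ((Groth.L00.Tensor.tensorRightF L).map_isZero hA)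
    haveI := subsingleton_HH_of_isZero hz 0
    rw [h0_def, Module.finrank_zero_of_subsingleton]
  · intro S hS c₁ c₂ c₃ h₁ h₃ h₂ j
    obtain ⟨s1, s3⟩ := Devissage.support_union hS
    obtain ⟨B₁, hB₁⟩ := h₁ ((add_le_add_left (topologicalKrullDim_set_mono s1) 1).trans h₂) j
    obtain ⟨B₃, hB₃⟩ := h₃ ((add_le_add_left (topologicalKrullDim_set_mono s3) 1).trans h₂) j
    refine ⟨B₁ + B₃, fun L hL => le_trans ?_ (Nat.add_le_add (hB₁ L hL) (hB₃ L hL))⟩
    exact h0_le_add k (shortExact_tensor (isInvertible_OX i j) (shortExact_tensor (hP L hL) hS))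
      (Groth.L22.Reg.isCoh_twistOn i (Groth.L03.Euler.isCoh_tensor (hP L hL) c₁) j)
      (Groth.L22.Reg.isCoh_twistOn i (Groth.L03.Euler.isCoh_tensor (hP L hL) c₂) j)
      (Groth.L22.Reg.isCoh_twistOn i (Groth.L03.Euler.isCoh_tensor (hP L hL) c₃) j)
  · intro Z z hz hZ I ι hι hI hId j
    haveI := hz; haveI := hZ; haveI := hι
    haveI : IsLocallyNoetherian Z := LocallyOfFiniteType.isLocallyNoetherian z
    letI : Z.Over (Spec (CommRingCat.of k)) := ⟨z ≫ (X ↘ Spec (CommRingCat.of k))⟩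
    haveI : IsProper (Z ↘ Spec (CommRingCat.of k)) :=
      inferInstanceAs (IsProper (z ≫ (X ↘ Spec (CommRingCat.of k))))
    haveI := Groth.L21.RR.isNoetherian_of_proper (X := Z) k
    haveI : (Coh.push z).IsRightAdjoint := (Scheme.Modules.pullbackPushforwardAdjunction z).isRightAdjoint
    let O := (Coh.push z).obj (Coh.structureModule Z)
    have hO : Coh.IsCoh O := CohClosedPush.isCoh_push z CohClosedPush.isCoh_structure
    let a : (Coh.push z).obj I ⟶ O := (Coh.push z).map ι
    haveI : Mono a := inferInstance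
    by_cases hη : z (genericPoint Z) ∈ CohB1.support ((Coh.push z).obj I)
    swap
    · have h0' := isZero_of_mono_push z a hη
      refine ⟨0, fun L hL => ?_⟩
      have hzz : IsZero (Pic13.twistOn k i (CohB1.tensorMod ((Coh.push z).obj I) L) j) :=
        (Groth.L00.Tensor.tensorRightF (OX i j)).map_isZero ((Groth.L00.Tensor.tensorRightF L).map_isZero h0')
      haveI := subsingleton_HH_of_isZero hzz 0
      rw [h0_def, Module.finrank_zero_of_subsingleton]
    have hsO : topologicalKrullDim (CohB1.support O) ≤ (d : WithBot ℕ∞) := by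
      refine (topologicalKrullDim_set_mono ((CohClosedPush.support_push_subset z _).trans
        ((range_eq_closure z).le.trans ?_))).trans (dim_succ_iff.1 hId)
      have hcl : IsClosed (CohB1.support ((Coh.push z).obj I)) := by
        have hIc : Coh.IsCoh ((Coh.push z).obj I) := by
          haveI : Coh.IsQCoh ((Coh.push z).obj I) := Groth.L16.QcqsPush.isQCoh_push I z
          exact Groth.L16.Rees.RelVanish.isCoh_of_mono a hO
        exact CohSupport.isClosed_support _ hIc.2
      exact closure_minimal (Set.singleton_subset_iff.2 hη) hcl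
    obtain ⟨G, f, g, hfg, hS, hG, hGd⟩ := exists_hyperplane i hO hsO
    obtain ⟨j₀, B₀, hB₀⟩ := hsec Z z
    obtain ⟨B, hB⟩ := bdd_of_one k i P hP hO hG hS (ih G hG hGd) (j₀ := j₀) ⟨B₀, hB₀⟩ j
    refine ⟨B, fun L hL => le_trans ?_ (hB L hL)⟩
    have hd' : Coh.IsCoh (Pic13.twistOn k i (CohB1.tensorMod O L) j) :=
      Groth.L22.Reg.isCoh_twistOn i (Groth.L03.Euler.isCoh_tensor (hP L hL) hO) j
    let b := (Groth.L00.Tensor.tensorRightF (OX i j)).map ((Groth.L00.Tensor.tensorRightF L).map a)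
    have hS' := shortExact_tensor (isInvertible_OX i j) (shortExact_tensor (hP L hL)
      (show (ShortComplex.mk a (cokernel.π a) (cokernel.condition a)).ShortExact from
        { exact := ShortComplex.exact_cokernel a }))
    exact h0_le_of_shortExact k hS' hd'

/-- Sections of all twists are bounded. -/
theorem bddP_all (hsec : SecLE k i P) : ∀ d : ℕ, BddP k i P d
  | 0 => fun F _ hd j => ⟨0, fun L _ => by
    haveI := subsingleton_HH_of_isZero (X := X) (M := Pic13.twistOn k i (CohB1.tensorMod F L) j)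
      ((Groth.L00.Tensor.tensorRightF (OX i j)).map_isZero
        ((Groth.L00.Tensor.tensorRightF L).map_isZero (isZero_of_dim hd))) 0
    rw [h0_def, Module.finrank_zero_of_subsingleton]⟩
  | d + 1 => bddP_succ k i P hP hsec (bddP_all hsec d)

omit hP

/-- The mixed number of two invertible modules. -/
def q2 (A B F : X.Modules) : ℚ := altT k (Fin.cons A (Fin.cons B (fun e : Fin 0 => e.elim0))) F

theorem q2_eq (A B F : X.Modules) : q2 k A B F =
    (Curv2.euler k X (CohB1.tensorMod (CohB1.tensorMod F A) B) : ℚ) - Curv2.euler k X (CohB1.tensorMod F A) -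
      Curv2.euler k X (CohB1.tensorMod F B) + Curv2.euler k X F := by
  rw [q2, altT_cons, altT_cons, altT_cons, altT_zero_eq, altT_zero_eq, altT_zero_eq, altT_zero_eq]
  ring

theorem q2_comm (A B F : X.Modules) : q2 k A B F = q2 k B A F := by
  rw [q2_eq, q2_eq, euler_iso (k := k) (tensorAssoc F A B ≪≫ tensorIso (Iso.refl F) (tensorComm A B) ≪≫
    (tensorAssoc F B A).symm)]
  ring

theorem q2_iso {A A' : X.Modules} (e : A ≅ A') (B F : X.Modules) : q2 k A B F = q2 k A' B F :=
  altT_slot_congr k e _ F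

theorem q2_unit (B F : X.Modules) : q2 k (Coh.structureModule X) B F = 0 := altT_unit k F

variable {F : X.Modules} (hF : Coh.IsCoh F) (hd : topologicalKrullDim (CohB1.support F) ≤ ((2 : ℕ) : WithBot ℕ∞))

include hF hd

theorem q2_add {A A' B : X.Modules} (hA : PicF.IsInvertible A) (hA' : PicF.IsInvertible A') (hB : PicF.IsInvertible B) :
    q2 k (CohB1.tensorMod A A') B F = q2 k A B F + q2 k A' B F :=
  altT_add k (Fin.cases hB fun e => e.elim0) hA hA' hF hd

theorem q2_add_pow {A C B : X.Modules} (hA : PicF.IsInvertible A) (hC : PicF.IsInvertible C) (hB : PicF.IsInvertible B)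
    (N : ℕ) : q2 k (CohB1.tensorMod A (CohB1.tensorPow C N)) B F = q2 k A B F + N * q2 k C B F := by
  rw [q2_add k hF hd hA (Groth.L18.Ample.isInvertible_tensorPow hC N) hB,
    show q2 k (CohB1.tensorPow C N) B F = N * q2 k C B F from
      altT_pow k (Fin.cases hB fun e => e.elim0) hC hF hd N]

theorem q2_nonneg {A B : X.Modules} (hA : CohB1.IsAmple A) (hB : CohB1.IsAmple B) : 0 ≤ q2 k A B F := by
  obtain ⟨A', -, eA⟩ := Groth.L08.Cube.exists_inverse hA.1
  obtain ⟨B', -, eB⟩ := Groth.L08.Cube.exists_inverse hB.1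
  exact (mixed k (Fin.cons A (Fin.cons B (fun e : Fin 0 => e.elim0)))
    (Fin.cons A' (Fin.cons B' (fun e : Fin 0 => e.elim0)))
    (Fin.cases hA (Fin.cases hB fun e => e.elim0)) (Fin.cases eA (Fin.cases eB fun e => e.elim0)) hF hd).2.1

/-- Mixed numbers of a module with its inverse are bounded when the twists of both are ample. -/
theorem abs_q2_le {L L' H : X.Modules} (hL : PicF.IsInvertible L) (hL' : PicF.IsInvertible L') (hH : CohB1.IsAmple H)
    (e : CohB1.tensorMod L L' ≅ Coh.structureModule X) {N : ℕ}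
    (hA : CohB1.IsAmple (CohB1.tensorMod L (CohB1.tensorPow H N)))
    (hA' : CohB1.IsAmple (CohB1.tensorMod L' (CohB1.tensorPow H N))) :
    |q2 k L L' F| ≤ 3 * (N : ℚ) ^ 2 * q2 k H H F := by
  set A := CohB1.tensorMod L (CohB1.tensorPow H N) with hAdef
  set A' := CohB1.tensorMod L' (CohB1.tensorPow H N) with hA'def
  have z1 : q2 k L H F + q2 k L' H F = 0 := by
    rw [← q2_add k hF hd hL hL' hH.1, q2_iso k e, q2_unit]
  have z2 : q2 k L L F + q2 k L' L F = 0 := by
    rw [← q2_add k hF hd hL hL' hL, q2_iso k e, q2_unit]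
  have s1 : ∀ B, PicF.IsInvertible B → q2 k A B F = q2 k L B F + N * q2 k H B F := fun B hB =>
    q2_add_pow k hF hd hL hH.1 hB N
  have s2 : ∀ B, PicF.IsInvertible B → q2 k A' B F = q2 k L' B F + N * q2 k H B F := fun B hB =>
    q2_add_pow k hF hd hL' hH.1 hB N
  have p1 : 0 ≤ q2 k A A' F := q2_nonneg k hF hd hA hA'
  have p2 : 0 ≤ q2 k A A F := q2_nonneg k hF hd hA hA
  have p3 : 0 ≤ q2 k A' H F := q2_nonneg k hF hd hA' hH
  have p5 : 0 ≤ q2 k A H F := q2_nonneg k hF hd hA hH
  have p4 : 0 ≤ q2 k H H F := q2_nonneg k hF hd hH hH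
  rw [s1 _ hA'.1, q2_comm k L, q2_comm k H, s2 _ hL, s2 _ hH.1] at p1
  rw [s1 _ hA.1, q2_comm k L, q2_comm k H, s1 _ hL, s1 _ hH.1] at p2
  rw [s2 _ hH.1] at p3
  rw [s1 _ hH.1] at p5
  have hN : (0 : ℚ) ≤ N := by positivity
  rw [q2_comm k H L] at p1 p2
  rw [q2_comm k L' L] at p1 z2
  rw [abs_le]
  refine ⟨?_, ?_⟩
  · nlinarith
  · nlinarith

omit hF hd
include hP
variable (hneg : SecLE k i P)
  (hsym : ∀ L, P L → ∃ L', P L' ∧ Nonempty (CohB1.tensorMod L L' ≅ Coh.structureModule X))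
  (hq : ∀ F : X.Modules, Coh.IsCoh F → topologicalKrullDim (CohB1.support F) ≤ ((2 : ℕ) : WithBot ℕ∞) →
    ∃ c : ℚ, ∀ L L', P L → P L' → Nonempty (CohB1.tensorMod L L' ≅ Coh.structureModule X) → |q2 k L L' F| ≤ c)
  (hi : i ≫ CohB1.ProjSpace.toSpec n k = X ↘ Spec (CommRingCat.of k))

include hneg hsym hq hi

/-- Euler characteristics and regularity are uniform below dimension three. -/
theorem chi_regP : ∀ d : ℕ, d ≤ 3 → ∀ F : X.Modules, Coh.IsCoh F →
    topologicalKrullDim (CohB1.support F) + 1 ≤ (d : WithBot ℕ∞) →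
    (∃ C : ℤ, ∀ L, P L → |Curv2.euler k X (CohB1.tensorMod F L)| ≤ C) ∧
      ∃ m : ℤ, ∀ L, P L → Pic13.IsMRegular k i (CohB1.tensorMod F L) m
  | 0, _, F, _, hd => ⟨⟨0, fun L _ => by
      rw [euler_of_isZero k (isZero_tensor (isZero_of_dim hd) L), abs_zero]⟩,
      0, fun L _ q _ => subsingleton_HH_of_isZero ((Groth.L00.Tensor.tensorRightF (OX i _)).map_isZero
        ((Groth.L00.Tensor.tensorRightF L).map_isZero (isZero_of_dim hd))) q⟩
  | d + 1, hd3, F, hF, hd => by
    classical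
    haveI := Groth.L21.RR.isNoetherian_of_proper (X := X) k
    have ih := chi_regP d (by omega)
    -- upper bounds
    have upper : ∀ F : X.Modules, Coh.IsCoh F →
        topologicalKrullDim (CohB1.support F) + 1 ≤ ((d + 1 : ℕ) : WithBot ℕ∞) → ∀ j : ℤ,
        ∃ U : ℤ, ∀ L, P L → Curv2.euler k X (Pic13.twistOn k i (CohB1.tensorMod F L) j) ≤ U := by
      intro F hF hd j
      obtain ⟨G, f, g, hfg, hS, hG, hGd⟩ := exists_hyperplane i hF (dim_succ_iff.1 hd)
      obtain ⟨m, hm⟩ := (ih G hG hGd).2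
      obtain ⟨B, hB⟩ := bddP_all k i P hP hneg (d + 1) F hF hd (m - 1)
      have hGC : ∀ t : ℤ, ∃ C : ℤ, ∀ L, P L →
          |Curv2.euler k X (Pic13.twistOn k i (CohB1.tensorMod G L) t)| ≤ C := fun t => by
        obtain ⟨C, hC⟩ := (ih (Pic13.twistOn k i G t) (Groth.L22.Reg.isCoh_twistOn i hG t) (by
          rw [show CohB1.support (Pic13.twistOn k i G t) = CohB1.support G from
            support_tensor (isInvertible_OX i t) G]
          exact hGd)).1
        exact ⟨C, fun L hL => by rw [euler_iso (twistTensor i G L t)]; exact hC L hL⟩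
      induction j using Int.inductionOn' (b := m - 1) with
      | zero =>
        refine ⟨B, fun L hL => ?_⟩
        obtain ⟨f', g', h', hS'⟩ := exists_seq_tensor k i hS (hP L hL)
        rw [euler_eq_h0_sub k i hi (isCoh_tensor (hP L hL) hF) (isCoh_tensor (hP L hL) hG) hS' (hm L hL)]
        have : (h0 k (Pic13.twistOn k i (CohB1.tensorMod F L) (m - 1)) : ℤ) ≤ B := by exact_mod_cast hB L hL
        omega
      | succ a _ ha =>
        obtain ⟨U, hU⟩ := ha
        obtain ⟨C, hC⟩ := hGC (a + 1)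
        refine ⟨U + C, fun L hL => ?_⟩
        have h1 := (h0_step k i hF hG hS (hP L hL) (a + 1)).2.2
        rw [add_sub_cancel_right] at h1
        have := (abs_le.1 (hC L hL)).2
        linarith [hU L hL]
      | pred a _ ha =>
        obtain ⟨U, hU⟩ := ha
        obtain ⟨C, hC⟩ := hGC a
        refine ⟨U + C, fun L hL => ?_⟩
        have h1 := (h0_step k i hF hG hS (hP L hL) a).2.2
        have := (abs_le.1 (hC L hL)).1
        linarith [hU L hL]
    have bound : ∀ F : X.Modules, Coh.IsCoh F →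
        topologicalKrullDim (CohB1.support F) + 1 ≤ ((d + 1 : ℕ) : WithBot ℕ∞) →
        ∃ C : ℤ, ∀ L, P L → |Curv2.euler k X (CohB1.tensorMod F L)| ≤ C := by
      intro F hF hd
      have hd2 : topologicalKrullDim (CohB1.support F) ≤ ((2 : ℕ) : WithBot ℕ∞) :=
        (dim_succ_iff.1 hd).trans (by exact_mod_cast (show d ≤ 2 by omega))
      obtain ⟨c, hc⟩ := hq F hF hd2
      obtain ⟨U, hU⟩ := upper F hF hd 0
      have hU' : ∀ L, P L → Curv2.euler k X (CohB1.tensorMod F L) ≤ U := fun L hL => by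
        obtain ⟨e⟩ := nonempty_twist_zero i (CohB1.tensorMod F L)
        rw [← euler_iso (k := k) e]
        exact hU L hL
      refine ⟨|U| + |2 * Curv2.euler k X F - ⌈c⌉ - U|, fun L hL => ?_⟩
      obtain ⟨L', hL', ⟨e⟩⟩ := hsym L hL
      have h1 := abs_le.1 (hc L L' hL hL' ⟨e⟩)
      rw [q2_eq, euler_iso (k := k) (tensorAssoc F L L' ≪≫ tensorIso (Iso.refl F) e ≪≫ tensorUnitRight F)] at h1
      have h2 : ((2 * Curv2.euler k X F - Curv2.euler k X (CohB1.tensorMod F L) -
          Curv2.euler k X (CohB1.tensorMod F L') : ℤ) : ℚ) ≤ ((⌈c⌉ : ℤ) : ℚ) := by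
        push_cast
        linarith [Int.le_ceil c, h1.2]
      have h3 := Int.cast_le.1 h2
      have h4 := hU' L hL
      have h5 := hU' L' hL'
      rw [abs_le]
      constructor <;> linarith [le_abs_self U, neg_abs_le U, abs_nonneg U,
        abs_nonneg (2 * Curv2.euler k X F - ⌈c⌉ - U), neg_abs_le (2 * Curv2.euler k X F - ⌈c⌉ - U)]
    refine ⟨bound F hF hd, ?_⟩
    obtain ⟨G, f, g, hfg, hS, hG, hGd⟩ := exists_hyperplane i hF (dim_succ_iff.1 hd)
    obtain ⟨m, hm⟩ := (ih G hG hGd).2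
    obtain ⟨B, hB⟩ := bddP_all k i P hP hneg (d + 1) F hF hd (m - 1)
    obtain ⟨C, hC⟩ := bound (Pic13.twistOn k i F (m - 1)) (Groth.L22.Reg.isCoh_twistOn i hF _) (by
      rw [show CohB1.support (Pic13.twistOn k i F (m - 1)) = CohB1.support F from
        support_tensor (isInvertible_OX i (m - 1)) F]
      exact hd)
    refine ⟨m + ((B : ℤ) + C).toNat, fun L hL => ?_⟩
    obtain ⟨f', g', h', hS'⟩ := exists_seq_tensor k i hS (hP L hL)
    obtain ⟨-, -, -, hr⟩ := Groth.Agent.S12112.result k n X i hi _ _ (isCoh_tensor (hP L hL) hF)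
      (isCoh_tensor (hP L hL) hG) f' g' h' hS' m (hm L hL)
    refine (Groth.L22.Reg.regular_push_iff i hi (isCoh_tensor (hP L hL) hF)).2
      (((Groth.L22.Reg.regular_push_iff i hi (isCoh_tensor (hP L hL) hF)).1 hr).of_le ?_)
    have h1 := euler_eq_h0_sub k i hi (isCoh_tensor (hP L hL) hF) (isCoh_tensor (hP L hL) hG) hS' (hm L hL)
    rw [euler_iso (twistTensor i F L (m - 1))] at h1
    have h2 : (h0 k (Pic13.twistOn k i (CohB1.tensorMod F L) (m - 1)) : ℤ) ≤ B := by exact_mod_cast hB L hL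
    have h3 := (abs_le.1 (hC L hL)).1
    omega

end Groth.L11.Bdd
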